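import Cfsg.Agent.Lib.Spor.HSType.Full

/-!
# Two classes of involutions

The odd elements over the two maximal subgroups join the outer classes in pairs; Goldschmidt's bound on a strongly
closed abelian subgroup puts one of them into the class of the centre.
-/

set_option autoImplicit false
set_option linter.unusedSectionVars false
set_option maxRecDepth 100000
set_option maxHeartbeats 4000000

namespace Cfsg.Agent.Spor.HSType

open Subgroup
open Cfsg.Agent.Spor.JTwoType (cI mem_cI card_cI)

universe u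

/-- The side of an outer involution of the first maximal subgroup. -/
def side (n : Fin 512) : Bool := inC 3 n || inC 7 n

/-- An outer involution of the first maximal subgroup. -/
def outA (n : Fin 512) : Bool := isInv n && !inK n && inF false (dP n)

/-- An elementary subgroup of order 16. -/
def inE16 (n : Fin 512) : Bool := Nat.testBit
  811654623827167672562212342559280142582225403368193955011776007856693173920546550053715242709956780955746829054681932938538838110053716923661681665 n

theorem side_class : ∀ n : Fin 512, outA n = true →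
    inC 3 n = true ∨ inC 4 n = true ∨ inC 7 n = true ∨ inC 8 n = true := by decide +kernel

theorem side_base : ∀ n : Fin 512, outA n = true → dP n ≠ 2 →
    (side n = true → inC 7 n = true) ∧ (side n = false → inC 8 n = true) := by decide +kernel

theorem side_edge : ∀ n : Fin 512, outA n = true → ∀ m : Fin 512, outA m = true →
    commS n m = true → n ≠ m → side n = side m := by decide +kernel

theorem side_conn : ∀ c : Fin 512, outA c = true → ∃ w : Fin 512, outA w = true ∧
    commS w (if side c then 128 else 133) = true ∧ commS c w = true := by decide +kernel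

theorem outA_facts : outA 128 = true ∧ outA 133 = true ∧ side 128 = true ∧ side 133 = false ∧
    (Finset.univ.filter fun n => outA n = true ∧ side n = false).card = 24 ∧
    (Finset.univ.filter fun n => outA n = true).card = 48 ∧ dP 128 = 2 ∧ dP 133 = 2 := by decide +kernel

theorem tF_moves : ∀ e, inF false e = true → ∀ b : Bool, ∀ f : Fin 8, inF false f = true →
    cmp (if b then pwL (cmp (dMap e) tA) 2 else cmp (dMap e) tA) (dMap 2) =
      cmp (dMap f) (if b then pwL (cmp (dMap e) tA) 2 else cmp (dMap e) tA) → f ≠ 2 := by decide +kernel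

theorem t_six : ∀ e, inF false e = true → ∀ t : LMap,
    (t = cmp (dMap e) (tF false) ∨ t = pwL (cmp (dMap e) (tF false)) 2) → app t 6 = 6 := by
  intro e he t h
  have := (by decide +kernel : ∀ e, inF false e = true →
    app (cmp (dMap e) (tF false)) 6 = 6 ∧ app (pwL (cmp (dMap e) (tF false)) 2) 6 = 6) e he
  rcases h with rfl | rfl
  exacts [this.1, this.2]

theorem tF_movesB : ∀ e, inF true e = true → ∀ b : Bool, ∀ f : Fin 8, inF true f = true →
    cmp (if b then pwL (cmp (dMap e) tB) 2 else cmp (dMap e) tB) (dMap 2) =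
      cmp (dMap f) (if b then pwL (cmp (dMap e) tB) 2 else cmp (dMap e) tB) → f = 5 ∨ f = 7 := by decide +kernel

theorem b_class : ∀ n : Fin 512, isInv n = true → (dP n = 5 ∨ dP n = 7) → inC 5 n = true ∨ inC 6 n = true := by
  decide +kernel

theorem b_counts : (∀ e : Fin 8, (e = 5 ∨ e = 7) → ∀ k : Fin 9, (k = 5 ∨ k = 6) →
    (Finset.univ.filter fun v : Fin 64 => inC k (mkC v e) = true).card = 8) ∧
    (Finset.univ.filter fun v : Fin 64 => isInv (mkC v 2) = true).card = 16 ∧
    (∀ v : Fin 64, isInv (mkC v 2) = true → inC 3 (mkC v 2) = true ∨ inC 4 (mkC v 2) = true) := by decide +kernel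

theorem conj_inT : ∀ k : Fin 9, (k = 3 ∨ k = 4) → ∀ c : Fin 512, inC k c = true →
    ∃ g : Fin 512, inF true (dP g) = true ∧ conjS g (rep k) = c := by decide +kernel

theorem inC_closed : ∀ k : Fin 9, (k = 5 ∨ k = 6) → ∀ x : Fin 512, inC k x = true → ∀ g : Fin 512,
    inC k (conjS g x) = true := by decide +kernel

theorem coset_unique : ∀ e, inF true e = true → ∀ b : Bool, ∀ f f' : Fin 8,
    cmp (dMap f) (if b then pwL (cmp (dMap e) tB) 2 else cmp (dMap e) tB) =
      cmp (dMap f') (if b then pwL (cmp (dMap e) tB) 2 else cmp (dMap e) tB) → f = f' := by decide +kernel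

theorem class_dP : ∀ n : Fin 512, (inC 3 n = true ∨ inC 4 n = true) →
    dP n = 2 ∧ inF true (dP n) = true := by decide +kernel

theorem E16_closed : inE16 0 = true ∧ (∀ n : Fin 512, inE16 n = true → ∀ m : Fin 512, inE16 m = true →
    inE16 (mulS n m) = true ∧ commS n m = true) ∧ (∀ n : Fin 512, inE16 n = true → mulS n n = 0 ∧ inE16 (invS n) = true) ∧
    (Finset.univ.filter fun n => inE16 n = true).card = 16 := by decide +kernel

theorem inC_range : ∀ k : Fin 9, k = 0 ∨ k = 1 ∨ k = 2 ∨ k = 3 ∨ k = 4 ∨ k = 5 ∨ k = 6 ∨ k = 7 ∨ k = 8 := by decide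

variable {G : Type u} [Group G] [Finite G]

namespace Setting

variable (d : Setting G)

theorem map_code {n : G} {b : Bool} (hn : cI n (d.subT b) = d.subT b) {c : Fin 512} (hc : inF b (dP c) = true) :
    ∃ c', inF b (dP c') = true ∧ d.s.φ c' = n * d.s.φ c * n⁻¹ := by
  have h := hn.le (mem_cI (g := n) (d.s.mem_sub.2 hc : d.s.φ c ∈ d.subT b))
  obtain ⟨c', hc', e⟩ := h
  exact ⟨c', hc', e⟩

/-- The coset of an image. -/
theorem coset_of_map {n : G} (hn : n ∈ normalizer (d.subK : Set G)) {t : LMap}
    (ht : ∀ i, n * d.vpt i * n⁻¹ = d.vpt (app t i)) {c c' : Fin 512} (e : d.s.φ c' = n * d.s.φ c * n⁻¹) :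
    cmp t (dMap (dP c)) = cmp (dMap (dP c')) t := by
  have hC := fun x => d.S_le_normalizer_subK (d.s.mem x)
  have e' : n * d.s.φ c = d.s.φ c' * n := by rw [e, inv_mul_cancel_right]
  exact d.act_unique (n := n * d.s.φ c) (d.act_comp hn (hC c) ht (d.act_dP c))
    (e' ▸ d.act_comp (hC c') hn (d.act_dP c') ht)

theorem map_outA {n : G} (hn : n ∈ normalizer (d.subK : Set G)) {c c' : Fin 512}
    (e : d.s.φ c' = n * d.s.φ c * n⁻¹) (hc : isInv c = true) (hK : inK c = false) :
    isInv c' = true ∧ inK c' = false := by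
  refine ⟨d.isInv_of_isConj hc (isConj_iff.2 ⟨n, e.symm⟩), Bool.eq_false_iff.2 fun h => ?_⟩
  have : n * d.s.φ c * n⁻¹ ∈ d.subK := e ▸ d.s.mem_sub.2 h
  have := (mem_normalizer_iff.1 hn _).2 this
  rw [show d.subK = d.s.sub _ _ _ _ from rfl, d.s.mem_sub, hK] at this
  exact Bool.noConfusion this

/-- An element centralising the centre carries the classes 3, 4 to the classes 7, 8. -/
theorem fuse_A_z : ∃ n ∈ normalizer (d.subK : Set G), n * d.s.φ 40 = d.s.φ 40 * n ∧
    (∃ a, inC 7 a = true ∧ d.s.φ a = n * d.s.φ 128 * n⁻¹) ∧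
    ∃ b, inC 8 b = true ∧ d.s.φ b = n * d.s.φ 133 * n⁻¹ := by
  obtain ⟨n, hn, hnT, hodd, e, he, t, htc, ht⟩ := d.exists_odd false
  obtain ⟨o128, o133, s128, s133, c24, c48, d128, d133⟩ := outA_facts
  have hout : ∀ c, outA c = true → isInv c = true ∧ inK c = false ∧ inF false (dP c) = true := fun c hc => by
    simpa [outA, Bool.and_eq_true, Bool.not_eq_true', and_assoc] using hc
  have himg : ∀ c, outA c = true → ∃ c', outA c' = true ∧ d.s.φ c' = n * d.s.φ c * n⁻¹ := fun c hc => by
    obtain ⟨h1, h2, h3⟩ := hout c hc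
    obtain ⟨c', hc', e'⟩ := d.map_code hnT h3
    obtain ⟨h1', h2'⟩ := d.map_outA hn e' h1 h2
    exact ⟨c', by simp [outA, h1', h2', hc'], e'⟩
  choose! f hf hfe using himg
  have finj : ∀ a, outA a = true → ∀ b, outA b = true → f a = f b → a = b := fun a ha b hb h =>
    d.s.inj (mul_left_cancel (mul_right_cancel (show n * d.s.φ a * n⁻¹ = n * d.s.φ b * n⁻¹ by
      rw [← hfe a ha, ← hfe b hb, h])))
  have fedge : ∀ a, outA a = true → ∀ b, outA b = true → commS a b = true → side (f a) = side (f b) := by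
    intro a ha b hb hab
    by_cases h : f a = f b
    · rw [h]
    refine side_edge _ (hf a ha) _ (hf b hb) (d.s.commute.1 ?_) h
    rw [hfe a ha, hfe b hb]
    calc n * d.s.φ a * n⁻¹ * (n * d.s.φ b * n⁻¹) = n * (d.s.φ a * d.s.φ b) * n⁻¹ := by group
      _ = n * (d.s.φ b * d.s.φ a) * n⁻¹ := by rw [d.s.commute.2 hab]
      _ = _ := by group
  have fside : ∀ c, outA c = true → side (f c) = side (f (if side c then 128 else 133)) := fun c hc => by
    obtain ⟨w, hw, hwb, hcw⟩ := side_conn c hc
    rw [fedge c hc w hw hcw, fedge w hw _ (by split_ifs <;> assumption) hwb]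
  have hswap : side (f 128) ≠ side (f 133) := fun h => by
    have hsub : ((Finset.univ.filter fun c => outA c = true).image f) ⊆
        Finset.univ.filter fun c => outA c = true ∧ side c = side (f 128) := by
      intro x hx
      simp only [Finset.mem_image, Finset.mem_filter, Finset.mem_univ, true_and] at hx ⊢
      obtain ⟨c, hc, rfl⟩ := hx
      refine ⟨hf c hc, (fside c hc).trans ?_⟩
      split_ifs <;> simp [h]
    have h1 := Finset.card_le_card hsub
    rw [Finset.card_image_of_injOn (fun a ha b hb h => finj a (by simpa using ha) b (by simpa using hb) h), c48] at h1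
    have h24 : ∀ s : Bool, (Finset.univ.filter fun c => outA c = true ∧ side c = s).card = 24 := by
      have := Finset.card_filter_add_card_filter_not (s := Finset.univ.filter fun c => outA c = true)
        (fun c => side c = false)
      rw [Finset.filter_filter, Finset.filter_filter, c48, c24] at this
      intro s
      cases s
      · exact c24
      · simp only [Bool.not_eq_false] at this
        omega
    rw [h24] at h1
    omega
  have hkeep : side (f 128) = true := by
    by_contra h
    have h' : side (f 128) = false := by simpa using h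
    have h133 : side (f 133) = true := by
      by_contra h2
      exact hswap (h'.trans (by simpa using h2 : side (f 133) = false).symm)
    have hflip : ∀ c, outA c = true → side (f c) = !side c := fun c hc => by
      rw [fside c hc]
      cases side c <;> simp [h', h133]
    have hit : ∀ k : ℕ, ∃ c, outA c = true ∧ d.s.φ c = n ^ k * d.s.φ 128 * (n ^ k)⁻¹ ∧ side c = (k % 2 == 0) := by
      intro k
      induction k with
      | zero => exact ⟨128, o128, by simp, by simp [s128]⟩
      | succ k ih =>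
        obtain ⟨c, hc, e, hs⟩ := ih
        refine ⟨f c, hf c hc, by rw [hfe c hc, e, pow_succ']; group, ?_⟩
        rw [hflip c hc, hs]
        rcases Nat.mod_two_eq_zero_or_one k with h | h <;> simp [Nat.add_mod, h]
    obtain ⟨c, -, e, hs⟩ := hit (orderOf n)
    rw [pow_orderOf_eq_one, one_mul, inv_one, mul_one] at e
    rw [d.s.inj e, s128, Nat.odd_iff.1 hodd] at hs
    exact Bool.noConfusion hs
  have h133 : side (f 133) = false := by
    by_contra h
    exact hswap (hkeep.trans (by simpa using h : side (f 133) = true).symm)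
  have hd : ∀ c, outA c = true → dP c = 2 → dP (f c) ≠ 2 := fun c hc hc2 => by
    have h := d.coset_of_map hn ht (hfe c hc)
    rw [hc2] at h
    rcases htc with rfl | rfl
    · exact tF_moves e he false _ (hout _ (hf c hc)).2.2 h
    · exact tF_moves e he true _ (hout _ (hf c hc)).2.2 h
  have h6 := ht 6
  rw [show app t 6 = 6 from t_six e he t htc, d.vpt_six] at h6
  exact ⟨n, hn, mul_inv_eq_iff_eq_mul.1 h6,
    ⟨_, (side_base _ (hf _ o128) (hd _ o128 d128)).1 hkeep, hfe _ o128⟩,
    _, (side_base _ (hf _ o133) (hd _ o133 d133)).2 h133, hfe _ o133⟩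

/-- The classes 3, 7 and the classes 4, 8 are fused. -/
theorem fuse_A : IsConj (d.s.φ 128) (d.s.φ 256) ∧ IsConj (d.s.φ 133) (d.s.φ 257) := by
  obtain ⟨n, -, -, ⟨a, ha, ea⟩, b, hb, eb⟩ := d.fuse_A_z
  exact ⟨(isConj_iff.2 ⟨n, ea.symm⟩ : IsConj (d.s.φ 128) (d.s.φ a)).trans (d.conj_rep ha).symm,
    (isConj_iff.2 ⟨n, eb.symm⟩ : IsConj (d.s.φ 133) (d.s.φ b)).trans (d.conj_rep hb).symm⟩

/-- The two classes of a coset have different images. -/
theorem too_many {n : G} (hn : n ∈ normalizer (d.subK : Set G)) (hnT : cI n (d.subT true) = d.subT true) {t : LMap}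
    (ht : ∀ i, n * d.vpt i * n⁻¹ = d.vpt (app t i)) {k : Fin 9} (hk : k = 5 ∨ k = 6) (e : Fin 8)
    (he : inF true e = true) (htc : t = cmp (dMap e) tB ∨ t = pwL (cmp (dMap e) tB) 2) (a : Fin 512)
    (ha : dP a = 5 ∨ dP a = 7) (hak : inC k a = true) (hae : d.s.φ a = n * d.s.φ 128 * n⁻¹) (b : Fin 512)
    (hbk : inC k b = true) (hbe : d.s.φ b = n * d.s.φ 133 * n⁻¹) : False := by
  have huniq : ∀ f f' : Fin 8, cmp (dMap f) t = cmp (dMap f') t → f = f' := by
    rcases htc with rfl | rfl
    · exact coset_unique e he false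
    · exact coset_unique e he true
  have hd2 : dP 128 = 2 := outA_facts.2.2.2.2.2.2.1
  have hall : ∀ v : {v : Fin 64 // isInv (mkC v 2) = true}, ∃ w : {w : Fin 64 // inC k (mkC w (dP a)) = true},
      d.s.φ (mkC w (dP a)) = n * d.s.φ (mkC v 2) * n⁻¹ := by
    rintro ⟨v, hv⟩
    obtain ⟨j, hj, hjc, x, hxk, hx⟩ : ∃ j, (j = 3 ∨ j = 4) ∧ inC j (mkC v 2) = true ∧
        ∃ x, inC k x = true ∧ d.s.φ x = n * d.s.φ (rep j) * n⁻¹ :=
      (b_counts.2.2 v hv).elim (fun h => ⟨3, Or.inl rfl, h, a, hak, hae⟩) fun h => ⟨4, Or.inr rfl, h, b, hbk, hbe⟩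
    obtain ⟨g, hgT, hg⟩ := conj_inT j hj _ hjc
    obtain ⟨g', -, hg'⟩ := d.map_code hnT hgT
    have himg : d.s.φ (conjS g' x) = n * d.s.φ (mkC v 2) * n⁻¹ := by
      rw [← d.s.conj, hg', hx, ← hg, ← d.s.conj]; group
    have hcls : inC k (conjS g' x) = true := by
      exact inC_closed k hk x hxk g'
    have hd : dP (conjS g' x) = dP a := by
      have h1 := d.coset_of_map hn ht himg
      rw [dP_mkC] at h1
      have h2 := d.coset_of_map hn ht hae
      rw [hd2] at h2
      exact huniq _ _ (h1.symm.trans h2)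
    have hx' : mkC (vP (conjS g' x)) (dP a) = conjS g' x := by rw [← hd, mkC_parts]
    exact ⟨⟨vP (conjS g' x), hx'.symm ▸ hcls⟩, (congrArg d.s.φ hx').trans himg⟩
  choose f hf using hall
  have hinj : Function.Injective f := fun v w h => by
    have := (hf v).symm.trans ((congrArg (fun u : {w : Fin 64 // inC k (mkC w (dP a)) = true} =>
      d.s.φ (mkC u.1 (dP a))) h).trans (hf w))
    have h2 := congrArg vP (d.s.inj (mul_left_cancel (mul_right_cancel this)))
    rw [vP_mkC, vP_mkC] at h2
    exact Subtype.ext h2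
  have := Fintype.card_le_of_injective f hinj
  rw [Fintype.card_subtype, Fintype.card_subtype, b_counts.2.1, b_counts.1 _ ha k hk] at this
  omega

/-- One of the classes 5, 6 is fused to 3 and the other to 4. -/
theorem fuse_B : (IsConj (d.s.φ 128) (d.s.φ 320) ∧ IsConj (d.s.φ 133) (d.s.φ 339)) ∨
    (IsConj (d.s.φ 128) (d.s.φ 339) ∧ IsConj (d.s.φ 133) (d.s.φ 320)) := by
  obtain ⟨n, hn, hnT, hodd, e, he, t, htc, ht⟩ := d.exists_odd true
  have himg : ∀ c, (inC 3 c = true ∨ inC 4 c = true) → ∃ c', (dP c' = 5 ∨ dP c' = 7) ∧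
      (inC 5 c' = true ∨ inC 6 c' = true) ∧ d.s.φ c' = n * d.s.φ c * n⁻¹ := fun c hc => by
    obtain ⟨hd, hF⟩ := class_dP c hc
    obtain ⟨c', hc', e'⟩ := d.map_code hnT hF
    have h := d.coset_of_map hn ht e'
    rw [hd] at h
    have hd' : dP c' = 5 ∨ dP c' = 7 := by
      rcases htc with rfl | rfl
      · exact tF_movesB e he false _ hc' h
      · exact tF_movesB e he true _ hc' h
    exact ⟨c', hd', b_class c' (d.isInv_of_isConj ((inC_inv c).2 (hc.elim (fun h => ⟨_, h⟩) fun h => ⟨_, h⟩))
      (isConj_iff.2 ⟨n, e'.symm⟩)) hd', e'⟩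
  obtain ⟨a, ha, ha56, hae⟩ := himg 128 (Or.inl (rep_facts 3).1)
  obtain ⟨b, hb, hb56, hbe⟩ := himg 133 (Or.inr (rep_facts 4).1)
  have hA : IsConj (d.s.φ 128) (d.s.φ a) := isConj_iff.2 ⟨n, hae.symm⟩
  have hB : IsConj (d.s.φ 133) (d.s.φ b) := isConj_iff.2 ⟨n, hbe.symm⟩
  rcases ha56 with ha5 | ha6 <;> rcases hb56 with hb5 | hb6
  rotate_left
  · exact Or.inl ⟨hA.trans (d.conj_rep ha5).symm, hB.trans (d.conj_rep hb6).symm⟩
  · exact Or.inr ⟨hA.trans (d.conj_rep ha6).symm, hB.trans (d.conj_rep hb5).symm⟩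
  all_goals exfalso
  rotate_left
  · exact d.too_many hn hnT ht (k := 5) (Or.inl rfl) e he htc a ha ha5 hae b hb5 hbe
  · exact d.too_many hn hnT ht (k := 6) (Or.inr rfl) e he htc a ha ha6 hae b hb6 hbe

end Setting

end Cfsg.Agent.Spor.HSType
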