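import Cfsg.Agent.Lib.Spor.HSType.CentFacts
import Cfsg.Agent.Lib.Spor.HSType.Classes

/-!
# Finite facts for the centralizer of the central involution
-/

set_option autoImplicit false
set_option maxRecDepth 100000
set_option maxHeartbeats 4000000

namespace Cfsg.Agent.Spor.HSType

/-- The subgroup of order 64 generated by the elementary one and the classes 3 and 7. -/
def inR (n : Fin 512) : Bool := Nat.testBit
  228024573158558415416952696696218420186592403845665525773718351158996342818703195329075229976974381563032635606709458823744137278260485 n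

/-- The involutions commuting with some representatives. -/
def invL : ℕ → List (Fin 512)
  | 10 => [0, 2, 8, 10, 32, 34, 40, 42, 128, 133, 138, 143, 147, 148, 153, 158, 162, 167, 168, 173, 177, 182, 187, 188, 320, 327, 330, 333, 339, 342, 345, 348, 354, 357, 360, 367, 369, 372, 379, 382, 448, 453, 458, 463, 465, 470, 475, 476, 482, 487, 488, 493, 499, 500, 505, 510]
  | 2 => [0, 2, 8, 10, 32, 34, 40, 42, 256, 257, 258, 259, 284, 285, 286, 287, 296, 297, 298, 299, 308, 309, 310, 311]
  | 128 => [0, 10, 34, 40, 128, 138, 162, 168, 256, 284, 296, 308, 320, 330, 342, 348, 354, 360, 372, 382, 384, 412, 424, 436, 448, 458, 470, 476, 482, 488, 500, 510]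
  | 133 => [0, 10, 34, 40, 133, 143, 167, 173, 257, 285, 297, 309, 320, 330, 342, 348, 354, 360, 372, 382, 388, 400, 428, 440, 453, 463, 465, 475, 487, 493, 499, 505]
  | 256 => [0, 2, 40, 42, 128, 148, 168, 188, 256, 258, 296, 298, 384, 404, 424, 444]
  | 257 => [0, 2, 40, 42, 133, 153, 173, 177, 257, 259, 297, 299, 396, 400, 420, 440]
  | 20 => [0, 2, 8, 10, 32, 34, 40, 42, 256, 257, 258, 259, 284, 285, 286, 287, 296, 297, 298, 299, 308, 309, 310, 311]
  | 22 => [0, 2, 8, 10, 32, 34, 40, 42, 128, 133, 138, 143, 147, 148, 153, 158, 162, 167, 168, 173, 177, 182, 187, 188, 256, 257, 258, 259, 284, 285, 286, 287, 296, 297, 298, 299, 308, 309, 310, 311, 384, 388, 392, 396, 400, 404, 408, 412, 416, 420, 424, 428, 432, 436, 440, 444]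
  | 28 => [0, 2, 8, 10, 32, 34, 40, 42, 128, 133, 138, 143, 147, 148, 153, 158, 162, 167, 168, 173, 177, 182, 187, 188]
  | 130 => [0, 10, 34, 40, 148, 158, 182, 188, 256, 284, 296, 308, 392, 404, 416, 444]
  | _ => []

/-- The square roots of some representatives commuting with them. -/
def sqL : ℕ → List (Fin 512)
  | 20 => [260, 261, 262, 263, 272, 273, 274, 275, 300, 301, 302, 303, 312, 313, 314, 315]
  | 28 => [129, 134, 139, 140, 144, 149, 154, 159, 163, 164, 169, 174, 178, 183, 184, 189]
  | _ => []

theorem R_closed : inR 0 = true ∧ inR 40 = true ∧ (∀ n : Fin 512, inR n = true → ∀ m : Fin 512, inR m = true →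
    inR (mulS n m) = true ∧ (mulS n m = mulS m n ∨ mulS n m = mulS 40 (mulS m n))) ∧
    (∀ n : Fin 512, inR n = true → inR (invS n) = true ∧ (mulS n n = 0 ∨ mulS n n = 40)) ∧
    (Finset.univ.filter fun n : Fin 512 => inR n = true).card = 64 := by decide +kernel

theorem R_conj_K : ∀ v : Fin 64, ∀ n : Fin 512, inR n = true → inR (conjS (mkC v 0) n) = true := by decide +kernel

theorem R_conj_D : ∀ d : Fin 8, ∀ n : Fin 512, inR n = true → inR (conjS (mkC 0 d) n) = true := by decide +kernel

theorem split_code : ∀ v : Fin 64, ∀ d : Fin 8, mulS (mkC v 0) (mkC 0 d) = mkC v d := by decide +kernel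

/-- Conjugators reaching every element squaring to the centre from its representative. -/
def trans4 : List (Fin 512) := [0, 320, 128, 198, 1, 4, 12, 72, 9, 13, 67, 69, 71, 324, 5, 8, 65, 68]

theorem R_inv : ∀ n : Fin 512, isInv n = true → (inR n = true ↔
    inC 0 n = true ∨ inC 1 n = true ∨ inC 2 n = true ∨ inC 3 n = true ∨ inC 7 n = true) := by decide +kernel

/-- The elements squaring to the centre. -/
theorem four_class : ∀ n : Fin 512, mulS n n = 40 → inR n = true ∧ (∃ r : Fin 512,
    r ∈ ([20, 22, 28, 130, 264] : List (Fin 512)) ∧ ∃ g ∈ trans4, conjS g r = n) ∨ inR n = false ∧ (∃ r : Fin 512,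
    r ∈ ([135, 265] : List (Fin 512)) ∧ ∃ g ∈ trans4, conjS g r = n) := by decide +kernel

theorem cent_values : centCard 10 = 256 ∧ centCard 2 = 128 ∧ centCard 128 = 64 ∧ centCard 133 = 64 ∧
    centCard 256 = 32 ∧ centCard 257 = 32 ∧ centCard 320 = 32 ∧ centCard 339 = 32 ∧ centCard 20 = 128 ∧
    centCard 22 = 256 ∧ centCard 28 = 256 ∧ centCard 130 = 64 ∧ centCard 135 = 64 ∧ centCard 264 = 32 ∧
    centCard 265 = 32 := by decide +kernel

theorem invL_spec : ∀ y ∈ ([10, 2, 128, 133, 256, 257, 20, 22, 28, 130] : List (Fin 512)),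
    ∀ n : Fin 512, commS y n = true → mulS n n = 0 → n ∈ invL y := by decide +kernel

theorem sqL_spec : ∀ y ∈ ([20, 22, 28, 130] : List (Fin 512)),
    ∀ n : Fin 512, commS y n = true → mulS n n = y → n ∈ sqL y := by decide +kernel

/-- Outside the group generated by the centre and `y`. -/
def offY (y w : Fin 512) : Bool := w != 0 && w != 40 && w != y && w != mulS 40 y

/-- Two involutions commuting with a representative have a product squaring into the small group. -/
theorem pair_none : ∀ y ∈ ([10, 2, 128, 256, 257] : List (Fin 512)), ∀ c ∈ invL y, ∀ b ∈ invL y,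
    offY y (mulS (mulS c b) (mulS c b)) = false := by decide +kernel

theorem pair_four : ∀ c ∈ invL 133, ∀ b ∈ invL 133, offY 133 (mulS (mulS c b) (mulS c b)) = true →
    mulS (mulS (mulS c b) (mulS c b)) (mulS (mulS c b) (mulS c b)) ≠ 0 := by decide +kernel

/-- The triples are searched in this order. -/
def triChk (y : Fin 512) : Prop := ∀ b ∈ sqL y, ∀ d ∈ invL y, commS b d = true → ∀ c ∈ invL y,
    mulS (mulS c d) (mulS c d) = 40 → offY y (mulS (mulS b c) (mulS b c)) = false

theorem triple_twenty : triChk 20 := by unfold triChk; decide +kernel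

theorem triple_twentyEight : triChk 28 := by unfold triChk; decide +kernel

theorem triple_none : ∀ y ∈ ([20, 22, 28, 130] : List (Fin 512)), triChk y := by
  intro y hy
  simp only [List.mem_cons, List.not_mem_nil, or_false] at hy
  rcases hy with rfl | rfl | rfl | rfl
  · exact triple_twenty
  · intro b hb; exact absurd hb (by simp [sqL])
  · exact triple_twentyEight
  · intro b hb; exact absurd hb (by simp [sqL])

theorem witness_facts : (commS 133 257 = true ∧ commS 133 320 = true ∧ mulS 257 257 = 0 ∧ mulS 320 320 = 0 ∧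
    offY 133 (mulS (mulS 257 320) (mulS 257 320)) = true) ∧
    (∀ x ∈ ([320, 339] : List (Fin 512)), ∃ p ∈ ([(128, 133), (147, 148)] : List (Fin 512 × Fin 512)),
      commS x p.1 = true ∧ commS x p.2 = true ∧ mulS p.1 p.1 = 0 ∧ mulS p.2 p.2 = 0 ∧
      offY x (mulS (mulS p.1 p.2) (mulS p.1 p.2)) = true ∧
      mulS (mulS (mulS p.1 p.2) (mulS p.1 p.2)) (mulS (mulS p.1 p.2) (mulS p.1 p.2)) = 0) ∧
    commS 135 67 = true ∧ commS 135 257 = true ∧ commS 135 147 = true ∧ mulS 67 67 = 135 ∧ mulS 147 147 = 0 ∧
    commS 67 147 = true ∧ mulS (mulS 257 147) (mulS 257 147) = 40 ∧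
    offY 135 (mulS (mulS 67 257) (mulS 67 257)) = true := by decide +kernel

/-- The products of an outer involution with an involution of the elementary subgroup. -/
theorem move_seven : ∀ a : Fin 512, inC 7 a = true → ∀ v : Fin 64, inV (mkC v 0) = true →
    mulS (mulS (mkC v 0) a) (mulS (mkC v 0) a) = 40 →
      trans4.any (fun g => conjS g 264 == mulS (mkC v 0) a) = true := by decide +kernel

theorem move_eight : ∀ b : Fin 512, inC 8 b = true → ∀ v : Fin 64, inV (mkC v 0) = true →
    mulS (mulS (mkC v 0) b) (mulS (mkC v 0) b) = 40 →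
      trans4.any (fun g => conjS g 265 == mulS (mkC v 0) b) = true := by decide +kernel

theorem move_codes : mulS 2 128 = 130 ∧ mulS 2 133 = 135 ∧ inV 2 = true := by decide +kernel

end Cfsg.Agent.Spor.HSType
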