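import Cfsg.Agent.Lib.Spor.HSType.Shape

/-!
# Centralizers of the codes outside the homocyclic subgroup
-/

set_option autoImplicit false
set_option maxRecDepth 100000
set_option maxHeartbeats 4000000

namespace Cfsg.Agent.Spor.HSType

/-- The number of codes commuting with a code. -/
def centCard (n : Fin 512) : ℕ := (Finset.univ.filter fun m : Fin 512 => commS n m = true).card

/-- The check at one code. -/
def centChk (n : Fin 512) (c : ℕ) : Bool :=
  decide (c ≤ 32) || ((decide (c ≤ 64) && (mulS n n == 0 || mulS n n == 40)) &&
    (List.finRange 512).any fun a => commS n a && (List.finRange 512).any fun b => commS n b && !commS a b)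

/-- The check. -/
def centOk (n : Fin 512) : Bool := centChk n (centCard n)

theorem cent_block1 : ∀ v : Fin 64, centOk (mkC v 1) = true := by decide +kernel

theorem cent_block2 : ∀ v : Fin 64, centOk (mkC v 2) = true := by decide +kernel

theorem cent_block3 : ∀ v : Fin 64, centOk (mkC v 3) = true := by decide +kernel

theorem cent_block4 : ∀ v : Fin 64, centOk (mkC v 4) = true := by decide +kernel

theorem cent_block5 : ∀ v : Fin 64, centOk (mkC v 5) = true := by decide +kernel

theorem cent_block6 : ∀ v : Fin 64, centOk (mkC v 6) = true := by decide +kernel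

theorem cent_block7 : ∀ v : Fin 64, centOk (mkC v 7) = true := by decide +kernel

theorem cent_ok (n : Fin 512) (hn : 64 ≤ (n : ℕ)) : centOk n = true := by
  rw [← mkC_parts n]
  have hd : dP n ≠ 0 := fun e => by
    have := congrArg Fin.val e
    simp only [dP, Fin.val_zero] at this
    omega
  generalize vP n = v
  generalize dP n = d at hd
  fin_cases d
  exacts [absurd rfl hd, cent_block1 v, cent_block2 v, cent_block3 v, cent_block4 v, cent_block5 v, cent_block6 v,
    cent_block7 v]

theorem cent_outer (n : Fin 512) (hn : 64 ≤ (n : ℕ)) : centCard n ≤ 32 ∨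
    (centCard n ≤ 64 ∧ ∃ a, commS n a = true ∧ ∃ b, commS n b = true ∧ commS a b = false) := by
  have h := cent_ok n hn
  simp only [centOk, centChk, Bool.or_eq_true, Bool.and_eq_true, decide_eq_true_eq, List.any_eq_true,
    List.mem_finRange, true_and, Bool.not_eq_true'] at h
  exact h.imp_right fun ⟨⟨h1, _⟩, a, ha, b, hb, hab⟩ => ⟨h1, a, ha, b, hb, hab⟩

/-- The elements outside with a larger centralizer square into the centre. -/
theorem cent_square (n : Fin 512) (hn : 64 ≤ (n : ℕ)) (hc : 32 < centCard n) : mulS n n = 0 ∨ mulS n n = 40 := by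
  have h := cent_ok n hn
  simp only [centOk, centChk, Bool.or_eq_true, Bool.and_eq_true, decide_eq_true_eq, beq_iff_eq] at h
  exact h.elim (fun h => absurd h (by omega)) fun h => h.1.2

end Cfsg.Agent.Spor.HSType
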