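import Cfsg.Agent.Lib.Spor.HSType.CentCls

/-!
# The extraspecial part and the centre of the subgroup of order 64
-/

set_option autoImplicit false
set_option maxRecDepth 100000
set_option maxHeartbeats 4000000

namespace Cfsg.Agent.Spor.HSType

/-- Generators of the subgroup of order 64. -/
def genR : List (Fin 512) := [2, 8, 128, 256, 22]

/-- Commuting modulo the centre. -/
def commZ (n m : Fin 512) : Bool := mulS n m == mulS m n || mulS n m == mulS 40 (mulS m n)

theorem cent_mod : ∀ n : Fin 512, (∀ r ∈ genR, commZ n r = true) → inR n = true := by decide +kernel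

theorem genR_mem : ∀ r ∈ genR, inR r = true := by decide +kernel

theorem center_R : ∀ n : Fin 512, inR n = true → (∀ r ∈ genR, commS n r = true) →
    n = 0 ∨ n = 22 ∨ n = 40 ∨ n = 62 := by decide +kernel

theorem center_facts : mulS 22 22 = 40 ∧ inR 22 = true ∧ commS 22 2 = true ∧ commS 22 8 = true ∧
    commS 22 128 = true ∧ commS 22 256 = true ∧ mulS 40 22 = 62 := by decide +kernel

theorem center_comm : ∀ n : Fin 512, inR n = true → commS 22 n = true := by decide +kernel

/-- The group generated modulo the centre by two elements. -/
def span2 (a b : Fin 512) : List (Fin 512) :=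
  [0, 40, a, b, mulS a b, mulS 40 a, mulS 40 b, mulS 40 (mulS a b)]

/-- A quaternion subgroup is moved onto one not centralising it. -/
def quatChk (a : Fin 512) : Prop := ∀ b : Fin 512, inR b = true → mulS b b = 40 → commS a b = false →
    mulS (mulS a b) (mulS a b) = 40 → ∃ g ∈ ([1, 4] : List (Fin 512)),
      ((span2 a b).contains (conjS g a) && (span2 a b).contains (conjS g b)) = false ∧
      (commS (conjS g a) a && commS (conjS g a) b && commS (conjS g b) a && commS (conjS g b) b) = false

theorem quat_moved : ∀ a : Fin 512, inR a = true → mulS a a = 40 → quatChk a := by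
  unfold quatChk
  decide +kernel

end Cfsg.Agent.Spor.HSType
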