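import Cfsg.Agent.Lib.Spor.HSType.CentQuot

/-!
# The subgroup of order 64 is normal in a group with a central involution

Its image modulo the centre is strongly closed. A component moved by it would meet it in a four group whose
preimage is a quaternion group, and such a group is moved onto one not centralising it.
-/

set_option autoImplicit false
set_option linter.unusedSectionVars false
set_option linter.style.haveILetI false
set_option maxRecDepth 100000

namespace Cfsg.Agent.Spor.HSType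

open Subgroup
open Cfsg.Agent.Spor.JTwoType (cI mem_cI card_cI align conj_into)

universe u

attribute [local irreducible] conjS inR mulS commS

variable {G : Type u} [Group G] [Finite G]

namespace Ctx

variable (c : Ctx G)

/-- The subgroup of order 64. -/
def R : Subgroup G :=
  c.s.sub inR R_closed.1 (fun n m a b => (R_closed.2.2.1 n a m b).1) fun n a => (R_closed.2.2.2.1 n a).1

theorem card_R : Nat.card ↥c.R = 64 := c.s.card_sub.trans R_closed.2.2.2.2

theorem R_le_S : c.R ≤ (c.S : Subgroup G) := c.s.sub_le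

theorem S_normalizes : (c.S : Subgroup G) ≤ normalizer (c.R : Set G) := by
  intro g hg
  obtain ⟨k, rfl⟩ := c.s.surj g hg
  have hd : ∀ n : Fin 512, inR n = true → inR (conjS k n) = true := fun n hn => by
    have e : c.s.φ (conjS k n) = c.s.φ (conjS (mkC (vP k) 0) (conjS (mkC 0 (dP k)) n)) := by
      rw [← c.s.conj, ← c.s.conj, ← c.s.conj]
      conv_lhs => rw [← mkC_parts k, ← split_code, ← c.s.mul]
      group
    rw [c.s.inj e]
    exact R_conj_K _ _ (R_conj_D _ _ hn)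
  refine mem_normalizer_fintype ?_
  rintro _ ⟨n, hn, rfl⟩
  rw [c.s.conj]
  exact c.s.mem_sub.2 (hd n hn)

/-- The centre. -/
def Z : Subgroup G := zpowers (c.s.φ 40)

theorem Z_central : c.Z ≤ center G := zpowers_le.2 (mem_center_iff.2 c.hz)

instance Z_normal : c.Z.Normal := ⟨fun z hz g => by
  rw [mem_center_iff.1 (c.Z_central hz) g, mul_inv_cancel_right]; exact hz⟩

theorem mem_Z {g : G} : g ∈ c.Z ↔ g = 1 ∨ g = c.s.φ 40 := by
  constructor
  · intro h
    obtain ⟨n, hn⟩ := mem_zpowers_iff.1 h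
    have h2 : c.s.φ 40 * c.s.φ 40 = 1 := c.s.sq.2 forty_facts.2.2
    rcases Int.even_or_odd n with ⟨j, rfl⟩ | ⟨j, rfl⟩
    · exact Or.inl (by rw [← hn, zpow_add, ← (Commute.refl (c.s.φ 40)).mul_zpow, h2, one_zpow])
    · exact Or.inr (by rw [← hn, zpow_add, zpow_mul, zpow_ofNat, pow_two, h2, one_zpow, one_mul, zpow_one])
  · rintro (rfl | rfl)
    exacts [one_mem _, mem_zpowers _]

/-- The map onto the quotient. -/
def qm : G →* G ⧸ c.Z := QuotientGroup.mk' c.Z

theorem qm_surj : Function.Surjective c.qm := QuotientGroup.mk'_surjective _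

/-- Codes in the quotient. -/
def ψ (n : Fin 512) : G ⧸ c.Z := c.qm (c.s.φ n)

theorem ψ_mul (n m : Fin 512) : c.ψ n * c.ψ m = c.ψ (mulS n m) := by rw [ψ, ψ, ψ, ← map_mul, c.s.mul]

theorem qm_eq {g : G} {n : Fin 512} : c.qm g = c.ψ n ↔ g = c.s.φ n ∨ g = c.s.φ (mulS 40 n) := by
  rw [ψ, ← c.s.mul, ← c.hz (c.s.φ n), eq_comm, qm, QuotientGroup.mk'_apply, QuotientGroup.mk'_apply, QuotientGroup.eq,
    c.mem_Z, inv_mul_eq_one, inv_mul_eq_iff_eq_mul]
  exact ⟨fun h => h.imp Eq.symm id, fun h => h.imp Eq.symm id⟩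

theorem ψ_eq {n m : Fin 512} : c.ψ n = c.ψ m ↔ n = m ∨ n = mulS 40 m := by
  rw [show c.ψ n = c.qm (c.s.φ n) from rfl, c.qm_eq, c.s.inj.eq_iff, c.s.inj.eq_iff]

theorem ψ_one {n : Fin 512} : c.ψ n = 1 ↔ n = 0 ∨ n = 40 := by
  have : c.ψ 0 = 1 := by rw [ψ, c.s.one, map_one]
  rw [← this, c.ψ_eq, (inv_spec 40).2.2.2]

/-- Its image. -/
def A : Subgroup (G ⧸ c.Z) := c.R.map c.qm

theorem mem_A {a : G ⧸ c.Z} : a ∈ c.A ↔ ∃ n, inR n = true ∧ a = c.ψ n := by
  constructor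
  · rintro ⟨_, ⟨n, hn, rfl⟩, rfl⟩
    exact ⟨n, hn, rfl⟩
  · rintro ⟨n, hn, rfl⟩
    exact ⟨_, c.s.mem_sub.2 hn, rfl⟩

theorem R_forty {n : Fin 512} (h : inR n = true) : inR (mulS 40 n) = true :=
  (R_closed.2.2.1 40 R_closed.2.1 n h).1

theorem ψ_mem_A {n : Fin 512} : c.ψ n ∈ c.A ↔ inR n = true := by
  refine ⟨fun h => ?_, fun h => c.mem_A.2 ⟨n, h, rfl⟩⟩
  obtain ⟨m, hm, e⟩ := c.mem_A.1 h
  rcases c.ψ_eq.1 e with e | e <;> rw [e]
  exacts [hm, R_forty hm]

theorem A_sq {a : G ⧸ c.Z} (ha : a ∈ c.A) : a * a = 1 := by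
  obtain ⟨n, hn, rfl⟩ := c.mem_A.1 ha
  rw [c.ψ_mul, c.ψ_one]
  exact (R_closed.2.2.2.1 n hn).2

theorem A_comm {a b : G ⧸ c.Z} (ha : a ∈ c.A) (hb : b ∈ c.A) : a * b = b * a := by
  obtain ⟨n, hn, rfl⟩ := c.mem_A.1 ha
  obtain ⟨m, hm, rfl⟩ := c.mem_A.1 hb
  rw [c.ψ_mul, c.ψ_mul]
  exact c.ψ_eq.2 (R_closed.2.2.1 n hn m hm).2

theorem A_elem : Cfsg.IsElementaryAbelian 2 c.A :=
  ⟨⟨⟨fun a b => Subtype.ext (c.A_comm a.2 b.2)⟩⟩, fun a ha => by rw [pow_two]; exact c.A_sq ha⟩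

/-- The Sylow subgroup of the quotient. -/
noncomputable def T : Sylow 2 (G ⧸ c.Z) := c.S.mapSurjective c.qm_surj

theorem mem_T {h : G ⧸ c.Z} : h ∈ (c.T : Subgroup (G ⧸ c.Z)) ↔ ∃ n, h = c.ψ n := by
  rw [T, Sylow.coe_mapSurjective]
  constructor
  · rintro ⟨g, hg, rfl⟩
    obtain ⟨n, rfl⟩ := c.s.surj g hg
    exact ⟨n, rfl⟩
  · rintro ⟨n, rfl⟩
    exact ⟨_, c.s.mem n, rfl⟩

theorem A_le_T : c.A ≤ (c.T : Subgroup (G ⧸ c.Z)) := fun a ha => by
  obtain ⟨n, -, rfl⟩ := c.mem_A.1 ha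
  exact c.mem_T.2 ⟨_, rfl⟩

theorem T_normalizes : (c.T : Subgroup (G ⧸ c.Z)) ≤ normalizer (c.A : Set (G ⧸ c.Z)) := fun t ht => by
  obtain ⟨n, rfl⟩ := c.mem_T.1 ht
  refine mem_normalizer_fintype fun a ha => ?_
  obtain ⟨x, hx, rfl⟩ := ha
  show c.qm _ * c.qm x * (c.qm _)⁻¹ ∈ c.A
  rw [← map_mul, ← map_inv, ← map_mul]
  exact mem_map_of_mem _ ((mem_normalizer_iff.1 (c.S_normalizes (c.s.mem n)) x).1 hx)

theorem strongly : ∀ a ∈ c.A, ∀ h : G ⧸ c.Z, h * a * h⁻¹ ∈ (c.T : Subgroup (G ⧸ c.Z)) → h * a * h⁻¹ ∈ c.A := by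
  intro a ha h ht
  obtain ⟨n, hn, rfl⟩ := c.mem_A.1 ha
  obtain ⟨g, rfl⟩ := c.qm_surj h
  obtain ⟨m, hm⟩ := c.mem_T.1 ht
  rw [hm, c.ψ_mem_A]
  rw [ψ, ← map_mul, ← map_inv, ← map_mul, c.qm_eq] at hm
  rcases hm with e | e
  · exact c.R_closed_fusion hn (_root_.isConj_iff.2 ⟨g, e⟩)
  · have h1 := R_forty (c.R_closed_fusion hn (_root_.isConj_iff.2 ⟨g, e⟩ : IsConj (c.s.φ n) _))
    have hh : mulS 40 (mulS 40 m) = m := c.s.inj (by
      rw [← c.s.mul, ← c.s.mul, ← mul_assoc, c.s.sq.2 forty_facts.2.2, one_mul])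
    rwa [hh] at h1

theorem localHyp : Fus.Gold.LocalHyp (G ⧸ c.Z) c.A where
  core := JTwoType.oddCore_quotient c.hO c.Z c.Z_central (c.S.isPGroup'.to_le (zpowers_le.2 (c.s.mem 40)))
  elem := c.A_elem
  closed P hP hAP x hx g hg := by
    obtain ⟨h, hh⟩ := conj_into c.T hP
    have hN : h ∈ normalizer (c.A : Set (G ⧸ c.Z)) :=
      mem_normalizer_fintype fun a ha => c.strongly a ha h (hh (mem_cI (hAP ha)))
    refine (mem_normalizer_iff.1 hN _).2 ?_
    rw [show h * (g * x * g⁻¹) * h⁻¹ = h * g * x * (h * g)⁻¹ by group]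
    refine c.strongly x hx (h * g) ?_
    rw [show h * g * x * (h * g)⁻¹ = h * (g * x * g⁻¹) * h⁻¹ by group]
    exact hh (mem_cI hg)
  comp K hK := by
    haveI := hK.2.2
    exact Fus.Gold.conclusion_all _ hK.2.2 (Fus.Gold.not_comm_quotient hK)

/-- Conjugation in the quotient preserves squares and commutation of the preimages. -/
theorem lift_rel {h : G ⧸ c.Z} {n n' m m' : Fin 512} (e : h * c.ψ n * h⁻¹ = c.ψ m)
    (e' : h * c.ψ n' * h⁻¹ = c.ψ m') :
    commS n n' = commS m m' ∧ (mulS n n = 40 ↔ mulS m m = 40) := by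
  obtain ⟨g, rfl⟩ := c.qm_surj h
  rw [ψ, ← map_mul, ← map_inv, ← map_mul, c.qm_eq] at e e'
  have hz2 : c.s.φ 40 * c.s.φ 40 = 1 := c.s.sq.2 forty_facts.2.2
  obtain ⟨u, hu, eu⟩ : ∃ u, (∀ x, u * x = x * u) ∧ g * c.s.φ n * g⁻¹ = u * c.s.φ m ∧ u * u = 1 := by
    rcases e with e | e
    · exact ⟨1, fun x => by simp, by simpa using e, one_mul 1⟩
    · exact ⟨c.s.φ 40, fun x => (c.hz x).symm, by rw [e, ← c.s.mul], hz2⟩
  obtain ⟨w, hw, ew⟩ : ∃ w, (∀ x, w * x = x * w) ∧ g * c.s.φ n' * g⁻¹ = w * c.s.φ m' := by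
    rcases e' with e | e
    · exact ⟨1, fun x => by simp, by simpa using e⟩
    · exact ⟨c.s.φ 40, fun x => (c.hz x).symm, by rw [e, ← c.s.mul]⟩
  constructor
  · rw [Bool.eq_iff_iff, ← c.s.commute, ← c.s.commute]
    constructor
    · intro h
      have := congrArg (fun x => g * x * g⁻¹) h
      rw [show g * (c.s.φ n * c.s.φ n') * g⁻¹ = g * c.s.φ n * g⁻¹ * (g * c.s.φ n' * g⁻¹) by group,
        show g * (c.s.φ n' * c.s.φ n) * g⁻¹ = g * c.s.φ n' * g⁻¹ * (g * c.s.φ n * g⁻¹) by group, eu.1, ew] at this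
      refine mul_left_cancel (a := u * w) ?_
      calc u * w * (c.s.φ m * c.s.φ m') = u * c.s.φ m * (w * c.s.φ m') := by
            rw [mul_assoc u, ← mul_assoc w, hw (c.s.φ m)]; group
        _ = w * c.s.φ m' * (u * c.s.φ m) := this
        _ = w * (u * (c.s.φ m' * c.s.φ m)) := by
            rw [mul_assoc w, ← mul_assoc (c.s.φ m') u, ← hu (c.s.φ m')]; group
        _ = _ := by rw [hu w]; group
    · intro h
      refine mul_left_cancel (a := g) (mul_right_cancel (b := g⁻¹) ?_)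
      rw [show g * (c.s.φ n * c.s.φ n') * g⁻¹ = g * c.s.φ n * g⁻¹ * (g * c.s.φ n' * g⁻¹) by group,
        show g * (c.s.φ n' * c.s.φ n) * g⁻¹ = g * c.s.φ n' * g⁻¹ * (g * c.s.φ n * g⁻¹) by group, eu.1, ew]
      calc u * c.s.φ m * (w * c.s.φ m') = u * w * (c.s.φ m * c.s.φ m') := by
            rw [mul_assoc u w, ← mul_assoc w, hw (c.s.φ m)]; group
        _ = w * u * (c.s.φ m' * c.s.φ m) := by rw [h, hu w]
        _ = _ := by rw [mul_assoc w u, ← mul_assoc u, hu (c.s.φ m')]; group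
  · have hm : g * (c.s.φ n * c.s.φ n) * g⁻¹ = c.s.φ m * c.s.φ m := by
      rw [show g * (c.s.φ n * c.s.φ n) * g⁻¹ = g * c.s.φ n * g⁻¹ * (g * c.s.φ n * g⁻¹) by group, eu.1,
        mul_assoc u, ← mul_assoc (c.s.φ m), ← hu (c.s.φ m), mul_assoc u, ← mul_assoc u, eu.2, one_mul]
    rw [← c.s.inj.eq_iff, ← c.s.inj.eq_iff (a := mulS m m), ← c.s.mul, ← c.s.mul, ← hm]
    refine ⟨fun e => by rw [e, c.hz, mul_inv_cancel_right], fun e => ?_⟩
    refine mul_left_cancel (a := g) (mul_right_cancel (b := g⁻¹) ?_)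
    rw [e, c.hz, mul_inv_cancel_right]

include c in
/-- Two elements anticommuting with a third have a product commuting with it. -/
theorem anti_pair {a b w : Fin 512} (ha : inR a = true) (hb : inR b = true) (hw : inR w = true)
    (h1 : commS a w = false) (h2 : commS b w = false) : commS (mulS a b) w = true := by
  have h : ∀ x, inR x = true → commS x w = false → c.s.φ x * c.s.φ w = c.s.φ 40 * (c.s.φ w * c.s.φ x) := by
    intro x hx hxw
    rcases (R_closed.2.2.1 x hx w hw).2 with e | e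
    · have := c.s.commute.1 (show c.s.φ x * c.s.φ w = c.s.φ w * c.s.φ x by rw [c.s.mul, c.s.mul, e])
      rw [hxw] at this
      exact Bool.noConfusion this
    · rw [c.s.mul, c.s.mul, c.s.mul, e]
  refine c.s.commute.1 ?_
  rw [← c.s.mul, mul_assoc, h b hb h2, ← mul_assoc (c.s.φ a), c.hz, mul_assoc (c.s.φ 40),
    ← mul_assoc (c.s.φ a), h a ha h1, ← mul_assoc, ← mul_assoc, ← mul_assoc, c.s.sq.2 forty_facts.2.2, one_mul]
  group

include c in
/-- An element commuting with two commutes with their product. -/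
theorem comm_mul {a b w : Fin 512} (h1 : commS a w = true) (h2 : commS b w = true) :
    commS (mulS a b) w = true := by
  refine c.s.commute.1 ?_
  rw [← c.s.mul, mul_assoc, c.s.commute.2 h2, ← mul_assoc, c.s.commute.2 h1, mul_assoc]

include c in
theorem comm_symm {a b : Fin 512} : commS a b = commS b a := by
  rw [Bool.eq_iff_iff, ← c.s.commute, ← c.s.commute]
  exact eq_comm

theorem comm_of_ψ {n n' w : Fin 512} (e : c.ψ n = c.ψ n') (h : commS n' w = true) : commS n w = true := by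
  rcases c.ψ_eq.1 e with rfl | rfl
  · exact h
  · exact c.comm_mul (by rw [c.comm_symm]; exact comm_forty w) h

/-- The image is normal. -/
theorem A_normal : c.A.Normal := by
  classical
  have hloc := c.localHyp
  by_cases hno : Fus.Gold.movedComps c.A = ∅
  · have h1 := Fus.Gold.local_closure hloc
    rw [hno, sSup_empty, sup_bot_eq] at h1
    exact ⟨fun a ha g => by
      have := h1 (commutator_mem_commutator (mem_top g) ha)
      rw [commutatorElement_def] at this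
      simpa using mul_mem this ha⟩
  exfalso
  obtain ⟨K, hK, hKm⟩ := Set.nonempty_iff_ne_empty.2 hno
  have hKm' : ¬ c.A ≤ centralizer (K : Set (G ⧸ c.Z)) := fun h => hKm (Subgroup.le_centralizer_iff.1 h)
  obtain ⟨E, hE, hEd, hEs, hEt⟩ := Fus.Gold.local_factor hloc hK hKm'
  have hfour := Fus.Gold.local_four hloc hK hKm'
  set B := c.A ⊓ centralizer (K : Set (G ⧸ c.Z)) with hB
  have hBN : B ≤ normalizer (E : Set (G ⧸ c.Z)) := le_trans
    (fun x hx => mem_centralizer_iff.2 fun v hv => c.A_comm (hE hv).1 hx.1) (centralizer_le_normalizer _)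
  have hE4 : 4 ≤ Nat.card ↥E := by
    have hBE : B ⊓ E = ⊥ :=
      le_bot_iff.1 ((le_inf inf_le_right (inf_le_left.trans inf_le_right)).trans hEd.le)
    have h1 := Grp.card_sup_mul_card_inf (H := B) (N := E) hBN
    rw [hEs, hBE, Subgroup.card_bot, mul_one] at h1
    have : 1 ≤ Nat.card ↥B := Nat.card_pos
    by_contra hlt
    nlinarith
  have hEA : E ≤ c.A := fun v hv => (hE hv).1
  have hgB : ∀ g ∈ K, ∀ v ∈ B, g * v * g⁻¹ = v := fun g hg v hv => by
    rw [mem_centralizer_iff.1 hv.2 g hg, mul_inv_cancel_right]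
  obtain ⟨a, b, ha, hb, ha1, hb1, hab1, hab⟩ : ∃ a b : Fin 512, c.ψ a ∈ E ∧ c.ψ b ∈ E ∧ c.ψ a ≠ 1 ∧ c.ψ b ≠ 1 ∧
      c.ψ a * c.ψ b ≠ 1 ∧ c.ψ a ≠ c.ψ b := by
    haveI : Fintype ↥E := Fintype.ofFinite _
    rw [Nat.card_eq_fintype_card] at hE4
    obtain ⟨⟨u, hu⟩, hu1⟩ := Fintype.exists_ne_of_one_lt_card (by omega : 1 < Fintype.card ↥E) 1
    obtain ⟨⟨v, hv⟩, hv1⟩ : ∃ v : ↥E, v ∉ ({1, ⟨u, hu⟩} : Finset ↥E) := by
      by_contra hall
      push Not at hall
      have := Finset.card_le_card (show (Finset.univ : Finset ↥E) ⊆ {1, ⟨u, hu⟩} from fun v _ => hall v)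
      rw [Finset.card_univ] at this
      have := this.trans (Finset.card_le_two)
      omega
    simp only [Finset.mem_insert, Finset.mem_singleton, not_or] at hv1
    obtain ⟨a, haR, rfl⟩ := c.mem_A.1 (hEA hu)
    obtain ⟨b, hbR, rfl⟩ := c.mem_A.1 (hEA hv)
    refine ⟨a, b, hu, hv, fun e => hu1 (Subtype.ext e), fun e => hv1.1 (Subtype.ext e), fun e => ?_,
      fun e => hv1.2 (Subtype.ext e.symm)⟩
    rw [mul_eq_one_iff_eq_inv, inv_eq_of_mul_eq_one_right (c.A_sq (hEA hv))] at e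
    exact hv1.2 (Subtype.ext e.symm)
  have hR : ∀ {n}, c.ψ n ∈ E → inR n = true := fun h => c.ψ_mem_A.1 (hEA h)
  have habE : c.ψ (mulS a b) ∈ E := c.ψ_mul a b ▸ E.mul_mem ha hb
  have hab0 : c.ψ (mulS a b) ≠ 1 := c.ψ_mul a b ▸ hab1
  have hperp : ∀ f, c.ψ f ∈ B → ∀ e, c.ψ e ∈ E → commS e f = true := by
    intro f hf e he
    have hfR := c.ψ_mem_A.1 hf.1
    have key : ∀ x y, c.ψ x ∈ E → c.ψ y ∈ E → c.ψ x ≠ 1 → c.ψ y ≠ 1 → commS x f = commS y f := by
      intro x y hx hy hx1 hy1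
      obtain ⟨g, hgK, -, -, hg⟩ := hEt _ hx _ hy hx1 hy1
      exact (c.lift_rel hg (hgB g hgK _ hf)).1
    by_cases h1 : c.ψ e = 1
    · exact c.comm_of_ψ (h1.trans (c.ψ_one.2 (Or.inl rfl)).symm) (by
        rw [commS, (inv_spec f).2.2.1, (inv_spec f).2.2.2]; exact beq_self_eq_true f)
    rw [key e a he ha h1 ha1]
    by_contra hf0
    rw [Bool.not_eq_true] at hf0
    have := c.anti_pair (hR ha) (hR hb) hfR hf0 ((key b a hb ha hb1 ha1).trans hf0)
    rw [key _ a habE ha hab0 ha1, hf0] at this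
    exact Bool.noConfusion this
  have hdec : ∀ x, inR x = true → ∃ f e, c.ψ f ∈ B ∧ c.ψ e ∈ E ∧ c.ψ x = c.ψ f * c.ψ e := by
    intro x hx
    have hmem : c.ψ x ∈ ((B ⊔ E : Subgroup (G ⧸ c.Z)) : Set (G ⧸ c.Z)) := hEs.symm ▸ c.ψ_mem_A.2 hx
    rw [coe_mul_of_left_le_normalizer_right B E hBN] at hmem
    obtain ⟨vB, hvB, vE, hvE, hv⟩ := hmem
    obtain ⟨f, -, rfl⟩ := c.mem_A.1 hvB.1
    obtain ⟨e, -, rfl⟩ := c.mem_A.1 (hEA hvE)
    exact ⟨f, e, hvB, hvE, hv.symm⟩
  have hcentral : ∀ x, inR x = true → (∀ f, c.ψ f ∈ B → commS x f = true) →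
      (∀ e, c.ψ e ∈ E → commS x e = true) → x = 0 ∨ x = 22 ∨ x = 40 ∨ x = 62 := by
    intro x hx hxB hxE
    refine center_R x hx fun r hr => ?_
    obtain ⟨f, e, hf, he, hre⟩ := hdec r (genR_mem r hr)
    rw [c.ψ_mul] at hre
    rw [c.comm_symm]
    exact c.comm_of_ψ hre (c.comm_mul (by rw [c.comm_symm]; exact hxB f hf) (by rw [c.comm_symm]; exact hxE e he))
  have hq : ∀ x y, c.ψ x ∈ E → c.ψ y ∈ E → c.ψ x ≠ 1 → c.ψ y ≠ 1 → (mulS x x = 40 ↔ mulS y y = 40) := by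
    intro x y hx hy hx1 hy1
    obtain ⟨g, -, -, -, hg⟩ := hEt _ hx _ hy hx1 hy1
    exact (c.lift_rel hg hg).2
  have hsq0 : ∀ {x}, c.ψ x ∈ E → mulS x x ≠ 40 → mulS x x = 0 := fun hx h =>
    (R_closed.2.2.2.1 _ (hR hx)).2.resolve_right h
  -- the preimage is a quaternion group
  have ha40 : mulS a a = 40 := by
    by_contra hne
    have hall : ∀ x, c.ψ x ∈ E → c.ψ x ≠ 1 → mulS x x = 0 := fun x hx hx1 =>
      hsq0 hx fun e => hne ((hq x a hx ha hx1 ha1).1 e)
    have hpair : ∀ x y, c.ψ x ∈ E → c.ψ y ∈ E → commS x y = true := by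
      intro x y hx hy
      by_cases hx1 : c.ψ x = 1
      · exact c.comm_of_ψ (hx1.trans (c.ψ_one.2 (Or.inl rfl)).symm) (by
          rw [commS, (inv_spec y).2.2.1, (inv_spec y).2.2.2]; exact beq_self_eq_true y)
      by_cases hy1 : c.ψ y = 1
      · rw [c.comm_symm]
        exact c.comm_of_ψ (hy1.trans (c.ψ_one.2 (Or.inl rfl)).symm) (by
          rw [commS, (inv_spec x).2.2.1, (inv_spec x).2.2.2]; exact beq_self_eq_true x)
      by_cases hxy : c.ψ x = c.ψ y
      · exact c.comm_of_ψ hxy (by rw [commS]; exact beq_self_eq_true _)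
      have h2 := hall _ (c.ψ_mul x y ▸ E.mul_mem hx hy) (fun e => hxy (by
        rw [← c.ψ_mul, mul_eq_one_iff_eq_inv, inv_eq_of_mul_eq_one_right (c.A_sq (hEA hy))] at e
        exact e))
      refine c.s.commute.1 ?_
      have ex := c.s.sq.2 (hall x hx hx1)
      have ey := c.s.sq.2 (hall y hy hy1)
      have exy : c.s.φ x * c.s.φ y * (c.s.φ x * c.s.φ y) = 1 := by rw [c.s.mul]; exact c.s.sq.2 h2
      rw [eq_inv_of_mul_eq_one_left exy, mul_inv_rev, inv_eq_of_mul_eq_one_right ex,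
        inv_eq_of_mul_eq_one_right ey]
    have hc : ∀ x, c.ψ x ∈ E → c.ψ x ≠ 1 → c.ψ x = c.ψ 22 := fun x hx hx1 => by
      rcases hcentral x (hR hx) (fun f hf => hperp f hf x hx) (fun e he => hpair x e hx he) with rfl | rfl | rfl | rfl
      · exact absurd (c.ψ_one.2 (Or.inl rfl)) hx1
      · rfl
      · exact absurd (c.ψ_one.2 (Or.inr rfl)) hx1
      · rw [c.ψ_eq]; exact Or.inr center_facts.2.2.2.2.2.2.symm
    exact hab ((hc a ha ha1).trans (hc b hb hb1).symm)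
  have hb40 := (hq a b ha hb ha1 hb1).1 ha40
  have hab40 := (hq a _ ha habE ha1 hab0).1 ha40
  have hanti : ∀ x y, c.ψ x ∈ E → c.ψ y ∈ E → c.ψ x ≠ 1 → c.ψ y ≠ 1 → c.ψ x ≠ c.ψ y → commS x y = false := by
    intro x y hx hy hx1 hy1 hxy
    by_contra h
    rw [Bool.not_eq_false] at h
    have hxyE : c.ψ (mulS x y) ∈ E := c.ψ_mul x y ▸ E.mul_mem hx hy
    have hxy1 : c.ψ (mulS x y) ≠ 1 := fun e => hxy (by
      rw [← c.ψ_mul, mul_eq_one_iff_eq_inv, inv_eq_of_mul_eq_one_right (c.A_sq (hEA hy))] at e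
      exact e)
    have e1 := (hq a _ ha hxyE ha1 hxy1).1 ha40
    have ex := (hq a x ha hx ha1 hx1).1 ha40
    have ey := (hq a y ha hy ha1 hy1).1 ha40
    have hxc : Commute (c.s.φ x) (c.s.φ y) := c.s.commute.2 h
    have : c.s.φ 40 = 1 := by
      calc c.s.φ 40 = c.s.φ x * c.s.φ y * (c.s.φ x * c.s.φ y) := by rw [c.s.mul, c.s.mul, e1]
        _ = (c.s.φ x * c.s.φ x) * (c.s.φ y * c.s.φ y) := by
          rw [mul_assoc, ← mul_assoc (c.s.φ y), ← hxc.eq]; group
        _ = 1 := by rw [c.s.mul, c.s.mul, ex, ey, c.s.sq.2 forty_facts.2.2]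
    exact absurd (c.s.eq_one.1 this) (by decide)
  have hspan : ∀ x, c.ψ x ∈ E → x ∈ span2 a b := by
    intro x hx
    have hm : ∀ y, c.ψ x = c.ψ y → x = y ∨ x = mulS 40 y := fun y e => c.ψ_eq.1 e
    by_cases h1 : c.ψ x = 1
    · rcases c.ψ_one.1 h1 with rfl | rfl <;> simp [span2]
    by_cases hxa : c.ψ x = c.ψ a
    · rcases hm a hxa with rfl | rfl <;> simp [span2]
    by_cases hxb : c.ψ x = c.ψ b
    · rcases hm b hxb with rfl | rfl <;> simp [span2]
    by_cases hxab : c.ψ x = c.ψ (mulS a b)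
    · rcases hm _ hxab with rfl | rfl <;> simp [span2]
    exfalso
    have h1' := hanti a x ha hx ha1 h1 (fun e => hxa e.symm)
    have h2' := hanti b x hb hx hb1 h1 (fun e => hxb e.symm)
    have := c.anti_pair (hR ha) (hR hb) (hR hx) h1' h2'
    rw [hanti _ x habE hx hab0 h1 (fun e => hxab e.symm)] at this
    exact Bool.noConfusion this
  obtain ⟨g, -, hout, hnc⟩ := quat_moved a (hR ha) ha40 b (hR hb) hb40 (hanti a b ha hb ha1 hb1 hab) hab40
  set t := c.ψ g with ht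
  have htN : t ∈ normalizer (c.A : Set (G ⧸ c.Z)) := c.T_normalizes (c.mem_T.2 ⟨g, rfl⟩)
  have hcg : ∀ n, t * c.ψ n * t⁻¹ = c.ψ (conjS g n) := fun n => by
    show c.qm _ * c.qm _ * (c.qm _)⁻¹ = c.qm _
    rw [← map_mul, ← map_inv, ← map_mul, c.s.conj]
  by_cases hKt : K.map (MulAut.conj t).toMonoidHom = K
  · have hBinv : ∀ v ∈ B, t⁻¹ * v * t ∈ B := by
      intro v hv
      refine ⟨(mem_normalizer_iff''.1 htN v).1 hv.1, mem_centralizer_iff.2 fun k hk => ?_⟩
      have hk' : t * k * t⁻¹ ∈ K := hKt ▸ mem_map_of_mem (MulAut.conj t).toMonoidHom hk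
      calc k * (t⁻¹ * v * t) = t⁻¹ * (t * k * t⁻¹ * v) * t := by group
        _ = t⁻¹ * (v * (t * k * t⁻¹)) * t := by rw [mem_centralizer_iff.1 hv.2 _ hk']
        _ = _ := by group
    have hin : ∀ x, c.ψ x ∈ E → c.ψ x ≠ 1 → conjS g x ∈ span2 a b := by
      intro x hx hx1
      set y := conjS g x with hy
      have hyR : inR y = true := c.ψ_mem_A.1 (by rw [← hcg]; exact (mem_normalizer_iff.1 htN _).1 (hEA hx))
      have hy1 : c.ψ y ≠ 1 := by rw [← hcg]; exact fun e => hx1 (conj_eq_one_iff.1 e)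
      have hy40 : mulS y y = 40 := (c.lift_rel (hcg x) (hcg x)).2.1 ((hq a x ha hx ha1 hx1).1 ha40)
      have hyB : ∀ f, c.ψ f ∈ B → commS y f = true := fun f hf => by
        obtain ⟨f', hf', e⟩ := c.mem_A.1 (hBinv _ hf).1
        have e' : t * c.ψ f' * t⁻¹ = c.ψ f := by rw [← e]; group
        rw [← (c.lift_rel (hcg x) e').1]
        exact hperp f' (e ▸ hBinv _ hf) x hx
      obtain ⟨f, e, hf, he, hye⟩ := hdec y hyR
      rw [c.ψ_mul] at hye
      have hfc : ∀ w, c.ψ w ∈ B → commS f w = true := fun w hw => by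
        by_contra hfw
        rw [Bool.not_eq_true] at hfw
        have hfe : commS (mulS f e) w = true := by
          rcases c.ψ_eq.1 hye with e' | e'
          · exact e' ▸ hyB w hw
          · exact c.comm_of_ψ (c.ψ_eq.2 (Or.inr (by
              rw [e']; refine c.s.inj ?_
              rw [← c.s.mul 40 (mulS 40 (mulS f e)), ← c.s.mul 40 (mulS f e), ← mul_assoc,
                c.s.sq.2 forty_facts.2.2, one_mul]))) (hyB w hw)
        have hew := hperp w hw e he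
        have : c.s.φ f * c.s.φ w = c.s.φ w * c.s.φ f := by
          refine mul_right_cancel (b := c.s.φ e) ?_
          calc c.s.φ f * c.s.φ w * c.s.φ e = c.s.φ f * c.s.φ e * c.s.φ w := by
                rw [mul_assoc, ← c.s.commute.2 hew, mul_assoc]
            _ = c.s.φ w * (c.s.φ f * c.s.φ e) := by rw [c.s.mul f e, c.s.commute.2 hfe]
            _ = _ := by rw [mul_assoc]
        rw [c.s.commute.1 this] at hfw
        exact Bool.noConfusion hfw
      have hfcen := hcentral f (c.ψ_mem_A.1 hf.1) hfc (fun w hw => by rw [c.comm_symm]; exact hperp f hf w hw)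
      have hye' : c.ψ y = c.ψ e ∨ c.ψ y = c.ψ 22 * c.ψ e := by
        rw [hye, ← c.ψ_mul]
        rcases hfcen with rfl | rfl | rfl | rfl
        · exact Or.inl (by rw [c.ψ_one.2 (Or.inl rfl), one_mul])
        · exact Or.inr rfl
        · exact Or.inl (by rw [c.ψ_one.2 (Or.inr rfl), one_mul])
        · exact Or.inr (by rw [c.ψ_eq.2 (Or.inr center_facts.2.2.2.2.2.2.symm)])
      rcases hye' with hye | hye
      · have : c.ψ y ∈ E := hye ▸ he
        exact hspan y this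
      exfalso
      obtain ⟨s22, r22, -⟩ := center_facts
      have hc22 : ∀ w, inR w = true → commS 22 w = true → c.s.φ 22 * c.s.φ w = c.s.φ w * c.s.φ 22 :=
        fun w _ h => c.s.commute.2 h
      by_cases he1 : c.ψ e = 1
      · -- `y` would be central
        rw [he1, mul_one] at hye
        obtain ⟨x', hx', hx'1, hxx'⟩ : ∃ x', c.ψ x' ∈ E ∧ c.ψ x' ≠ 1 ∧ c.ψ x ≠ c.ψ x' := by
          by_cases hxa : c.ψ x = c.ψ a
          · exact ⟨b, hb, hb1, hxa ▸ hab⟩
          · exact ⟨a, ha, ha1, hxa⟩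
        have := (c.lift_rel (hcg x) (hcg x')).1
        rw [hanti x x' hx hx' hx1 hx'1 hxx'] at this
        have h22 : commS (conjS g x) (conjS g x') = true := by
          refine c.comm_of_ψ hye ?_
          have hx'R : inR (conjS g x') = true :=
            c.ψ_mem_A.1 (by rw [← hcg]; exact (mem_normalizer_iff.1 htN _).1 (hEA hx'))
          exact center_comm _ hx'R
        rw [h22] at this
        exact Bool.noConfusion this
      have hee := (hq a e ha he ha1 he1).1 ha40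
      have hce : c.s.φ 22 * c.s.φ e = c.s.φ e * c.s.φ 22 := hc22 e (hR he) (center_comm e (hR he))
      have hy2 : mulS y y = 0 := by
        rw [c.ψ_mul] at hye
        refine c.s.sq.1 ?_
        have hsq : c.s.φ 22 * c.s.φ e * (c.s.φ 22 * c.s.φ e) = 1 := by
          rw [mul_assoc, ← mul_assoc (c.s.φ e), ← hce, ← mul_assoc, ← mul_assoc, c.s.mul 22 22, s22, mul_assoc,
            c.s.mul e e, hee, c.s.sq.2 forty_facts.2.2]
        rcases c.ψ_eq.1 hye with e' | e' <;> rw [e']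
        · rw [← c.s.mul]; exact hsq
        · rw [← c.s.mul, ← c.s.mul, mul_assoc, ← mul_assoc (c.s.φ 22 * c.s.φ e), c.hz, mul_assoc (c.s.φ 40), hsq,
            mul_one, c.s.sq.2 forty_facts.2.2]
      rw [hy2] at hy40
      exact absurd hy40 (by decide)
    have h1 := hin a ha ha1
    have h2 := hin b hb hb1
    rw [Bool.and_eq_false_iff] at hout
    rcases hout with h | h
    · rw [List.contains_iff_mem.2 h1] at h; exact Bool.noConfusion h
    · rw [List.contains_iff_mem.2 h2] at h; exact Bool.noConfusion h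
  · have hJ : Cfsg.IsComponent (K.map (MulAut.conj t).toMonoidHom) := Grp.IsComponent.map_iso (MulAut.conj t) hK
    have hin : ∀ x, c.ψ x ∈ E → c.ψ (conjS g x) ∈ B := fun x hx => by
      rw [← hcg]
      exact ⟨(mem_normalizer_iff.1 htN _).1 (hEA hx), (Grp.IsComponent.commute hJ hK hKt) ⟨_, (hE hx).2, rfl⟩⟩
    have hp : ∀ x e, c.ψ x ∈ E → c.ψ e ∈ E → commS (conjS g x) e = true := fun x e hx he => by
      rw [c.comm_symm]; exact hperp _ (hin x hx) e he
    rw [hp a a ha ha, hp a b ha hb, hp b a hb ha, hp b b hb hb] at hnc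
    exact Bool.noConfusion hnc

theorem comap_A : c.A.comap c.qm = c.R := by
  rw [A, comap_map_eq, qm, QuotientGroup.ker_mk', sup_eq_left]
  exact zpowers_le.2 (c.s.mem_sub.2 R_closed.2.1)

theorem R_normal : c.R.Normal := by
  rw [← c.comap_A]
  exact c.A_normal.comap _

/-- The subgroup contains its centralizer modulo the centre. -/
theorem cent_A : centralizer (c.A : Set (G ⧸ c.Z)) ≤ c.A := by
  haveI := c.A_normal
  haveI : Fact (Nat.Prime 2) := ⟨Nat.prime_two⟩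
  set C := centralizer (c.A : Set (G ⧸ c.Z))
  haveI : C.Normal := normal_centralizer
  have hAC : c.A ≤ C := fun a ha => mem_centralizer_iff.2 fun b hb => c.A_comm hb ha
  have hTC : (c.T : Subgroup (G ⧸ c.Z)) ⊓ C = c.A := by
    refine le_antisymm (fun t ht => ?_) (le_inf c.A_le_T hAC)
    obtain ⟨n, rfl⟩ := c.mem_T.1 ht.1
    refine c.ψ_mem_A.2 (cent_mod n fun r hr => ?_)
    have e := mem_centralizer_iff.1 ht.2 _ (c.ψ_mem_A.2 (genR_mem r hr))
    rw [c.ψ_mul, c.ψ_mul] at e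
    simp only [commZ, Bool.or_eq_true, beq_iff_eq]
    exact c.ψ_eq.1 e.symm
  haveI : (c.A.subgroupOf C).Normal := inferInstance
  have hodd : ¬ 2 ∣ (c.A.subgroupOf C).index := by
    have := Grp.not_dvd_relIndex_sylow c.T (‹C.Normal›.isSubnormal)
    rwa [← inf_relIndex_right, hTC] at this
  obtain ⟨j, hj⟩ := IsPGroup.iff_card.1 ((c.T.isPGroup'.to_le c.A_le_T))
  have hA2 : Nat.card ↥(c.A.subgroupOf C) = 2 ^ j := by
    rw [Nat.card_congr (subgroupOfEquivOfLe hAC).toEquiv, hj]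
  obtain ⟨O, hO⟩ := exists_right_complement'_of_coprime (N := c.A.subgroupOf C) (by
    rw [hA2]; exact ((Nat.Prime.coprime_iff_not_dvd Nat.prime_two).2 hodd).pow_left j)
  have hOcard : ¬ 2 ∣ Nat.card ↥O := by rwa [← hO.symm.index_eq_card]
  have hmemO : ∀ w : ↥C, ¬ 2 ∣ orderOf w → w ∈ O := by
    intro w hw
    obtain ⟨⟨⟨a, ha⟩, o, ho⟩, rfl⟩ := hO.2 w
    have hca : Commute a o := Subtype.ext (mem_centralizer_iff.1 o.2 _ (mem_subgroupOf.1 ha))
    have ha2 : a * a = 1 := Subtype.ext (c.A_sq (mem_subgroupOf.1 ha))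
    obtain ⟨i, hi⟩ := (Nat.odd_iff.2 (Nat.two_dvd_ne_zero.1 hw) : Odd (orderOf (a * o)))
    have h1 := pow_orderOf_eq_one (a * o)
    rw [hi, hca.mul_pow, pow_succ a, pow_mul, pow_two, ha2, one_pow, one_mul] at h1
    have hmem : a ∈ O := by rw [eq_inv_of_mul_eq_one_left h1]; exact inv_mem (pow_mem ho _)
    show a * o ∈ O
    exact mul_mem hmem ho
  have hOn : (O.map C.subtype).Normal := ⟨by
    rintro _ ⟨o, ho, rfl⟩ g
    refine ⟨⟨g * o * g⁻¹, ‹C.Normal›.conj_mem o o.2 g⟩, hmemO _ fun h => hOcard (h.trans ?_), rfl⟩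
    rw [← Subgroup.orderOf_coe]
    show orderOf (g * o * g⁻¹) ∣ _
    rw [show orderOf (g * (o : G ⧸ c.Z) * g⁻¹) = orderOf (o : G ⧸ c.Z) from (MulAut.conj g).orderOf_eq (o : G ⧸ c.Z),
      Subgroup.orderOf_coe, ← orderOf_mk o ho]
    exact orderOf_dvd_natCard _⟩
  have hbot : O.map C.subtype = ⊥ := le_bot_iff.1 (c.localHyp.core ▸ le_sSup ⟨hOn, by
    rw [card_map_of_injective C.subtype_injective]
    exact ((Nat.Prime.coprime_iff_not_dvd Nat.prime_two).2 hOcard).symm⟩)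
  intro x hx
  obtain ⟨⟨⟨a, ha⟩, o, ho⟩, he⟩ := hO.2 ⟨x, hx⟩
  have ho1 : (o : G ⧸ c.Z) = 1 := mem_bot.1 (hbot ▸ mem_map_of_mem C.subtype ho)
  have := congrArg Subtype.val he
  simp only [Subgroup.coe_mul, ho1, mul_one] at this
  exact this ▸ mem_subgroupOf.1 ha

end Ctx

end Cfsg.Agent.Spor.HSType
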