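import Cfsg.Agent.Lib.Spor.HSType.CentFacts2
import Cfsg.Agent.Lib.Spor.JTwoType.Quot

/-!
# Fusion in a group with a central involution and a Sylow subgroup of this shape
-/

set_option autoImplicit false
set_option linter.unusedSectionVars false
set_option linter.style.haveILetI false
set_option maxRecDepth 100000

namespace Cfsg.Agent.Spor.HSType

open Subgroup
open Cfsg.Agent.Spor.JTwoType (cI mem_cI card_cI align conj_into)

universe u

attribute [local irreducible] centCard conjS inC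

variable {G : Type u} [Group G] [Finite G]

/-- The data: the centre `φ 40` is central, the odd core is trivial, an element carries the classes 3, 4 to 7, 8
and another carries a point of class 3 into the elementary subgroup. -/
structure Ctx (G : Type u) [Group G] [Finite G] where
  S : Sylow 2 G
  s : Shape (S : Subgroup G)
  hz : ∀ g : G, g * s.φ 40 = s.φ 40 * g
  hO : Cfsg.oddCore G = ⊥
  mover : ∃ k : G, (∀ v, inV v = true → ∃ v', inV v' = true ∧ s.φ v' = k * s.φ v * k⁻¹) ∧
    (∃ a, inC 7 a = true ∧ s.φ a = k * s.φ 128 * k⁻¹) ∧ ∃ b, inC 8 b = true ∧ s.φ b = k * s.φ 133 * k⁻¹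
  into : ∃ (h : G) (v : Fin 512), inV v = true ∧ v ≠ 0 ∧ v ≠ 40 ∧ s.φ v = h * s.φ 128 * h⁻¹

namespace Ctx

variable (c : Ctx G)

theorem conj_code (g n : Fin 512) : IsConj (c.s.φ n) (c.s.φ (conjS g n)) :=
  _root_.isConj_iff.2 ⟨c.s.φ g, c.s.conj g n⟩

theorem sq_code {n m : Fin 512} (h : IsConj (c.s.φ n) (c.s.φ m)) :
    (mulS n n = 40 ↔ mulS m m = 40) ∧ (isInv n = true ↔ isInv m = true) ∧ (n = 40 ↔ m = 40) := by
  obtain ⟨g, hg⟩ := _root_.isConj_iff.1 h
  have hz : g * c.s.φ 40 * g⁻¹ = c.s.φ 40 := by rw [c.hz, mul_inv_cancel_right]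
  have hinj : ∀ x y : G, g * x * g⁻¹ = g * y * g⁻¹ → x = y := fun x y e =>
    mul_left_cancel (mul_right_cancel e)
  refine ⟨?_, ?_, ?_⟩
  · rw [← c.s.inj.eq_iff, ← c.s.inj.eq_iff (a := mulS m m), ← c.s.mul, ← c.s.mul, ← hg,
      show g * c.s.φ n * g⁻¹ * (g * c.s.φ n * g⁻¹) = g * (c.s.φ n * c.s.φ n) * g⁻¹ by group]
    exact ⟨fun e => by rw [e, hz], fun e => hinj _ _ (e.trans hz.symm)⟩
  · rw [← c.s.orderOf_two, ← c.s.orderOf_two, ← hg,
      show g * c.s.φ n * g⁻¹ = MulAut.conj g (c.s.φ n) from rfl, (MulAut.conj g).orderOf_eq]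
  · rw [← c.s.inj.eq_iff, ← c.s.inj.eq_iff (a := m), ← hg]
    exact ⟨fun e => by rw [e, hz], fun e => hinj _ _ (e.trans hz.symm)⟩

/-- The centralizer in the Sylow subgroup. -/
def centS (n : Fin 512) : Subgroup G := (c.S : Subgroup G) ⊓ centralizer ({c.s.φ n} : Set G)

theorem card_centS (n : Fin 512) : Nat.card ↥(c.centS n) = centCard n := by
  have e : ((c.centS n : Subgroup G) : Set G) = c.s.φ '' {m | commS n m = true} := by
    ext x
    constructor
    · rintro ⟨hx, hc⟩
      obtain ⟨m, rfl⟩ := c.s.surj x hx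
      exact ⟨m, c.s.commute.1 (mem_centralizer_singleton_iff.1 hc).symm, rfl⟩
    · rintro ⟨m, hm, rfl⟩
      exact ⟨c.s.mem m, mem_centralizer_singleton_iff.2 (c.s.commute.2 hm).symm⟩
  show Nat.card ↥((c.centS n : Subgroup G) : Set G) = _
  rw [e, Nat.card_coe_set_eq, Set.ncard_image_of_injective _ c.s.inj, centCard, ← Set.ncard_coe_finset]
  simp

theorem centS_pgroup (n : Fin 512) : IsPGroup 2 ↥(c.centS n) := c.S.isPGroup'.to_le inf_le_left

theorem cI_centS {g : G} {n : Fin 512} {y : G} (hg : g * c.s.φ n * g⁻¹ = y) :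
    cI g (c.centS n) ≤ centralizer ({y} : Set G) := by
  rintro _ ⟨b, hb, rfl⟩
  refine mem_centralizer_singleton_iff.2 ?_
  rw [← hg]
  show g * b * g⁻¹ * (g * c.s.φ n * g⁻¹) = g * c.s.φ n * g⁻¹ * (g * b * g⁻¹)
  calc _ = g * (b * c.s.φ n) * g⁻¹ := by group
    _ = g * (c.s.φ n * b) * g⁻¹ := by rw [mem_centralizer_singleton_iff.1 hb.2]
    _ = _ := by group

include c in
theorem centCard_conj (g n : Fin 512) : centCard (conjS g n) = centCard n := by
  have h1 : ∀ g n, Nat.card ↥(c.centS n) ≤ Nat.card ↥(c.centS (conjS g n)) := fun g n => by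
    rw [← card_cI (c.s.φ g) (c.centS n)]
    refine Subgroup.card_le_of_le (le_inf ?_ (c.cI_centS (c.s.conj g n)))
    rintro _ ⟨b, hb, rfl⟩
    exact mul_mem (mul_mem (c.s.mem g) hb.1) (inv_mem (c.s.mem g))
  have hb : conjS (invS g) (conjS g n) = n := c.s.inj (by
    rw [← c.s.conj, ← c.s.conj, ← c.s.inv]; group)
  have h2 := h1 (invS g) (conjS g n)
  rw [hb] at h2
  rw [← c.card_centS, ← c.card_centS]
  exact le_antisymm h2 (h1 g n)

/-- A code whose centralizer is the largest among its conjugates. -/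
def IsMax (n : Fin 512) : Prop := ∀ m, IsConj (c.s.φ n) (c.s.φ m) → centCard m ≤ centCard n

theorem exists_max (x : Fin 512) : ∃ m, IsConj (c.s.φ x) (c.s.φ m) ∧ c.IsMax m := by
  classical
  obtain ⟨m, hm, hmax⟩ := Finset.exists_max_image (Finset.univ.filter fun m => IsConj (c.s.φ x) (c.s.φ m)) centCard
    ⟨x, Finset.mem_filter.2 ⟨Finset.mem_univ _, IsConj.refl _⟩⟩
  rw [Finset.mem_filter] at hm
  exact ⟨m, hm.2, fun y hy => hmax y (Finset.mem_filter.2 ⟨Finset.mem_univ _, hm.2.trans hy⟩)⟩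

/-- The centralizer of one code is carried into that of another. -/
def Emb (x y : Fin 512) : Prop := ∃ f : Fin 512 → Fin 512, f 40 = 40 ∧ f x = y ∧
  (∀ a b, commS x a = true → commS x b = true → f a = f b → a = b) ∧ f 0 = 0 ∧
  (∀ a, commS x a = true → commS y (f a) = true) ∧
  ∀ a b, commS x a = true → commS x b = true → f (mulS a b) = mulS (f a) (f b)

/-- A conjugate with largest centralizer receives the centralizer. -/
theorem emb {x m : Fin 512} (h : IsConj (c.s.φ x) (c.s.φ m)) (hm : c.IsMax m) (g0 : Fin 512) :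
    Emb x (conjS g0 m) := by
  classical
  obtain ⟨g, hg⟩ := _root_.isConj_iff.1 h
  obtain ⟨h1, hh1, P, hP, hPC, hD, hB⟩ := align (centralizer ({c.s.φ m} : Set G)) (cI g (c.centS x)) (c.centS m)
    ((c.centS_pgroup x).map _) (c.cI_centS hg) (c.centS_pgroup m) inf_le_right
  obtain ⟨l, hl⟩ := conj_into c.S hP
  have hPm : P = c.centS m := by
    refine (Subgroup.eq_of_le_of_card_ge hD ?_).symm
    obtain ⟨m', hm'⟩ := c.s.surj _ (hl (mem_cI (g := l) (hD ⟨c.s.mem m, mem_centralizer_singleton_iff.2 rfl⟩)))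
    rw [c.card_centS, ← card_cI l P]
    refine le_trans (le_trans (Subgroup.card_le_of_le (le_inf hl ?_)) (c.card_centS m').le)
      (hm m' (_root_.isConj_iff.2 ⟨l, hm'.symm⟩))
    rintro _ ⟨p, hp, rfl⟩
    refine mem_centralizer_singleton_iff.2 ?_
    rw [hm']
    show l * p * l⁻¹ * (l * c.s.φ m * l⁻¹) = l * c.s.φ m * l⁻¹ * (l * p * l⁻¹)
    calc _ = l * (p * c.s.φ m) * l⁻¹ := by group
      _ = l * (c.s.φ m * p) * l⁻¹ := by rw [mem_centralizer_singleton_iff.1 (hPC hp)]
      _ = _ := by group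
  set k := c.s.φ g0 * (h1 * g) with hk
  have hkx : k * c.s.φ x * k⁻¹ = c.s.φ (conjS g0 m) := by
    rw [← c.s.conj, hk, show c.s.φ g0 * (h1 * g) * c.s.φ x * (c.s.φ g0 * (h1 * g))⁻¹ =
      c.s.φ g0 * (h1 * (g * c.s.φ x * g⁻¹) * h1⁻¹) * (c.s.φ g0)⁻¹ by group, hg,
      mem_centralizer_singleton_iff.1 hh1, mul_inv_cancel_right]
  have himg : ∀ a, commS x a = true → ∃ a', c.s.φ a' = k * c.s.φ a * k⁻¹ := fun a ha => by
    have hmem : h1 * g * c.s.φ a * (h1 * g)⁻¹ ∈ (c.S : Subgroup G) := by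
      have hm0 := hB (mem_cI (g := h1) (mem_cI (g := g)
        (show c.s.φ a ∈ c.centS x from ⟨c.s.mem a, mem_centralizer_singleton_iff.2 (c.s.commute.2 ha).symm⟩)))
      rw [hPm] at hm0
      have : h1 * (g * c.s.φ a * g⁻¹) * h1⁻¹ ∈ (c.S : Subgroup G) := hm0.1
      rw [show h1 * g * c.s.φ a * (h1 * g)⁻¹ = h1 * (g * c.s.φ a * g⁻¹) * h1⁻¹ by group]
      exact this
    obtain ⟨a', ha'⟩ := c.s.surj _ (mul_mem (mul_mem (c.s.mem g0) hmem) (inv_mem (c.s.mem g0)))
    exact ⟨a', by rw [ha', hk]; group⟩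
  -- outside the centralizer the values do not matter; keep the map injective
  have hf : ∀ a, ∃ a', commS x a = true → c.s.φ a' = k * c.s.φ a * k⁻¹ := fun a => by
    by_cases ha : commS x a = true
    · obtain ⟨a', ha'⟩ := himg a ha
      exact ⟨a', fun _ => ha'⟩
    · exact ⟨a, fun h => absurd h ha⟩
  choose f hf using hf
  have h40 : commS x 40 = true := comm_forty x
  have h0 : commS x 0 = true := by rw [commS, (inv_spec x).2.2.1, (inv_spec x).2.2.2]; exact beq_self_eq_true x
  have hxx : commS x x = true := by rw [commS]; exact beq_self_eq_true _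
  refine ⟨f, c.s.inj ?_, c.s.inj ((hf x hxx).trans hkx), fun a b ha hb e => c.s.inj (mul_left_cancel (mul_right_cancel
    ((hf a ha).symm.trans ((congrArg c.s.φ e).trans (hf b hb))))), c.s.inj ?_, fun a ha => ?_,
    fun a b ha hb => ?_⟩
  · rw [hf 40 h40, c.hz, mul_inv_cancel_right]
  · rw [hf 0 h0, c.s.one, mul_one, mul_inv_cancel]
  · refine c.s.commute.1 ?_
    rw [hf a ha, ← hkx]
    calc k * c.s.φ x * k⁻¹ * (k * c.s.φ a * k⁻¹) = k * (c.s.φ x * c.s.φ a) * k⁻¹ := by group
      _ = k * (c.s.φ a * c.s.φ x) * k⁻¹ := by rw [c.s.commute.2 ha]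
      _ = _ := by group
  · have hab : commS x (mulS a b) = true := c.s.commute.1 (by
      rw [← c.s.mul, ← mul_assoc, c.s.commute.2 ha, mul_assoc, c.s.commute.2 hb, ← mul_assoc])
    refine c.s.inj ?_
    rw [← c.s.mul, hf _ hab, hf a ha, hf b hb, ← c.s.mul]
    group

include c in
/-- The transport of a pair of involutions. -/
theorem pair_image {x y a b : Fin 512} {f : Fin 512 → Fin 512} (h40 : f 40 = 40) (hx : f x = y)
    (hinj : ∀ a b, commS x a = true → commS x b = true → f a = f b → a = b) (h0 : f 0 = 0)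
    (hm : ∀ a b, commS x a = true → commS x b = true → f (mulS a b) = mulS (f a) (f b))
    (ha : commS x a = true) (hb : commS x b = true) :
    f (mulS (mulS a b) (mulS a b)) = mulS (mulS (f a) (f b)) (mulS (f a) (f b)) ∧
    (offY x (mulS (mulS a b) (mulS a b)) = true → offY y (mulS (mulS (f a) (f b)) (mulS (f a) (f b))) = true) := by
  have hab : commS x (mulS a b) = true := c.s.commute.1 (by
    rw [← c.s.mul, ← mul_assoc, c.s.commute.2 ha, mul_assoc, c.s.commute.2 hb, ← mul_assoc])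
  have e : f (mulS (mulS a b) (mulS a b)) = mulS (mulS (f a) (f b)) (mulS (f a) (f b)) := by
    rw [hm _ _ hab hab, hm _ _ ha hb]
  refine ⟨e, fun h => ?_⟩
  have h40x : f (mulS 40 x) = mulS 40 y := by
    rw [hm _ _ (comm_forty x) (by rw [commS]; exact beq_self_eq_true _), h40, hx]
  have h0c : commS x 0 = true := by
    rw [commS, (inv_spec x).2.2.1, (inv_spec x).2.2.2]; exact beq_self_eq_true x
  have hxx : commS x x = true := by rw [commS]; exact beq_self_eq_true _
  have hww : commS x (mulS (mulS a b) (mulS a b)) = true := c.s.commute.1 (by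
    rw [← c.s.mul, ← mul_assoc, c.s.commute.2 hab, mul_assoc, c.s.commute.2 hab, ← mul_assoc])
  have h4x : commS x (mulS 40 x) = true := c.s.commute.1 (by
    rw [← c.s.mul, ← mul_assoc, c.s.commute.2 (comm_forty x), mul_assoc])
  simp only [offY, Bool.and_eq_true, bne_iff_ne, ne_eq] at h ⊢
  rw [← e]
  refine ⟨⟨⟨fun e' => h.1.1.1 (hinj _ _ hww h0c (e'.trans h0.symm)), fun e' => h.1.1.2 (hinj _ _ hww
    (comm_forty x) (e'.trans h40.symm))⟩, fun e' => h.1.2 (hinj _ _ hww hxx (e'.trans hx.symm))⟩,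
    fun e' => h.2 (hinj _ _ hww h4x (e'.trans h40x.symm))⟩

theorem comm_rep {y n : Fin 512} (h : commS y n = true) : mulS y n = mulS n y := by
  simpa [commS] using h

theorem isInv_iff {n : Fin 512} : isInv n = true ↔ n ≠ 0 ∧ mulS n n = 0 := by
  simp [isInv]

include c in
/-- A largest conjugate of a class with a square root witness avoids the listed representatives. -/
theorem no_pair {x y : Fin 512} (hy : y ∈ ([10, 2, 128, 256, 257] : List (Fin 512))) {a b : Fin 512}
    (ha : commS x a = true) (hb : commS x b = true) (ha2 : mulS a a = 0) (hb2 : mulS b b = 0)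
    (hw : offY x (mulS (mulS a b) (mulS a b)) = true) : ¬ Emb x y := by
  rintro ⟨f, h40, hx, hinj, h0, hc, hm⟩
  have hy' : y ∈ ([10, 2, 128, 133, 256, 257, 20, 22, 28, 130] : List (Fin 512)) := by
    simp only [List.mem_cons, List.not_mem_nil, or_false] at hy ⊢
    tauto
  have hl : ∀ a, commS x a = true → mulS a a = 0 → f a ∈ invL y := fun a ha h2 =>
    invL_spec y hy' _ (hc a ha) (by rw [← hm a a ha ha, h2, h0])
  have := pair_none y hy _ (hl a ha ha2) _ (hl b hb hb2)
  rw [(c.pair_image h40 hx hinj h0 hm ha hb).2 hw] at this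
  exact Bool.noConfusion this

/-- The class of a conjugate, with its largest representatives. -/
theorem inv_max {x : Fin 512} (hx : isInv x = true) (h40 : x ≠ 40) :
    ∃ j : Fin 9, j ≠ 0 ∧ IsConj (c.s.φ x) (c.s.φ (rep j)) ∧ Emb x (rep j) ∧
      ∀ m, IsConj (c.s.φ x) (c.s.φ m) → centCard m ≤ centCard (rep j) := by
  obtain ⟨m, hm, hmax⟩ := c.exists_max x
  obtain ⟨j, hj⟩ := (inC_inv m).1 ((c.sq_code hm).2.1.1 hx)
  obtain ⟨g, hg⟩ := inC_conj j m hj
  have hb : conjS (invS g) m = rep j := c.s.inj (by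
    rw [← c.s.conj, ← hg, ← c.s.conj, ← c.s.inv]; group)
  refine ⟨j, ?_, hm.trans (hg ▸ c.conj_code g (rep j) : IsConj (c.s.φ (rep j)) (c.s.φ m)).symm, hb ▸ c.emb hm hmax (invS g),
    fun y hy => ?_⟩
  · rintro rfl
    exact h40 ((c.sq_code hm).2.2.2 ((inC_zero m).1 hj))
  · rw [← c.centCard_conj g (rep j), hg]
    exact hmax y (hm.symm.trans hy)


include c in
theorem class_cent (m : Fin 512) {j : Fin 9} (hj : inC j m = true) :
    centCard m = centCard (rep j) := by
  obtain ⟨g, hg⟩ := inC_conj j m hj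
  rw [← hg, c.centCard_conj]

theorem class_conj (m : Fin 512) {j : Fin 9} (hj : inC j m = true) : IsConj (c.s.φ (rep j)) (c.s.φ m) := by
  obtain ⟨g, hg⟩ := inC_conj j m hj
  exact hg ▸ c.conj_code g _

/-- The class 4 is fused with none of the involutions of the subgroup of order 64. -/
theorem four_class_inv (m : Fin 512) {k : Fin 9} (hk : k = 1 ∨ k = 2 ∨ k = 3 ∨ k = 7) (hm : inC k m = true) :
    ¬ IsConj (c.s.φ 133) (c.s.φ m) := by
  intro h
  obtain ⟨h10, h2, h128, h133, h256, h257, h320, h339, -⟩ := cent_values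
  obtain ⟨⟨w1, w2, w3, w4, w5⟩, -⟩ := witness_facts
  have base : ∀ x, IsConj (c.s.φ 133) (c.s.φ x) → x = 10 ∨ x = 2 ∨ x = 128 → False := by
    intro x hx hcase
    obtain ⟨j, hj0, hj, hemb, hmax⟩ := c.inv_max (x := 133) (by decide +kernel) (by decide)
    have h64 := hmax 133 (IsConj.refl _)
    have hxle := hmax x hx
    have h4 : j = 4 := by
      rcases (by decide : ∀ j : Fin 9, j = 0 ∨ rep j ∈ ([10, 2, 128] : List (Fin 512)) ∨ j = 4 ∨
        rep j ∈ ([320, 339, 256, 257] : List (Fin 512))) j with e | e | e | e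
      · exact absurd e hj0
      · exact absurd hemb (c.no_pair (by
          simp only [List.mem_cons, List.not_mem_nil, or_false] at e ⊢
          tauto) w1 w2 w3 w4 w5)
      · exact e
      · simp only [List.mem_cons, List.not_mem_nil, or_false] at e
        rcases e with e | e | e | e <;> rw [e] at h64 <;> omega
    subst h4
    rw [show rep 4 = 133 from rfl, h133] at hxle
    rcases hcase with rfl | rfl | rfl
    · omega
    · omega
    · refine c.no_pair (y := 128) (by simp) w1 w2 w3 w4 w5 (?_ : Emb 133 128)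
      have hxmax : c.IsMax 128 := fun y hy => by
        have := hmax y (hx.trans hy)
        rw [show rep 4 = 133 from rfl, h133] at this
        rw [h128]; exact this
      have := c.emb hx hxmax 0
      rwa [show conjS 0 128 = 128 by decide +kernel] at this
  have hrep := h.trans (c.class_conj m hm).symm
  rcases hk with rfl | rfl | rfl | rfl
  · exact base _ hrep (Or.inl rfl)
  · exact base _ hrep (Or.inr (Or.inl rfl))
  · exact base _ hrep (Or.inr (Or.inr rfl))
  · obtain ⟨k', -, ⟨a, ha, hae⟩, -⟩ := c.mover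
    refine base 128 (hrep.trans ((c.class_conj a ha).trans ?_)) (Or.inr (Or.inr rfl))
    exact (_root_.isConj_iff.2 ⟨k', hae.symm⟩ : IsConj (c.s.φ 128) (c.s.φ a)).symm

/-- The classes 5 and 6 are closed. -/
theorem five_six_class {k : Fin 9} (hk : k = 5 ∨ k = 6) (m : Fin 512) {j : Fin 9} (hj : inC j m = true)
    (h : IsConj (c.s.φ (rep k)) (c.s.φ m)) : j = 5 ∨ j = 6 := by
  obtain ⟨h10, h2, h128, h133, h256, h257, h320, h339, -⟩ := cent_values
  have hx : rep k ∈ ([320, 339] : List (Fin 512)) := by rcases hk with rfl | rfl <;> simp [rep]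
  obtain ⟨⟨a, b⟩, -, pa, pb, pa2, pb2, pw, pw4⟩ := witness_facts.2.1 _ hx
  have h40 : rep k ≠ 40 := by rcases hk with rfl | rfl <;> decide
  obtain ⟨j0, hj0, hjc, hemb, hmax⟩ := c.inv_max (x := rep k) (rep_facts k).2 h40
  have key : ∀ i : Fin 9, i ≠ 0 → Emb (rep k) (rep i) → i = 5 ∨ i = 6 := by
    intro i hi he
    rcases (by decide : ∀ i : Fin 9, i = 0 ∨ i = 4 ∨ i = 5 ∨ i = 6 ∨
      rep i ∈ ([10, 2, 128, 256, 257] : List (Fin 512))) i with h | rfl | h | h | h
    · exact absurd h hi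
    · exfalso
      obtain ⟨f, f40, fx, finj, f0, fc, fm⟩ := he
      have hl : ∀ a, commS (rep k) a = true → mulS a a = 0 → f a ∈ invL 133 := fun a ha h2 =>
        invL_spec 133 (by simp) _ (by have := fc a ha; simpa [rep] using this) (by rw [← fm a a ha ha, h2, f0])
      obtain ⟨e, hw⟩ := c.pair_image f40 fx finj f0 fm pa pb
      refine pair_four _ (hl a pa pa2) _ (hl b pb pb2) (by simpa [rep] using hw pw) ?_
      rw [← e]
      have hab : commS (rep k) (mulS (mulS a b) (mulS a b)) = true := by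
        have h1 : commS (rep k) (mulS a b) = true := c.s.commute.1 (by
          rw [← c.s.mul, ← mul_assoc, c.s.commute.2 pa, mul_assoc, c.s.commute.2 pb, ← mul_assoc])
        exact c.s.commute.1 (by
          rw [← c.s.mul, ← mul_assoc, c.s.commute.2 h1, mul_assoc, c.s.commute.2 h1, ← mul_assoc])
      rw [← fm _ _ hab hab, pw4, f0]
    · exact Or.inl h
    · exact Or.inr h
    · exact absurd he (c.no_pair h pa pb pa2 pb2 pw)
  have hle := hmax m h
  rw [c.class_cent m hj] at hle
  have hj00 : j ≠ 0 := by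
    rintro rfl
    exact h40 ((c.sq_code h).2.2.2 ((inC_zero m).1 hj))
  have h32 : centCard (rep j0) = 32 := by rcases key j0 hj0 hemb with rfl | rfl <;> assumption
  have hall : ∀ i : Fin 9, i ≠ 0 → 32 ≤ centCard (rep i) := by
    intro i hi
    fin_cases i <;> simp [rep] at hi ⊢ <;> omega
  refine key j hj00 ?_
  have hmmax : c.IsMax m := fun y hy => by
    rw [c.class_cent m hj]
    exact (hmax y (h.trans hy)).trans (h32 ▸ hall j hj00)
  obtain ⟨g, hg⟩ := inC_conj j m hj
  have hb : conjS (invS g) m = rep j := c.s.inj (by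
    rw [← c.s.conj, ← hg, ← c.s.conj, ← c.s.inv]; group)
  exact hb ▸ c.emb h hmmax (invS g)

/-- An element of the fourth power class is fused with none squaring to the centre in the subgroup. -/
theorem four_class_sq {r : Fin 512} (hr : r ∈ ([20, 22, 28, 130, 264] : List (Fin 512))) :
    ¬ IsConj (c.s.φ 135) (c.s.φ r) := by
  intro h
  obtain ⟨-, -, -, -, -, -, -, -, h20, h22, h28, h130, h135, h264, h265⟩ := cent_values
  obtain ⟨-, -, v1, v2, v3, v4, v5, v6, v7, v8⟩ := witness_facts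
  have hno : ∀ y ∈ ([20, 22, 28, 130] : List (Fin 512)), ¬ Emb 135 y := by
    rintro y hy ⟨f, f40, fx, finj, f0, fc, fm⟩
    have hy' : y ∈ ([10, 2, 128, 133, 256, 257, 20, 22, 28, 130] : List (Fin 512)) := by
      simp only [List.mem_cons, List.not_mem_nil, or_false] at hy ⊢
      tauto
    have hl : ∀ a, commS 135 a = true → mulS a a = 0 → f a ∈ invL y := fun a ha h2 =>
      invL_spec y hy' _ (fc a ha) (by rw [← fm a a ha ha, h2, f0])
    have h257 : mulS 257 257 = 0 := by decide +kernel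
    have := triple_none y hy (f 67) (sqL_spec y hy _ (fc _ v1) (by rw [← fm _ _ v1 v1, v4, fx]))
      (f 147) (hl _ v3 v5) (by
        refine c.s.commute.1 ?_
        rw [c.s.mul, c.s.mul, ← fm _ _ v1 v3, ← fm _ _ v3 v1, comm_rep v6])
      (f 257) (hl _ v2 h257) (by rw [← (c.pair_image f40 fx finj f0 fm v2 v3).1, v7, f40])
    rw [(c.pair_image f40 fx finj f0 fm v1 v2).2 v8] at this
    exact Bool.noConfusion this
  obtain ⟨m, hm, hmax⟩ := c.exists_max 135
  have h64 : 64 ≤ centCard m := h135 ▸ hmax 135 hm.symm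
  obtain ⟨r', hr', g, -, hg⟩ : ∃ r' : Fin 512, r' ∈ ([20, 22, 28, 130, 264, 135, 265] : List (Fin 512)) ∧
      ∃ g ∈ trans4, conjS g r' = m := by
    rcases four_class m ((c.sq_code hm).1.1 (by decide +kernel)) with ⟨-, r', h1, h2⟩ | ⟨-, r', h1, h2⟩ <;>
    · refine ⟨r', ?_, h2⟩
      simp only [List.mem_cons, List.not_mem_nil, or_false] at h1 ⊢
      tauto
  rw [← hg, c.centCard_conj] at h64
  have hb : conjS (invS g) m = r' := c.s.inj (by
    rw [← c.s.conj, ← hg, ← c.s.conj, ← c.s.inv]; group)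
  have hemb := c.emb hm hmax (invS g)
  rw [hb] at hemb
  have hr'135 : r' = 135 := by
    simp only [List.mem_cons, List.not_mem_nil, or_false] at hr'
    rcases hr' with rfl | rfl | rfl | rfl | rfl | rfl | rfl
    iterate 4 exact absurd hemb (hno _ (by simp))
    · omega
    · rfl
    · omega
  have hle : ∀ y, IsConj (c.s.φ 135) (c.s.φ y) → centCard y ≤ 64 := fun y hy => by
    have := hmax y (hm.symm.trans hy)
    rwa [← hg, c.centCard_conj, hr'135, h135] at this
  have base : ∀ y ∈ ([20, 22, 28, 130] : List (Fin 512)), ¬ IsConj (c.s.φ 135) (c.s.φ y) := by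
    intro y hy hc
    have := hle y hc
    have hyc : centCard y = 128 ∨ centCard y = 256 ∨ y = 130 := by
      simp only [List.mem_cons, List.not_mem_nil, or_false] at hy
      rcases hy with rfl | rfl | rfl | rfl <;> simp [h20, h22, h28]
    rcases hyc with h' | h' | rfl
    · omega
    · omega
    · refine hno 130 hy ?_
      have := c.emb hc (fun z hz => by rw [h130]; exact hle z (hc.trans hz)) 0
      rwa [show conjS 0 130 = 130 by decide +kernel] at this
  by_cases hr4 : r = 264
  · subst hr4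
    obtain ⟨k, hkV, ⟨a, ha, hae⟩, -⟩ := c.mover
    obtain ⟨c1, -, hV⟩ := move_codes
    obtain ⟨v, hv, hve⟩ := hkV 2 hV
    have e : c.s.φ (mulS v a) = k * c.s.φ 130 * k⁻¹ := by
      rw [← c.s.mul, hve, hae, ← c1, ← c.s.mul]; group
    have hsq : mulS (mulS v a) (mulS v a) = 40 :=
      (c.sq_code (_root_.isConj_iff.2 ⟨k, e.symm⟩ : IsConj (c.s.φ 130) (c.s.φ (mulS v a)))).1.1 (by decide +kernel)
    have hvK : mkC (vP v) 0 = v := by
      have : inK v = true := by simp only [inV, Bool.and_eq_true] at hv; exact hv.1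
      rw [← (inK_iff v).1 this, mkC_parts]
    have hmv := move_seven a ha (vP v) (by rwa [hvK]) (by rwa [hvK])
    simp only [List.any_eq_true, beq_iff_eq, hvK] at hmv
    obtain ⟨g', -, hg'⟩ := hmv
    refine base 130 (by simp) ((h.trans ?_).trans (_root_.isConj_iff.2 ⟨k, e.symm⟩ : IsConj (c.s.φ 130) _).symm)
    exact hg' ▸ c.conj_code g' 264
  · refine base r ?_ h
    simp only [List.mem_cons, List.not_mem_nil, or_false] at hr ⊢
    tauto

/-- No element of the subgroup of order 64 is fused modulo the centre to one outside it. -/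
theorem R_closed_fusion {n m : Fin 512} (hn : inR n = true) (h : IsConj (c.s.φ n) (c.s.φ m)) : inR m = true := by
  by_cases h0 : n = 0
  · subst h0
    obtain ⟨g, hg⟩ := _root_.isConj_iff.1 h
    rw [c.s.one, mul_one, mul_inv_cancel, eq_comm, c.s.eq_one] at hg
    rw [hg]; exact R_closed.1
  by_cases h40 : n = 40
  · rw [(c.sq_code h).2.2.1 h40]; exact R_closed.2.1
  by_contra hm
  rw [Bool.not_eq_true] at hm
  obtain ⟨k0, hkV, -, b, hb, hbe⟩ := c.mover
  rcases (R_closed.2.2.2.1 n hn).2 with hsq | hsq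
  · have hni : isInv n = true := isInv_iff.2 ⟨h0, hsq⟩
    have hmi := (c.sq_code h).2.1.1 hni
    obtain ⟨k, hk⟩ : ∃ k : Fin 9, (k = 1 ∨ k = 2 ∨ k = 3 ∨ k = 7) ∧ inC k n = true := by
      rcases (R_inv n hni).1 hn with e | e | e | e | e
      · exact absurd ((inC_zero n).1 e) h40
      all_goals exact ⟨_, by simp, e⟩
    obtain ⟨hk, hkn⟩ := hk
    obtain ⟨j, hj⟩ := (inC_inv m).1 hmi
    have hj' : j = 4 ∨ j = 8 ∨ j = 5 ∨ j = 6 := by
      have hno : ∀ i : Fin 9, i ∈ ([0, 1, 2, 3, 7] : List (Fin 9)) → inC i m = true → False := fun i hi hi' => by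
        have := (R_inv m hmi).2 (by
          simp only [List.mem_cons, List.not_mem_nil, or_false] at hi
          rcases hi with rfl | rfl | rfl | rfl | rfl <;> simp [hi'])
        rw [hm] at this
        exact Bool.noConfusion this
      rcases (by decide : ∀ j : Fin 9, (j = 4 ∨ j = 8 ∨ j = 5 ∨ j = 6) ∨ j ∈ ([0, 1, 2, 3, 7] : List (Fin 9))) j
        with e | e
      · exact e
      · exact (hno j e hj).elim
    rcases hj' with rfl | rfl | h56 | h56
    · exact c.four_class_inv n hk hkn (((c.class_conj m hj).trans h.symm) :)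
    · refine c.four_class_inv n hk hkn (((_root_.isConj_iff.2 ⟨k0, hbe.symm⟩ : IsConj (c.s.φ 133) (c.s.φ b)).trans
        (c.class_conj b hb).symm).trans ((c.class_conj m hj).trans h.symm))
    all_goals
      have := c.five_six_class (k := j) (by simp [h56]) n hkn ((c.class_conj m hj).trans h.symm)
      rcases hk with rfl | rfl | rfl | rfl <;> simp at this
  · have hmsq := (c.sq_code h).1.1 hsq
    obtain ⟨r, hr, g, -, hg⟩ : ∃ r : Fin 512, r ∈ ([20, 22, 28, 130, 264] : List (Fin 512)) ∧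
        ∃ g ∈ trans4, conjS g r = n := by
      rcases four_class n hsq with ⟨-, h'⟩ | ⟨h', -⟩
      · exact h'
      · rw [hn] at h'; exact Bool.noConfusion h'
    obtain ⟨r', hr', g', -, hg'⟩ : ∃ r' : Fin 512, r' ∈ ([135, 265] : List (Fin 512)) ∧
        ∃ g ∈ trans4, conjS g r' = m := by
      rcases four_class m hmsq with ⟨h', -⟩ | ⟨-, h'⟩
      · rw [hm] at h'; exact Bool.noConfusion h'
      · exact h'
    have hcr : IsConj (c.s.φ r') (c.s.φ r) :=
      ((hg' ▸ c.conj_code g' r' : IsConj (c.s.φ r') (c.s.φ m)).trans h.symm).trans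
        (hg ▸ c.conj_code g r : IsConj (c.s.φ r) (c.s.φ n)).symm
    refine c.four_class_sq hr (IsConj.trans ?_ hcr)
    simp only [List.mem_cons, List.not_mem_nil, or_false] at hr'
    rcases hr' with rfl | rfl
    · exact IsConj.refl _
    obtain ⟨-, c2, hV⟩ := move_codes
    obtain ⟨v, hv, hve⟩ := hkV 2 hV
    have e : c.s.φ (mulS v b) = k0 * c.s.φ 135 * k0⁻¹ := by
      rw [← c.s.mul, hve, hbe, ← c2, ← c.s.mul]; group
    have he := (_root_.isConj_iff.2 ⟨k0, e.symm⟩ : IsConj (c.s.φ 135) (c.s.φ (mulS v b)))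
    have hvK : mkC (vP v) 0 = v := by
      have : inK v = true := by simp only [inV, Bool.and_eq_true] at hv; exact hv.1
      rw [← (inK_iff v).1 this, mkC_parts]
    have hmv := move_eight b hb (vP v) (by rwa [hvK]) (by rw [hvK]; exact (c.sq_code he).1.1 (by decide +kernel))
    simp only [List.any_eq_true, beq_iff_eq, hvK] at hmv
    obtain ⟨g'', -, hg''⟩ := hmv
    exact he.trans (hg'' ▸ c.conj_code g'' 265 : IsConj (c.s.φ 265) _).symm

end Ctx

end Cfsg.Agent.Spor.HSType
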