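import Cfsg.Agent.Lib.Spor.HSType.CentFacts2

/-!
# The fifteen singular points, their lines, and the six partitions into lines
-/

set_option autoImplicit false
set_option maxRecDepth 100000
set_option maxHeartbeats 4000000

namespace Cfsg.Agent.Spor.HSType

/-- The singular points, as codes. -/
def ptC : Fin 15 → Fin 512 := ![2, 8, 10, 128, 138, 148, 158, 256, 258, 284, 286, 384, 392, 404, 412]

/-- A nibble of a table. -/
def nib15 (t i : ℕ) : Fin 15 := ⟨(t >>> (4 * i)) % 16 % 15, Nat.mod_lt _ (by norm_num)⟩

/-- The points of a line. -/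
def lpts (l : Fin 15) (j : Fin 3) : Fin 15 := nib15 1116038346217748700334998603896196335643420291466986000 (3 * (l : ℕ) + (j : ℕ))

/-- The third point of a line. -/
def third (i j : Fin 15) : Fin 15 := nib15 33020109575900836345501406147302590379182263292066937907851543438223495573025737544988876960475949789643584766736248165401915974644427856623330178722852371945362843513177039879019694203514732197450013099996980925574253008536011830022681726913520838305918204034607481120 (15 * (i : ℕ) + (j : ℕ))

/-- The line through two collinear points. -/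
def lineThru (i j : Fin 15) : Fin 15 := nib15 132078074305107029904723462169802944495674220656923378665323070322838453708673012855352592949885439230546602364448947172046637779296987396394099723654331334209401920597205456951925235279705050265295827969426291098088902887162252682853826200836081768460983202027227054080 (15 * (i : ℕ) + (j : ℕ))

/-- The lines of a partition. -/
def spLine (s : Fin 6) (k : Fin 5) : Fin 15 := nib15 786068687944786379417609685915519600 (5 * (s : ℕ) + (k : ℕ))

/-- The partition through two disjoint lines. -/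
def spThru (l m : Fin 15) : Fin 6 :=
  ⟨(nib15 6320465028000221643583186132932766907567260696419117770113815287297466125073965330619173373330969707775688194503891417251220902690962346244215852268822216799065934402682586396343371794532051655898545683676728610898038516197609115546598336835341674052068579833146245120 (15 * (l : ℕ) + (m : ℕ)) : ℕ) % 6, Nat.mod_lt _ (by norm_num)⟩

/-- Collinearity. -/
def coll (i j : Fin 15) : Bool := i != j && commS (ptC i) (ptC j)

/-- A point on a line. -/
def onL (i l : Fin 15) : Bool := lpts l 0 == i || lpts l 1 == i || lpts l 2 == i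

/-- Disjoint lines. -/
def disjL (l m : Fin 15) : Bool := !(onL (lpts l 0) m || onL (lpts l 1) m || onL (lpts l 2) m)

theorem line_thru : ∀ i j : Fin 15, coll i j = true → onL i (lineThru i j) = true ∧
    onL j (lineThru i j) = true ∧ onL (third i j) (lineThru i j) = true ∧ coll i (third i j) = true ∧
    (mulS (ptC i) (ptC j) = ptC (third i j) ∨ mulS (ptC i) (ptC j) = mulS 40 (ptC (third i j))) := by
  decide +kernel

theorem line_pts : ∀ l : Fin 15, coll (lpts l 0) (lpts l 1) = true ∧ third (lpts l 0) (lpts l 1) = lpts l 2 ∧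
    lineThru (lpts l 0) (lpts l 1) = l := by decide +kernel

theorem line_unique : ∀ l : Fin 15, ∀ i, onL i l = true → ∀ j, onL j l = true → i ≠ j →
    coll i j = true ∧ lineThru i j = l := by decide +kernel

theorem line_three : ∀ l : Fin 15, ∀ i, onL i l = true → ∃ j : Fin 3, lpts l j = i := by decide +kernel

theorem spread_thru : ∀ l m : Fin 15, disjL l m = true →
    ∃ k k' : Fin 5, spLine (spThru l m) k = l ∧ spLine (spThru l m) k' = m := by decide +kernel

theorem spread_pairs : ∀ (s : Fin 6) (k k' : Fin 5), k ≠ k' →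
    disjL (spLine s k) (spLine s k') = true ∧ spThru (spLine s k) (spLine s k') = s ∧
    spLine s k ≠ spLine s k' := by decide +kernel

theorem spread_quad : ∀ l m : Fin 15, disjL l m = true → ∀ p : Fin 15, disjL l p = true → disjL m p = true →
    ∀ q : Fin 15, disjL l q = true → disjL m q = true → disjL p q = true →
    spThru l p = spThru l m ∧ spThru l q = spThru l m := by decide +kernel

theorem spread_cover : ∀ (s : Fin 6) (i : Fin 15), ∃ k : Fin 5, onL i (spLine s k) = true := by decide +kernel

/-- The point of a code. -/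
def ptIdx (n : Fin 512) : Fin 15 :=
  (((List.finRange 15).find? fun i => ptC i == n || ptC i == mulS 40 n).getD 0)

theorem pt_spec : (∀ n : Fin 512, inR n = true → mulS n n = 0 → n ≠ 0 → n ≠ 40 →
      n = ptC (ptIdx n) ∨ n = mulS 40 (ptC (ptIdx n))) ∧
    (∀ i : Fin 15, inR (ptC i) = true ∧ mulS (ptC i) (ptC i) = 0 ∧ ptC i ≠ 0 ∧ ptC i ≠ 40 ∧
      ptIdx (ptC i) = i ∧ ptIdx (mulS 40 (ptC i)) = i) := by decide +kernel

/-- The points generating the group modulo the centre. -/
def genP : List (Fin 15) := [0, 1, 3, 7, 5]

theorem genP_span : ∀ n : Fin 512, (∀ i ∈ genP, commS n (ptC i) = true) → inR n = true →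
    n = 0 ∨ n = 22 ∨ n = 40 ∨ n = 62 := by decide +kernel

theorem genP_gen : ∀ r ∈ genR, ∃ a b c d e : Bool,
    r = mulS (mulS (mulS (if a then 2 else 0) (if b then 8 else 0)) (mulS (if c then 128 else 0) (if d then 256 else 0)))
      (if e then 148 else 0) ∨
    r = mulS 40 (mulS (mulS (mulS (if a then 2 else 0) (if b then 8 else 0))
      (mulS (if c then 128 else 0) (if d then 256 else 0))) (if e then 148 else 0)) := by decide +kernel

/-- The neighbour of a point on a line of a partition. -/
def nbr (i : Fin 15) (l : Fin 15) : Fin 15 :=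
  if coll i (lpts l 0) then lpts l 0 else if coll i (lpts l 1) then lpts l 1 else lpts l 2

/-- The map determined by the image of one line. -/
def derived (s : Fin 6) (a b c : Fin 3) (i : Fin 15) : Fin 15 :=
  let l := spLine s 0
  let img (j : Fin 3) : Fin 15 := lpts l (if j = 0 then a else if j = 1 then b else c)
  if onL i l then (if lpts l 0 = i then img 0 else if lpts l 1 = i then img 1 else img 2)
  else
    let k := ((List.finRange 5).find? fun k => onL i (spLine s k)).getD 0
    let x : Fin 3 := if coll (lpts l 0) i then 0 else if coll (lpts l 1) i then 1 else 2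
    nbr (img x) (spLine s k)

theorem derived_id : ∀ s : Fin 6, ((s : ℕ) < 2) → ∀ a b c : Fin 3, a ≠ b → a ≠ c → b ≠ c →
    (∀ i j : Fin 15, coll i j = true → coll (derived s a b c i) (derived s a b c j) = true) →
    ∀ i, derived s a b c i = i := by decide +kernel

/-- A perpendicular point on another line is unique. -/
theorem nbr_unique : ∀ s : Fin 6, ((s : ℕ) < 2) → ∀ k : Fin 5, ∀ i : Fin 15, onL i (spLine s k) = false →
    ∀ j, onL j (spLine s k) = true → coll i j = true → nbr i (spLine s k) = j := by decide +kernel

theorem nbr_exists : ∀ s : Fin 6, ((s : ℕ) < 2) → ∀ k : Fin 5, ∀ i : Fin 15, onL i (spLine s k) = false →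
    coll i (nbr i (spLine s k)) = true ∧ onL (nbr i (spLine s k)) (spLine s k) = true := by decide +kernel

/-- The point collinear with one on a line of a partition, as a position. -/
def footX (l : Fin 15) (i : Fin 15) : Fin 3 :=
  if coll (lpts l 0) i then 0 else if coll (lpts l 1) i then 1 else 2

theorem derived_x : ∀ s : Fin 6, ((s : ℕ) < 2) → ∀ i : Fin 15, onL i (spLine s 0) = false →
    coll (lpts (spLine s 0) (footX (spLine s 0) i)) i = true := by decide +kernel

theorem spread_fourth : ∀ a b c : Fin 5, ∃ e : Fin 5, e ≠ a ∧ e ≠ b ∧ e ≠ c := by decide +kernel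

theorem spread_base : ∀ s : Fin 6, ((s : ℕ) < 2) → ∃ k : Fin 5, spLine s k = 0 := by decide +kernel

/-- The action of a code on the points. -/
def sigS (g : Fin 512) (i : Fin 15) : Fin 15 := ptIdx (conjS g (ptC i))

/-- The action of a code on the lines. -/
def tauS (g : Fin 512) (l : Fin 15) : Fin 15 := lineThru (sigS g (lpts l 0)) (sigS g (lpts l 1))

/-- The action of a code on the partitions. -/
def muS (g : Fin 512) (s : Fin 6) : Fin 6 := spThru (tauS g (spLine s 0)) (tauS g (spLine s 1))

/-- Representatives of the dihedral quotient. -/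
def topReps : List (Fin 512) := [0, 1, 4, 64, 65, 68, 133, 69]

theorem mu_fixed : ∀ g : Fin 512, muS g 0 = 0 ∧ muS g 1 = 1 := by decide +kernel

theorem mu_four : ∀ s : Fin 6, 2 ≤ (s : ℕ) → ∀ s' : Fin 6, 2 ≤ (s' : ℕ) → ∃ g ∈ topReps, muS g s = s' := by
  decide +kernel

theorem tau_trans : ∀ s : Fin 6, ((s : ℕ) < 2) → ∀ k k' : Fin 5, spLine s k ≠ 0 → spLine s k' ≠ 0 →
    ∃ g ∈ topReps, tauS g (spLine s k) = spLine s k' := by decide +kernel

theorem tau_swap : ∀ s : Fin 6, ((s : ℕ) < 2) → ∃ g ∈ topReps, ∃ a b : Fin 5, a ≠ b ∧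
    ∀ k, tauS g (spLine s k) = spLine s (Equiv.swap a b k) := by decide +kernel

theorem orbit_cases : ∀ O : Finset (Fin 6), O.card % 2 = 1 → 0 ∈ O →
    (∀ s s' : Fin 6, 2 ≤ (s : ℕ) → 2 ≤ (s' : ℕ) → s ∈ O → s' ∈ O) →
    1 ∉ O ∧ (O = {0} ∨ ∀ s, s ≠ 1 → s ∈ O) := by decide +kernel

theorem point_line : (∀ v : Fin 512, inV v = true → v ≠ 0 → v ≠ 40 → onL (ptIdx v) 0 = true) ∧
    ptIdx 128 = 3 ∧ onL 3 0 = false := by decide +kernel

theorem R_word : ∀ n : Fin 512, inR n = true →
    ∃ l : List (Fin 512), (∀ r ∈ l, r ∈ genR) ∧ (n = l.foldr mulS 0 ∨ n = mulS 40 (l.foldr mulS 0)) := by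
  have h : ∀ n : Fin 512, inR n = true →
      ∃ l ∈ genR.sublists, n = l.foldr mulS 0 ∨ n = mulS 40 (l.foldr mulS 0) := by decide +kernel
  intro n hn
  obtain ⟨l, hl, e⟩ := h n hn
  exact ⟨l, fun r hr => (List.mem_sublists.1 hl).subset hr, e⟩

end Cfsg.Agent.Spor.HSType
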