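import Cfsg.Agent.Lib.Spor.HSType.CentNormal
import Cfsg.Agent.Lib.Spor.HSType.Spreads

/-!
# The quotient by the subgroup of order 64 is the symmetric group of degree five

The group permutes the six partitions of the singular points into lines; the Sylow subgroup fixes two of them and
is transitive on the others, so one is fixed by the whole group, which permutes its five lines.
-/

set_option autoImplicit false
set_option linter.unusedSectionVars false
set_option linter.style.haveILetI false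
set_option maxRecDepth 100000

namespace Cfsg.Agent.Spor.HSType

open Subgroup

universe u

attribute [local irreducible] conjS inR mulS commS ptIdx ptC lpts lineThru spThru spLine onL third

variable {G : Type u} [Group G] [Finite G]

namespace Ctx

variable (c : Ctx G)

/-- The image of a singular point. -/
def pt (i : Fin 15) : G ⧸ c.Z := c.ψ (ptC i)

theorem pt_inj : Function.Injective c.pt := fun i j h => by
  rcases c.ψ_eq.1 h with e | e
  · rw [← (pt_spec.2 i).2.2.2.2.1, e, (pt_spec.2 j).2.2.2.2.1]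
  · rw [← (pt_spec.2 i).2.2.2.2.1, e, (pt_spec.2 j).2.2.2.2.2]

theorem exists_image (g : G) (i : Fin 15) : ∃ j, c.qm g * c.pt i * (c.qm g)⁻¹ = c.pt j := by
  obtain ⟨hiR, hi2, hi0, hi40, -, -⟩ := pt_spec.2 i
  obtain ⟨n, hn, e⟩ : g * c.s.φ (ptC i) * g⁻¹ ∈ c.R := c.R_normal.conj_mem _ (c.s.mem_sub.2 hiR) g
  have hc : IsConj (c.s.φ (ptC i)) (c.s.φ n) := _root_.isConj_iff.2 ⟨g, e.symm⟩
  obtain ⟨hn0, hn2⟩ := isInv_iff.1 ((c.sq_code hc).2.1.1 (isInv_iff.2 ⟨hi0, hi2⟩))
  have hn40 : n ≠ 40 := fun h => hi40 ((c.sq_code hc).2.2.2 h)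
  refine ⟨ptIdx n, ?_⟩
  rw [pt, pt, ψ, ← map_mul, ← map_inv, ← map_mul, ← e]
  exact c.ψ_eq.2 (pt_spec.1 n hn hn2 hn0 hn40)

/-- The action on the points. -/
noncomputable def σ (g : G) (i : Fin 15) : Fin 15 := (c.exists_image g i).choose

theorem σ_spec (g : G) (i : Fin 15) : c.qm g * c.pt i * (c.qm g)⁻¹ = c.pt (c.σ g i) :=
  (c.exists_image g i).choose_spec

theorem σ_eq {g : G} {i j : Fin 15} (h : c.qm g * c.pt i * (c.qm g)⁻¹ = c.pt j) : c.σ g i = j :=
  c.pt_inj ((c.σ_spec g i).symm.trans h)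

theorem σ_one (i : Fin 15) : c.σ 1 i = i := c.σ_eq (by simp)

theorem σ_mul (g h : G) (i : Fin 15) : c.σ (g * h) i = c.σ g (c.σ h i) := c.σ_eq (by
  rw [← c.σ_spec, ← c.σ_spec, map_mul]; group)

theorem σ_inj (g : G) : Function.Injective (c.σ g) := fun i j h => by
  have := congrArg (c.σ g⁻¹) h
  rwa [← c.σ_mul, ← c.σ_mul, inv_mul_cancel, c.σ_one, c.σ_one] at this

theorem σ_code (g : Fin 512) (i : Fin 15) : c.σ (c.s.φ g) i = sigS g i := by
  refine c.σ_eq ?_
  obtain ⟨hiR, hi2, hi0, hi40, -, -⟩ := pt_spec.2 i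
  rw [pt, pt, ψ, ← map_mul, ← map_inv, ← map_mul, c.s.conj]
  have hn : inR (conjS g (ptC i)) = true := c.ψ_mem_A.1 (by
    have := (mem_normalizer_iff.1 (c.T_normalizes (c.mem_T.2 ⟨g, rfl⟩)) _).1 (c.ψ_mem_A.2 hiR)
    rwa [show c.ψ g * c.ψ (ptC i) * (c.ψ g)⁻¹ = c.ψ (conjS g (ptC i)) by
      rw [ψ, ψ, ψ, ← map_mul, ← map_inv, ← map_mul, c.s.conj]] at this)
  have hc := c.conj_code g (ptC i)
  obtain ⟨hn0, hn2⟩ := isInv_iff.1 ((c.sq_code hc).2.1.1 (isInv_iff.2 ⟨hi0, hi2⟩))
  exact c.ψ_eq.2 (pt_spec.1 _ hn hn2 hn0 fun h => hi40 ((c.sq_code hc).2.2.2 h))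

theorem σ_coll (g : G) {i j : Fin 15} (h : coll i j = true) : coll (c.σ g i) (c.σ g j) = true := by
  simp only [coll, Bool.and_eq_true, bne_iff_ne, ne_eq] at h ⊢
  exact ⟨fun e => h.1 (c.σ_inj g e), ((c.lift_rel (c.σ_spec g i) (c.σ_spec g j)).1).symm.trans h.2⟩

/-- The action on the lines. -/
noncomputable def τ (g : G) (l : Fin 15) : Fin 15 := lineThru (c.σ g (lpts l 0)) (c.σ g (lpts l 1))

theorem onL_τ (g : G) {i l : Fin 15} (h : onL i l = true) : onL (c.σ g i) (c.τ g l) = true := by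
  obtain ⟨hc, ht, -⟩ := line_pts l
  obtain ⟨h0, h1, h2, -, -⟩ := line_thru _ _ (c.σ_coll g hc)
  obtain ⟨j, rfl⟩ := line_three l i h
  fin_cases j
  · exact h0
  · exact h1
  show onL (c.σ g (lpts l 2)) (c.τ g l) = true
  suffices e : c.σ g (lpts l 2) = third (c.σ g (lpts l 0)) (c.σ g (lpts l 1)) from e ▸ h2
  refine c.σ_eq ?_
  have prod : ∀ a b, coll a b = true → c.pt (third a b) = c.pt a * c.pt b := fun a b hab => by
    rw [pt, pt, pt, c.ψ_mul]
    rcases (line_thru a b hab).2.2.2.2 with e | e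
    · rw [e]
    · rw [e]; exact c.ψ_eq.2 (Or.inr (c.s.inj (by
        rw [← c.s.mul, ← c.s.mul, ← mul_assoc, c.s.sq.2 forty_facts.2.2, one_mul])))
  rw [← ht, prod _ _ hc, prod _ _ (c.σ_coll g hc), ← c.σ_spec, ← c.σ_spec]
  group

theorem τ_mul (g h : G) (l : Fin 15) : c.τ (g * h) l = c.τ g (c.τ h l) := by
  obtain ⟨hc, -, -⟩ := line_pts l
  have h0 : onL (lpts l 0) l = true := by unfold onL; simp
  have h1 : onL (lpts l 1) l = true := by unfold onL; simp
  have := c.onL_τ g (c.onL_τ h h0)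
  have := c.onL_τ g (c.onL_τ h h1)
  rw [show c.τ (g * h) l = lineThru (c.σ g (c.σ h (lpts l 0))) (c.σ g (c.σ h (lpts l 1))) by
    rw [τ, c.σ_mul, c.σ_mul]]
  refine (line_unique _ _ (c.onL_τ g (c.onL_τ h h0)) _ (c.onL_τ g (c.onL_τ h h1)) fun e => ?_).2
  have h2 := c.σ_inj h (c.σ_inj g e)
  unfold coll at hc
  simp [h2] at hc

theorem τ_one (l : Fin 15) : c.τ 1 l = l := by rw [τ, c.σ_one, c.σ_one]; exact (line_pts l).2.2

theorem τ_code (g : Fin 512) (l : Fin 15) : c.τ (c.s.φ g) l = tauS g l := by rw [τ, c.σ_code, c.σ_code, tauS]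

theorem τ_inj (g : G) : Function.Injective (c.τ g) := fun l m h => by
  have := congrArg (c.τ g⁻¹) h
  rwa [← c.τ_mul, ← c.τ_mul, inv_mul_cancel, c.τ_one, c.τ_one] at this

theorem disj_τ (g : G) {l m : Fin 15} (h : disjL l m = true) : disjL (c.τ g l) (c.τ g m) = true := by
  by_contra hne
  obtain ⟨j, hjl, hjm⟩ : ∃ j, onL j (c.τ g l) = true ∧ onL j (c.τ g m) = true := by
    simp only [disjL, Bool.not_eq_true', Bool.or_eq_false_iff, not_and_or, Bool.not_eq_false] at hne
    rcases hne with (hh | hh) | hh <;> refine ⟨_, ?_, hh⟩ <;> unfold onL <;> simp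
  have h1 := c.onL_τ g⁻¹ hjl
  have h2 := c.onL_τ g⁻¹ hjm
  rw [← c.τ_mul, inv_mul_cancel, c.τ_one] at h1 h2
  obtain ⟨a, ha⟩ := line_three l _ h1
  rw [← ha] at h2
  simp only [disjL, Bool.not_eq_true', Bool.or_eq_false_iff] at h
  fin_cases a
  · exact absurd h2 (by simp [h.1.1])
  · exact absurd h2 (by simp [h.1.2])
  · exact absurd h2 (by simp [h.2])

/-- The action on the partitions. -/
noncomputable def μ (g : G) (s : Fin 6) : Fin 6 := spThru (c.τ g (spLine s 0)) (c.τ g (spLine s 1))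

theorem μ_line (g : G) (s : Fin 6) (k : Fin 5) : ∃ k', c.τ g (spLine s k) = spLine (c.μ g s) k' := by
  have hd : ∀ a b : Fin 5, a ≠ b → disjL (c.τ g (spLine s a)) (c.τ g (spLine s b)) = true :=
    fun a b hab => c.disj_τ g (spread_pairs s a b hab).1
  obtain ⟨k0, k1, e0, e1⟩ := spread_thru _ _ (hd 0 1 (by decide))
  by_cases hk0 : k = 0
  · exact ⟨k0, hk0 ▸ e0.symm⟩
  by_cases hk1 : k = 1
  · exact ⟨k1, hk1 ▸ e1.symm⟩
  obtain ⟨e, he0, he1, hek⟩ := spread_fourth 0 1 k
  have h01 := hd 0 1 (by decide)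
  have hq := (spread_quad _ _ h01 _ (hd 0 k (Ne.symm hk0)) (hd 1 k (Ne.symm hk1)) _ (hd 0 e he0.symm)
    (hd 1 e he1.symm) (hd k e hek.symm)).1
  obtain ⟨-, k2, -, e2⟩ := spread_thru _ _ (hd 0 k (Ne.symm hk0))
  rw [hq] at e2
  exact ⟨k2, e2.symm⟩

theorem μ_mul (g h : G) (s : Fin 6) : c.μ (g * h) s = c.μ g (c.μ h s) := by
  obtain ⟨a, ha⟩ := c.μ_line h s 0
  obtain ⟨b, hb⟩ := c.μ_line h s 1
  have hab : a ≠ b := fun e => (spread_pairs s 0 1 (by decide)).2.2 (c.τ_inj h (by rw [ha, hb, e]))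
  obtain ⟨a', ha'⟩ := c.μ_line g (c.μ h s) a
  obtain ⟨b', hb'⟩ := c.μ_line g (c.μ h s) b
  have hab' : a' ≠ b' := fun e => (spread_pairs _ a b hab).2.2 (c.τ_inj g (by rw [ha', hb', e]))
  rw [μ, c.τ_mul, c.τ_mul, ha, hb, ha', hb']
  exact (spread_pairs _ a' b' hab').2.1

theorem μ_one (s : Fin 6) : c.μ 1 s = s := by
  rw [μ, c.τ_one, c.τ_one]
  exact (spread_pairs s 0 1 (by decide)).2.1

theorem μ_code (g : Fin 512) (s : Fin 6) : c.μ (c.s.φ g) s = muS g s := by rw [μ, c.τ_code, c.τ_code, muS]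

/-- One of the two partitions fixed by the Sylow subgroup is fixed. -/
theorem exists_fixed : ∃ s : Fin 6, (s : ℕ) < 2 ∧ ∀ g, c.μ g s = s := by
  classical
  haveI : Fact (Nat.Prime 2) := ⟨Nat.prime_two⟩
  letI act : MulAction G (Fin 6) :=
    { smul := c.μ
      one_smul := c.μ_one
      mul_smul := c.μ_mul }
  let O : Finset (Fin 6) := Finset.univ.filter fun s => ∃ g, c.μ g 0 = s
  have hodd : O.card % 2 = 1 := by
    have hle : (c.S : Subgroup G) ≤ MulAction.stabilizer G (0 : Fin 6) := fun x hx => by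
      obtain ⟨n, rfl⟩ := c.s.surj x hx
      exact (c.μ_code n 0).trans (mu_fixed n).1
    have hd := Subgroup.index_dvd_of_le hle
    rw [MulAction.index_stabilizer] at hd
    have hO : MulAction.orbit G (0 : Fin 6) = ↑O := by
      ext x
      rw [Finset.mem_coe, Finset.mem_filter]
      exact ⟨fun ⟨g, e⟩ => ⟨Finset.mem_univ _, g, e⟩, fun ⟨_, g, e⟩ => ⟨g, e⟩⟩
    rw [hO, Set.ncard_coe_finset] at hd
    rw [← Nat.two_dvd_ne_zero]
    exact fun h2 => c.S.not_dvd_index (h2.trans hd)
  have hmem : ∀ {s}, s ∈ O ↔ ∃ g, c.μ g 0 = s := fun {s} => by simp [O]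
  have hfour : ∀ s s' : Fin 6, 2 ≤ (s : ℕ) → 2 ≤ (s' : ℕ) → s ∈ O → s' ∈ O := fun s s' hs hs' h => by
    obtain ⟨g, hg⟩ := hmem.1 h
    obtain ⟨t, -, ht⟩ := mu_four s hs s' hs'
    exact hmem.2 ⟨c.s.φ t * g, by rw [c.μ_mul, hg, c.μ_code, ht]⟩
  obtain ⟨h1, hcase⟩ := orbit_cases O hodd (hmem.2 ⟨1, c.μ_one 0⟩) hfour
  rcases hcase with e | e
  · refine ⟨0, by norm_num, fun g => ?_⟩
    have := hmem.2 ⟨g, rfl⟩
    rwa [e, Finset.mem_singleton] at this
  · refine ⟨1, by norm_num, fun g => ?_⟩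
    by_contra hne
    obtain ⟨g', hg'⟩ := hmem.1 (e _ hne)
    refine h1 (hmem.2 ⟨g⁻¹ * g', ?_⟩)
    rw [c.μ_mul, hg', ← c.μ_mul, inv_mul_cancel, c.μ_one]

/-- The action on the five lines, with the subgroup of order 64 as kernel. -/
theorem exists_sym : ∃ π : G →* Equiv.Perm (Fin 5), Function.Surjective π ∧ π.ker = c.R := by
  classical
  obtain ⟨s0, hs0, hfix⟩ := c.exists_fixed
  have hex : ∀ g k, ∃ k', c.τ g (spLine s0 k) = spLine s0 k' := fun g k => by
    obtain ⟨k', e⟩ := c.μ_line g s0 k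
    exact ⟨k', by rw [e, hfix]⟩
  choose p hp using hex
  have hu : ∀ {i j}, spLine s0 i = spLine s0 j → i = j := fun {i j} h =>
    by_contra fun hne => (spread_pairs s0 i j hne).2.2 h
  have h1 : ∀ k, p 1 k = k := fun k => hu (by rw [← hp, c.τ_one])
  have hm : ∀ g h k, p (g * h) k = p g (p h k) := fun g h k => hu (by rw [← hp, ← hp, ← hp, c.τ_mul])
  let π : G →* Equiv.Perm (Fin 5) :=
    { toFun := fun g => ⟨p g, p g⁻¹, fun i => by rw [← hm, inv_mul_cancel, h1], fun i => by rw [← hm, mul_inv_cancel, h1]⟩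
      map_one' := Equiv.ext h1
      map_mul' := fun g h => Equiv.ext (hm g h) }
  have hπ : ∀ g k, π g k = p g k := fun _ _ => rfl
  have hker : π.ker = c.R := by
    ext g
    constructor
    · intro hg
      have hlines : ∀ k, c.τ g (spLine s0 k) = spLine s0 k := fun k => by
        rw [hp, ← hπ, show π g = 1 from hg]; rfl
      set l := spLine s0 0 with hldef
      have hl : ∀ j, onL (c.σ g (lpts l j)) l = true := fun j => by
        have h0 : onL (lpts l j) l = true := by unfold onL; fin_cases j <;> simp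
        have := c.onL_τ g h0
        rwa [hlines] at this
      choose w hw using fun j => line_three l _ (hl j)
      have hwinj : ∀ i j, w i = w j → i = j := fun i j e => by
        have h2 : lpts l i = lpts l j := c.σ_inj g (by rw [← hw, ← hw, e])
        by_contra hne
        have hd : ∀ l : Fin 15, ∀ i j : Fin 3, i ≠ j → lpts l i ≠ lpts l j := by decide +kernel
        exact hd l i j hne h2
      have hσ : ∀ i, c.σ g i = derived s0 (w 0) (w 1) (w 2) i := by
        intro i
        by_cases hi : onL i l = true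
        · simp only [derived, ← hldef]
          rw [if_pos hi]
          obtain ⟨j, rfl⟩ := line_three l i hi
          have hd : ∀ l : Fin 15, lpts l 1 ≠ lpts l 0 ∧ lpts l 2 ≠ lpts l 0 ∧ lpts l 2 ≠ lpts l 1 := by decide +kernel
          obtain ⟨d10, d20, d21⟩ := hd l
          fin_cases j
          · show _ = if lpts l 0 = lpts l 0 then _ else _
            rw [if_pos rfl]; exact (hw 0).symm
          · show _ = if lpts l 0 = lpts l 1 then _ else _
            rw [if_neg d10.symm]; simp; exact (hw 1).symm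
          · show _ = if lpts l 0 = lpts l 2 then _ else _
            rw [if_neg d20.symm]; simp [d21.symm]; exact (hw 2).symm
        · rw [Bool.not_eq_true] at hi
          simp only [derived, ← hldef]
          rw [if_neg (by rw [hi]; simp)]
          have hfind : ∀ s : Fin 6, ∀ i : Fin 15,
              onL i (spLine s (((List.finRange 5).find? fun k => onL i (spLine s k)).getD 0)) = true := by
            decide +kernel
          have hik := hfind s0 i
          generalize ((List.finRange 5).find? fun k => onL i (spLine s0 k)).getD 0 = k at hik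
          have hk0 : k ≠ 0 := fun e => by rw [e, hi] at hik; exact Bool.noConfusion hik
          have hx := derived_x s0 hs0 i hi
          have hfoot : footX l i = if coll (lpts l 0) i = true then 0 else if coll (lpts l 1) i = true then 1 else 2 :=
            rfl
          rw [← hfoot]
          set x := footX l i
          have e1 : (if x = 0 then w 0 else if x = 1 then w 1 else w 2) = w x := by
            generalize x = y
            fin_cases y <;> simp
          rw [e1, hw]
          have hgi : onL (c.σ g i) (spLine s0 k) = true := by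
            have := c.onL_τ g hik
            rwa [hlines] at this
          have hoff : onL (c.σ g (lpts l x)) (spLine s0 k) = false := by
            by_contra h
            rw [Bool.not_eq_false] at h
            have hdj := (spread_pairs s0 0 k (Ne.symm hk0)).1
            simp only [disjL, Bool.not_eq_true', Bool.or_eq_false_iff, ← hldef] at hdj
            rw [← hw] at h
            generalize w x = y at h
            fin_cases y
            · exact absurd h (by simp [hdj.1.1])
            · exact absurd h (by simp [hdj.1.2])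
            · exact absurd h (by simp [hdj.2])
          exact (nbr_unique s0 hs0 k _ hoff _ hgi (c.σ_coll g hx)).symm
      have hid : ∀ i, c.σ g i = i := fun i => by
        rw [hσ]
        exact derived_id s0 hs0 (w 0) (w 1) (w 2) (fun e => absurd (hwinj _ _ e) (by decide))
          (fun e => absurd (hwinj _ _ e) (by decide)) (fun e => absurd (hwinj _ _ e) (by decide))
          (fun a b hab => by rw [← hσ, ← hσ]; exact c.σ_coll g hab) i
      rw [← c.comap_A]
      refine c.cent_A (mem_centralizer_iff.2 ?_)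
      have hall : ∀ i, Commute (c.pt i) (c.qm g) := fun i => by
        have := c.σ_spec g i
        rw [hid] at this
        exact (mul_inv_eq_iff_eq_mul.1 this).symm
      have hgen : ∀ r ∈ genR, Commute (c.ψ r) (c.qm g) := by
        intro r hr
        obtain ⟨a, b, e, f, k, h⟩ := genP_gen r hr
        have hite : ∀ (t : Bool) (i : Fin 15), Commute (c.ψ (if t = true then ptC i else 0)) (c.qm g) := fun t i => by
          cases t
          · simp [c.ψ_one.2 (Or.inl rfl)]
          · exact hall i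
        have hpts : ptC 0 = 2 ∧ ptC 1 = 8 ∧ ptC 3 = 128 ∧ ptC 7 = 256 ∧ ptC 5 = 148 := by decide +kernel
        have hw' : Commute (c.ψ (mulS (mulS (mulS (if a = true then 2 else 0) (if b = true then 8 else 0))
            (mulS (if e = true then 128 else 0) (if f = true then 256 else 0))) (if k = true then 148 else 0))) (c.qm g) := by
          rw [← hpts.1, ← hpts.2.1, ← hpts.2.2.1, ← hpts.2.2.2.1, ← hpts.2.2.2.2, ← c.ψ_mul, ← c.ψ_mul, ← c.ψ_mul,
            ← c.ψ_mul]
          exact (((hite a 0).mul_left (hite b 1)).mul_left ((hite e 3).mul_left (hite f 7))).mul_left (hite k 5)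
        rcases h with h | h
        · exact h ▸ hw'
        · rw [c.ψ_eq.2 (Or.inr h)]; exact hw'
      intro v hv
      obtain ⟨n, hn, rfl⟩ := c.mem_A.1 hv
      have hK : ∀ m, inR m = true → Commute (c.ψ m) (c.qm g) := by
        let K : Subgroup (G ⧸ c.Z) := centralizer ({c.qm g} : Set (G ⧸ c.Z))
        intro m hm
        obtain ⟨l, hl, hlm⟩ := R_word m hm
        suffices hmem : ∀ l : List (Fin 512), (∀ r ∈ l, r ∈ genR) → Commute (c.ψ (l.foldr mulS 0)) (c.qm g) by
          rcases hlm with e | e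
          · exact e ▸ hmem l hl
          · rw [c.ψ_eq.2 (Or.inr e)]; exact hmem l hl
        intro l hl
        induction l with
        | nil => simp [c.ψ_one.2 (Or.inl rfl)]
        | cons r l ih =>
          rw [List.foldr_cons, ← c.ψ_mul]
          exact (hgen r (hl r (List.mem_cons_self ..))).mul_left (ih fun x hx => hl x (List.mem_cons_of_mem _ hx))
      exact (hK n hn).eq
    · intro hg
      refine Equiv.ext fun k => hu ?_
      rw [hπ, ← hp]
      have hid : ∀ i, c.σ g i = i := fun i => c.σ_eq (by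
        rw [show c.qm g * c.pt i = c.pt i * c.qm g from c.A_comm (mem_map_of_mem c.qm hg) (c.ψ_mem_A.2 (pt_spec.2 i).1),
          mul_inv_cancel_right])
      rw [τ, hid, hid]
      exact (line_pts _).2.2
  refine ⟨π, ?_, hker⟩
  -- transitivity on the five lines
  obtain ⟨k0, hk0⟩ := spread_base s0 hs0
  obtain ⟨k3, hk3⟩ := spread_cover s0 3
  obtain ⟨h, v, hv, hv0, hv40, hve⟩ := c.into
  have h3 : c.σ h 3 = ptIdx v := by
    refine c.σ_eq ?_
    have hpt : ptC 3 = 128 := by decide +kernel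
    have hvR : inR v = true := (by decide +kernel : ∀ n, inV n = true → inR n = true) v hv
    rw [pt, hpt, ψ, ← map_mul, ← map_inv, ← map_mul, ← hve]
    exact c.ψ_eq.2 (pt_spec.1 v hvR
      (by simp only [inV, Bool.and_eq_true, beq_iff_eq] at hv; exact hv.2) hv0 hv40)
  have hk30 : spLine s0 k3 ≠ 0 := fun e => by
    rw [e, point_line.2.2] at hk3; exact Bool.noConfusion hk3
  have hmove : π h k3 = k0 := by
    refine hu ?_
    rw [hπ, ← hp, hk0]
    have e1 := c.onL_τ h hk3
    rw [h3, hp] at e1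
    have e2 := point_line.1 v hv hv0 hv40
    rw [hp, ← hk0]
    by_contra hne
    have hd := (spread_pairs s0 (p h k3) k0 fun e => hne (by rw [e])).1
    rw [hk0] at hd
    obtain ⟨j, hj⟩ := line_three _ _ e1
    rw [← hj] at e2
    simp only [disjL, Bool.not_eq_true', Bool.or_eq_false_iff] at hd
    fin_cases j
    · exact absurd e2 (by simp [hd.1.1])
    · exact absurd e2 (by simp [hd.1.2])
    · exact absurd e2 (by simp [hd.2])
  have hto : ∀ k, ∃ σ ∈ π.range, σ k = k0 := by
    intro k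
    by_cases hk : spLine s0 k = 0
    · exact ⟨1, one_mem _, hu (by rw [Equiv.Perm.one_apply, hk, hk0])⟩
    obtain ⟨t, -, ht⟩ := tau_trans s0 hs0 k k3 hk hk30
    refine ⟨π h * π (c.s.φ t), mul_mem ⟨h, rfl⟩ ⟨_, rfl⟩, ?_⟩
    have e : π (c.s.φ t) k = k3 := hu (by rw [hπ, ← hp, c.τ_code, ht])
    rw [Equiv.Perm.mul_apply, e, hmove]
  obtain ⟨t, -, a, b, hab, htab⟩ := tau_swap s0 hs0
  have hswap : Equiv.swap a b ∈ π.range :=
    ⟨c.s.φ t, Equiv.ext fun k => hu (by rw [hπ, ← hp, c.τ_code, htab])⟩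
  have h5 : 5 ∣ Nat.card ↥π.range := by
    have hor : MulAction.orbit ↥π.range k0 = Set.univ := Set.eq_univ_of_forall fun i => by
      obtain ⟨σ, hσ, e⟩ := hto i
      exact ⟨⟨σ⁻¹, inv_mem hσ⟩, by
        show σ⁻¹ k0 = i
        rw [← e, ← Equiv.Perm.mul_apply, inv_mul_cancel, Equiv.Perm.one_apply]⟩
    have h := MulAction.index_stabilizer (G := ↥π.range) k0
    rw [hor, Set.ncard_univ, Nat.card_eq_fintype_card, Fintype.card_fin] at h
    have hd := (MulAction.stabilizer ↥π.range k0).index_dvd_card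
    rwa [h] at hd
  have htop : π.range = ⊤ := by
    refine Equiv.Perm.subgroup_eq_top_of_swap_mem (τ := Equiv.swap a b) ?_ ?_ hswap ⟨a, b, hab, rfl⟩
    · rw [Fintype.card_fin]; norm_num
    · rw [Fintype.card_fin, ← Nat.card_eq_fintype_card]; exact h5
  exact MonoidHom.range_eq_top.1 htop

end Ctx

end Cfsg.Agent.Spor.HSType
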