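import Cfsg.Agent.Lib.Spor.HSType.Two
import Cfsg.Agent.Lib.Spor.HSType.CentFacts2

/-!
# A point of the class 3 moves into the elementary subgroup in the centralizer of the centre
-/

set_option autoImplicit false
set_option linter.unusedSectionVars false
set_option maxRecDepth 100000

namespace Cfsg.Agent.Spor.HSType

open Subgroup

universe u

theorem into_codes : commS 128 296 = true ∧ commS 128 318 = true ∧ mulS 296 296 = 0 ∧ commS 296 318 = true ∧
    mulS 318 318 = 40 ∧ (296 : Fin 512) ≠ 128 ∧ (296 : Fin 512) ≠ 40 ∧ (296 : Fin 512) ≠ mulS 128 40 := by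
  decide +kernel

variable {G : Type u} [Group G] [Finite G]

namespace Setting

variable (d : Setting G)

/-- A point of the class 3 moves into the elementary subgroup under the centralizer of the centre. -/
theorem into_V : ∃ h : G, h * d.z = d.z * h ∧ ∃ v, inV v = true ∧ v ≠ 0 ∧ v ≠ 40 ∧
    d.s.φ v = h * d.s.φ 128 * h⁻¹ := by
  obtain ⟨b0, hz3, -⟩ := d.two_classes
  obtain ⟨r3, -, -, -, -, -, -⟩ := four_codes
  have h128 : IsConj (d.s.φ 128) d.z := (r3 ▸ hz3 3 (by simp) : IsConj d.z (d.s.φ 128)).symm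
  obtain ⟨κ, hκ, hm⟩ := d.to_z h128
  obtain ⟨ca, cb, ha2, hab, hb2, hax, hab2, haxb⟩ := into_codes
  obtain ⟨a', ha⟩ := hm 296 ca
  obtain ⟨b', hb⟩ := hm 318 cb
  set f := (MulAut.conj κ).toMonoidHom
  have hf : Function.Injective f := (MulAut.conj κ).injective
  have ha' : d.s.φ a' = f (d.s.φ 296) := ha
  have hb' : d.s.φ b' = f (d.s.φ 318) := hb
  have hz : d.z = f (d.s.φ 128) := hκ.symm
  have hsq : d.s.φ (mulS b' b') = f d.z := by rw [← d.s.mul, hb', ← map_mul, d.s.mul, hb2]; rfl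
  have hne : mulS b' b' ≠ 0 := fun e => by
    rw [e, d.s.one, eq_comm, map_eq_one_iff f hf] at hsq
    have := d.orderOf_z
    rw [hsq, orderOf_one] at this
    norm_num at this
  have hne40 : mulS b' b' ≠ 40 := fun e => by
    rw [e, show d.s.φ 40 = d.z from rfl] at hsq
    have := d.s.inj (hf (hz.symm.trans hsq) : d.s.φ 128 = d.z)
    exact absurd this (by decide)
  have hb4 : mulS (mulS b' b') (mulS b' b') = 0 := d.s.eq_one.1 (by
    rw [← d.s.mul, hsq, ← map_mul, show d.z * d.z = 1 from d.s.sq.2 forty_facts.2.2, map_one])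
  have hV : inV (mulS b' b') = true := by
    refine (sq_class b' hne hb4).resolve_right fun h3 => ?_
    have hcomm : commS a' b' = true := d.s.commute.1 (by
      rw [ha', hb', ← map_mul, ← map_mul, d.s.commute.2 hab])
    have ha2' : mulS a' a' = 0 := d.s.eq_one.1 (by rw [← d.s.mul, ha', ← map_mul, d.s.mul, ha2, d.s.one, map_one])
    rcases sq_out b' h3 a' ha2' hcomm with e | e | e | e
    · rw [e, d.s.one, eq_comm, map_eq_one_iff f hf, d.s.eq_one] at ha'
      exact absurd ha' (by decide)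
    · rw [e, show d.s.φ 40 = d.z from rfl, hz] at ha'
      exact hax (d.s.inj (hf ha')).symm
    · rw [e, hsq] at ha'
      exact hab2 (d.s.inj (hf ha')).symm
    · rw [e, ← d.s.mul, show d.s.φ 40 = d.z from rfl, hsq, hz, ← map_mul] at ha'
      rw [show f (d.s.φ 128) = d.z from hz.symm] at ha'
      have e2 := hf ha'
      rw [show d.z = d.s.φ 40 from rfl, d.s.mul] at e2
      exact haxb (d.s.inj e2).symm
  obtain ⟨i, hi⟩ := (vcode_inV _).1 hV
  have hi0 : i ≠ 0 := fun e => hne (by rw [← hi, e, point_codes.1])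
  obtain ⟨n, hn, hne'⟩ := d.real_transitive hi0
  have hvi : d.vpt i = κ * d.z * κ⁻¹ := by rw [vpt, hi, hsq]; rfl
  refine ⟨n⁻¹ * κ, ?_, ?_⟩
  · refine mul_inv_eq_iff_eq_mul.1 ?_
    rw [show n⁻¹ * κ * d.z * (n⁻¹ * κ)⁻¹ = n⁻¹ * (κ * d.z * κ⁻¹) * n by group, ← hvi, ← hne']
    group
  have hmem : n⁻¹ * κ * d.s.φ 128 * (n⁻¹ * κ)⁻¹ ∈ d.subV := by
    rw [show n⁻¹ * κ * d.s.φ 128 * (n⁻¹ * κ)⁻¹ = n⁻¹ * (κ * d.s.φ 128 * κ⁻¹) * n by group, hκ]
    exact (mem_normalizer_iff''.1 (d.normalizer_subK_le hn) _).1 d.z_mem_V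
  obtain ⟨v, hv, hve⟩ := hmem
  refine ⟨v, hv, ?_, ?_, hve⟩
  · rintro rfl
    rw [d.s.one, eq_comm, conj_eq_one_iff, d.s.eq_one] at hve
    exact absurd hve (by decide)
  · rintro rfl
    have e : n⁻¹ * κ * d.z = d.z * (n⁻¹ * κ) := mul_inv_eq_iff_eq_mul.1 (by
      rw [show n⁻¹ * κ * d.z * (n⁻¹ * κ)⁻¹ = n⁻¹ * (κ * d.z * κ⁻¹) * n by group, ← hvi, ← hne']
      group)
    have h1 : d.z = d.s.φ 128 := by
      have h2 : n⁻¹ * κ * d.z * (n⁻¹ * κ)⁻¹ = n⁻¹ * κ * d.s.φ 128 * (n⁻¹ * κ)⁻¹ := by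
        rw [e, mul_inv_cancel_right]; exact hve
      exact mul_left_cancel (mul_right_cancel h2)
    exact absurd (d.s.inj h1) (by decide)

end Setting

end Cfsg.Agent.Spor.HSType
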