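import Cfsg.Agent.Lib.Spor.HSType.CentNormal
import Cfsg.Agent.Lib.Spor.HSType.IntoV
import Cfsg.Agent.Lib.Spor.HSFunctor.Main

/-!
# The centralizer of the centre modulo its odd core
-/

set_option autoImplicit false
set_option linter.unusedSectionVars false
set_option linter.style.haveILetI false
set_option maxRecDepth 100000

namespace Cfsg.Agent.Spor.HSType

open Subgroup
open Cfsg.Agent.Spor.JTwoType (θ)

universe u

variable {G : Type u} [Group G] [Finite G]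

namespace Setting

variable (d : Setting G)

/-- The centralizer of the centre. -/
def C : Subgroup G := centralizer ({d.z} : Set G)

theorem S_le_C : (d.S : Subgroup G) ≤ d.C := fun _ hx => mem_centralizer_singleton_iff.2 (d.comm_z hx)

/-- Its Sylow subgroup. -/
noncomputable def SC : Sylow 2 ↥d.C := d.S.subtype d.S_le_C

/-- Its coordinates. -/
noncomputable def sC : Shape (d.SC : Subgroup ↥d.C) :=
  d.s.ofEquiv ((subgroupOfEquivOfLe d.S_le_C).symm.trans (MulEquiv.subgroupCongr (d.S.coe_subtype d.S_le_C).symm))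

theorem sC_val (n : Fin 512) : ((d.sC.φ n : ↥d.C) : G) = d.s.φ n := rfl

instance core_normal : (Cfsg.oddCore ↥d.C).Normal := Grp.pPrimeCore_isNormal

/-- Its image modulo the odd core has the data used for the subgroup of order 64. -/
theorem exists_ctx : ∃ c : Ctx (↥d.C ⧸ Cfsg.oddCore ↥d.C),
    ∀ n, c.s.φ n = QuotientGroup.mk' (Cfsg.oddCore ↥d.C) (d.sC.φ n) := by
  haveI : Fact (Nat.Prime 2) := ⟨Nat.prime_two⟩
  set O := Cfsg.oddCore ↥d.C
  set q := QuotientGroup.mk' O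
  have hq : Function.Surjective q := QuotientGroup.mk'_surjective O
  have hinj : ∀ x ∈ (d.SC : Subgroup ↥d.C), q x = 1 → x = 1 := fun x hx hx1 => by
    have hxO : x ∈ O := (QuotientGroup.eq_one_iff x).1 hx1
    obtain ⟨j, hj⟩ := d.SC.isPGroup' ⟨x, hx⟩
    have h1 : orderOf x ∣ 2 ^ j := orderOf_dvd_of_pow_eq_one (congrArg Subtype.val hj)
    have h2 : orderOf x ∣ Nat.card ↥O := orderOf_mk x hxO ▸ orderOf_dvd_natCard _
    exact orderOf_eq_one_iff.1 (Nat.dvd_one.1 ((Nat.Coprime.pow_left j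
      (Grp.pPrimeCore_coprime (p := 2) (G := ↥d.C)).symm).gcd_eq_one ▸ Nat.dvd_gcd h1 h2))
  let sQ : Shape (d.SC.mapSurjective hq : Subgroup (↥d.C ⧸ O)) :=
    (d.sC.map q hinj).ofEquiv (MulEquiv.subgroupCongr (Sylow.coe_mapSurjective _ _).symm)
  have hval : ∀ n, sQ.φ n = q (d.sC.φ n) := fun _ => rfl
  have himg : ∀ {g : ↥d.C} {n m : Fin 512}, d.s.φ m = (g : G) * d.s.φ n * (g : G)⁻¹ →
      sQ.φ m = q g * sQ.φ n * (q g)⁻¹ := fun {g n m} e => by
    rw [hval, hval, ← map_inv, ← map_mul, ← map_mul]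
    exact congrArg q (Subtype.ext e)
  refine ⟨⟨d.SC.mapSurjective hq, sQ, ?_, Grp.pPrimeCore_quotient_eq_bot, ?_, ?_⟩, hval⟩
  · intro x
    obtain ⟨c, rfl⟩ := hq x
    rw [hval, ← map_mul, ← map_mul]
    exact congrArg q (Subtype.ext (mem_centralizer_singleton_iff.1 c.2))
  · obtain ⟨n, hn, hnz, ⟨a, ha, hae⟩, b, hb, hbe⟩ := d.fuse_A_z
    have hnC : n ∈ d.C := mem_centralizer_singleton_iff.2 hnz
    refine ⟨q ⟨n, hnC⟩, fun v hv => ?_, ⟨a, ha, himg (g := ⟨n, hnC⟩) hae⟩, b, hb, himg (g := ⟨n, hnC⟩) hbe⟩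
    obtain ⟨v', hv', e⟩ := (mem_normalizer_iff.1 (d.normalizer_subK_le hn) _).1 (d.s.mem_sub.2 hv :
      d.s.φ v ∈ d.subV)
    exact ⟨v', hv', himg (g := ⟨n, hnC⟩) e⟩
  · obtain ⟨h, hh, v, hv, hv0, hv40, e⟩ := d.into_V
    exact ⟨q ⟨h, mem_centralizer_singleton_iff.2 hh⟩, v, hv, hv0, hv40,
      himg (g := ⟨h, mem_centralizer_singleton_iff.2 hh⟩) e⟩

theorem mem_θ {x : ↥d.C} (hx : x ∈ Cfsg.oddCore ↥d.C) : (x : G) ∈ θ d.z :=
  mem_map_of_mem d.C.subtype hx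

/-- The input of the signalizer argument. -/
theorem local_z : HSFunctor.Local d := by
  obtain ⟨c, hc⟩ := d.exists_ctx
  haveI := c.R_normal
  set q := QuotientGroup.mk' (Cfsg.oddCore ↥d.C)
  have hR : ∀ n, inR n = HSFunctor.inR n := fun _ => rfl
  have hback : ∀ x : ↥d.C, q x ∈ c.R → (x : G) ∈ HSFunctor.subR d ⊔ θ d.z := by
    intro x hx
    obtain ⟨n, hn, e⟩ := hx
    rw [hc] at e
    have hd : (d.sC.φ n)⁻¹ * x ∈ Cfsg.oddCore ↥d.C := QuotientGroup.eq.1 e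
    have e2 : (x : G) = d.s.φ n * (((d.sC.φ n)⁻¹ * x : ↥d.C) : G) := by
      rw [← d.sC_val, ← Subgroup.coe_mul, mul_inv_cancel_left]
    rw [e2]
    exact mul_mem (mem_sup_left (d.s.mem_sub.2 (show HSFunctor.inR n = true from hn))) (mem_sup_right (d.mem_θ hd))
  have hfwd : ∀ n, HSFunctor.inR n = true → q (d.sC.φ n) ∈ c.R := fun n hn =>
    ⟨n, show inR n = true from hn, hc n⟩
  constructor
  · rintro g hg _ ⟨n, hn, rfl⟩
    refine hback (⟨g, hg⟩ * d.sC.φ n * ⟨g, hg⟩⁻¹) ?_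
    rw [map_mul, map_mul, map_inv]
    exact c.R_normal.conj_mem _ (hfwd n hn) _
  · intro g hg hall
    refine hback ⟨g, hg⟩ ?_
    rw [← c.comap_A]
    refine c.cent_A (mem_centralizer_iff.2 fun a ha => ?_)
    obtain ⟨n, hn, rfl⟩ := c.mem_A.1 ha
    have h1 := hall (d.s.φ n) (d.s.mem_sub.2 (show HSFunctor.inR n = true from hn))
    have h2 : q (⟨g, hg⟩ * d.sC.φ n * ⟨g, hg⟩⁻¹ * (d.sC.φ n)⁻¹) = 1 := by
      refine (QuotientGroup.eq_one_iff _).2 ?_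
      obtain ⟨y, hy, hye⟩ := h1
      show (⟨g, hg⟩ : ↥d.C) * d.sC.φ n * (⟨g, hg⟩ : ↥d.C)⁻¹ * (d.sC.φ n)⁻¹ ∈ Cfsg.oddCore ↥d.C
      have hye' : ((y : ↥d.C) : G) = g * d.s.φ n * g⁻¹ * (d.s.φ n)⁻¹ := hye
      have : (y : ↥d.C) = (⟨g, hg⟩ : ↥d.C) * d.sC.φ n * (⟨g, hg⟩ : ↥d.C)⁻¹ * (d.sC.φ n)⁻¹ := Subtype.ext hye'
      exact this ▸ hy
    rw [map_mul, map_mul, map_mul, map_inv, map_inv, ← hc, mul_inv_eq_one, mul_inv_eq_iff_eq_mul] at h2
    show c.qm (c.s.φ n) * c.qm (q ⟨g, hg⟩) = c.qm (q ⟨g, hg⟩) * c.qm (c.s.φ n)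
    rw [← map_mul, ← map_mul, h2]

/-- The odd core of the centralizer of the centre is trivial. -/
theorem θ_z : θ d.z = ⊥ := HSFunctor.theta_z_eq_bot d d.local_z

end Setting

end Cfsg.Agent.Spor.HSType
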