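import Cfsg.Agent.Lib.Grp.HSCent.Coord

/-!
# The Sylow 2-subgroup of the Higman-Sims group on 512 codes

A code `n = v + 64 d` stands for `k^v p^i q^j`, where `d = i + 4 j` and `v` is a vector over `ZMod 4` in base 4.
-/

set_option autoImplicit false
set_option maxRecDepth 100000
set_option maxHeartbeats 4000000

namespace Cfsg.Agent.Spor.HSType

open Cfsg.Agent.Grp.HSCent

/-- The action of the dihedral part on the vectors, six bits for each value. -/
def actLit : ℕ := 576715671551635352150317288606739550621965743973525253714112242002419218462599766820162177347355334981713465869106697859382332500738013505935989839582585577431008690106921930450883568954167234691829915424387358318288191773864521629556648773058885197855556271726381748453943777047291276789334248838085814991817004968287797508349234644715678805670853267703280038244137633331593830009807254272021224971976221564047873642504289670882940487354024084343450330749150876623510376709801624049859507345961558472218282794128883542420627056406501252043842858382016027848439249003212662257052869946659214704461030573949584366118745058951085797424971697239144369187806017110421554507753882006447850788754540903955733762592863380369283672427174871140575459468769425064085345313446794337300504692274553863638051460492792809010204519978815596841702381303128716626440004769586338901219691394815112429670158178987525156698741299600623921799232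

/-- The image of a vector under an element of the dihedral part. -/
def actC (d : Fin 8) (w : Fin 64) : Fin 64 :=
  ⟨(actLit >>> (6 * (64 * (d : ℕ) + (w : ℕ)))) % 64, Nat.mod_lt _ (by norm_num)⟩

/-- The sum of two vectors. -/
def addV (v w : Fin 64) : Fin 64 :=
  ⟨((v : ℕ) % 4 + (w : ℕ) % 4) % 4 + 4 * (((v : ℕ) / 4 % 4 + (w : ℕ) / 4 % 4) % 4) +
    16 * (((v : ℕ) / 16 + (w : ℕ) / 16) % 4), by omega⟩

/-- The product in the dihedral part. -/
def mulD (d e : Fin 8) : Fin 8 :=
  ⟨((d : ℕ) % 4 + (if (d : ℕ) / 4 = 1 then 4 - (e : ℕ) % 4 else (e : ℕ) % 4)) % 4 +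
    4 * (((d : ℕ) / 4 + (e : ℕ) / 4) % 2), by omega⟩

/-- The vector of a code. -/
def vP (n : Fin 512) : Fin 64 := ⟨(n : ℕ) % 64, Nat.mod_lt _ (by norm_num)⟩

/-- The dihedral part of a code. -/
def dP (n : Fin 512) : Fin 8 := ⟨(n : ℕ) / 64, by omega⟩

/-- A code from its parts. -/
def mkC (v : Fin 64) (d : Fin 8) : Fin 512 := ⟨(v : ℕ) + 64 * (d : ℕ), by omega⟩

theorem vP_mkC (v : Fin 64) (d : Fin 8) : vP (mkC v d) = v := Fin.ext (by simp [vP, mkC])

theorem dP_mkC (v : Fin 64) (d : Fin 8) : dP (mkC v d) = d := Fin.ext (by simp [dP, mkC]; omega)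

theorem mkC_parts (n : Fin 512) : mkC (vP n) (dP n) = n := Fin.ext (by simp [mkC, vP, dP]; omega)

/-- The product of two codes. -/
def mulS (n m : Fin 512) : Fin 512 := mkC (addV (vP n) (actC (dP n) (vP m))) (mulD (dP n) (dP m))

/-- The negative of a vector. -/
def negV (v : Fin 64) : Fin 64 :=
  ⟨(4 - (v : ℕ) % 4) % 4 + 4 * ((4 - (v : ℕ) / 4 % 4) % 4) + 16 * ((4 - (v : ℕ) / 16) % 4), by omega⟩

/-- The inverse in the dihedral part. -/
def invD (d : Fin 8) : Fin 8 := if (d : ℕ) / 4 = 1 then d else ⟨(4 - (d : ℕ)) % 4, by omega⟩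

/-- The inverse of a code. -/
def invS (n : Fin 512) : Fin 512 := mkC (actC (invD (dP n)) (negV (vP n))) (invD (dP n))

/-- The conjugate `g n g⁻¹`. -/
def conjS (g n : Fin 512) : Fin 512 := mulS (mulS g n) (invS g)

/-- Commuting codes. -/
def commS (n m : Fin 512) : Bool := mulS n m == mulS m n

/-- The involutions. -/
def isInv (n : Fin 512) : Bool := n != 0 && mulS n n == 0

/-- The vector as a triple over `ZMod 4`. -/
def toZ (v : Fin 64) : Z3 :=
  (((v : ℕ) % 4 : ℕ), ((v : ℕ) / 4 % 4 : ℕ), ((v : ℕ) / 16 : ℕ))

/-- The matrix of `p`. -/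
def Pm : M3 := ((0, 3, 0), (1, 1, 3), (1, 0, 0))

/-- The matrix of an element of the dihedral part. -/
def matD (d : Fin 8) : M3 :=
  if (d : ℕ) / 4 = 1 then mm Am (pw3 Pm ((d : ℕ) % 4)) else pw3 Pm ((d : ℕ) % 4)

theorem act_table : ∀ (d : Fin 8) (w : Fin 64), toZ (actC d w) = vm (toZ w) (matD d) := by decide +kernel

theorem add_table : ∀ v w : Fin 64, toZ (addV v w) = toZ v + toZ w := by decide +kernel

theorem toZ_inj : Function.Injective toZ := by decide +kernel

theorem inv_spec : ∀ n : Fin 512, mulS n (invS n) = 0 ∧ mulS (invS n) n = 0 ∧ mulS 0 n = n ∧ mulS n 0 = n := by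
  decide +kernel

end Cfsg.Agent.Spor.HSType
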