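import Cfsg.Agent.Lib.Spor.HSType.Shape

/-!
# The classes of involutions on the codes and the finite facts on their embeddings
-/

set_option autoImplicit false
set_option maxRecDepth 100000
set_option maxHeartbeats 4000000

namespace Cfsg.Agent.Spor.HSType

/-- The classes of involutions of the Sylow subgroup, as sets of codes. -/
def clLit : Fin 9 → ℕ :=
  ![1099511627776, 17179870208, 4402341478660, 398449220981289379253257273500247723604863028570693304320, 196363150878672151854313598326641735814775397368977162240, 106386006508898348345746858376272526128367693213791901959664800057951424708392943011145779010185431676944834595397224557756450162343590497037943213916160, 3355251346239665753092458905668059445904506071486772674946290904821370111245928503705242251374898027975262678490794575303257966389158080091776110831861760, 45604914631711683083390539339243684037187068013113694998675131253172874462939852825743907334946063525045677443186194540117705462120448, 2851000321328776283937580773530319638911577487701194209108599097863786985011795439493573777394267810703108446425316809045346057453568]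

/-- Membership in a class. -/
def inC (k : Fin 9) (n : Fin 512) : Bool := Nat.testBit (clLit k) n

/-- Representatives. -/
def rep : Fin 9 → Fin 512 := ![40, 10, 2, 128, 133, 320, 339, 256, 257]

/-- The homocyclic subgroup. -/
def inK (n : Fin 512) : Bool := decide ((n : ℕ) < 64)

/-- The elementary subgroup of order eight. -/
def inV (n : Fin 512) : Bool := inK n && mulS n n == 0

theorem inC_inv : ∀ n : Fin 512, isInv n = true ↔ ∃ k, inC k n = true := by decide +kernel

theorem inC_disj : ∀ (n : Fin 512) (k l : Fin 9), inC k n = true → inC l n = true → k = l := by decide +kernel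

theorem inC_conj : ∀ (k : Fin 9) (n : Fin 512), inC k n = true → ∃ g, conjS g (rep k) = n := by decide +kernel

theorem inV_classes : ∀ n : Fin 512,
    inV n = true ↔ n = 0 ∨ inC 0 n = true ∨ inC 1 n = true ∨ inC 2 n = true := by decide +kernel

theorem inC_zero : ∀ n : Fin 512, inC 0 n = true ↔ n = 40 := by decide +kernel

theorem add_comm_table : ∀ v w : Fin 64, addV v w = addV w v := by decide +kernel

theorem act_zero : ∀ w : Fin 64, actC 0 w = w := by decide +kernel

theorem inK_iff (n : Fin 512) : inK n = true ↔ dP n = 0 := by
  simp only [inK, decide_eq_true_eq, Fin.ext_iff, dP, Fin.val_zero]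
  omega

theorem K_closed : (∀ n m : Fin 512, inK n = true → inK m = true → inK (mulS n m) = true ∧ commS n m = true) ∧
    (∀ n : Fin 512, inK n = true → inK (invS n) = true) ∧
    (∀ g n : Fin 512, inK n = true → inK (conjS g n) = true) := by
  refine ⟨fun n m hn hm => ?_, fun n hn => ?_, fun g n hn => ?_⟩
  · rw [inK_iff] at hn hm
    refine ⟨?_, ?_⟩
    · rw [inK_iff, mulS, dP_mkC, hn, hm]; decide
    · rw [commS, beq_iff_eq, mulS, mulS, hn, hm, act_zero, act_zero, add_comm_table]
  · rw [inK_iff] at hn ⊢
    rw [invS, dP_mkC, hn]; decide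
  · rw [inK_iff] at hn ⊢
    rw [conjS, mulS, dP_mkC, mulS, dP_mkC, invS, dP_mkC, hn]
    exact (by decide +kernel : ∀ d : Fin 8, mulD (mulD d 0) (invD d) = 0) (dP g)

theorem V_closed : (∀ n m : Fin 512, inV n = true → inV m = true → inV (mulS n m) = true) ∧
    (∀ n : Fin 512, inV n = true → inV (invS n) = true) ∧
    (∀ g n : Fin 512, inV n = true → inV (conjS g n) = true) ∧
    (Finset.univ.filter fun n : Fin 512 => inV n = true).card = 8 ∧
    (Finset.univ.filter fun n : Fin 512 => inK n = true).card = 64 := by
  have h : (∀ n : Fin 512, inV n = true → ∀ m : Fin 512, inV m = true → inV (mulS n m) = true) ∧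
      (∀ n : Fin 512, inV n = true → inV (invS n) = true) ∧
      (∀ n : Fin 512, inV n = true → ∀ g : Fin 512, inV (conjS g n) = true) ∧
      (Finset.univ.filter fun n : Fin 512 => inV n = true).card = 8 ∧
      (Finset.univ.filter fun n : Fin 512 => inK n = true).card = 64 := by decide +kernel
  exact ⟨fun n m a b => h.1 n a m b, h.2.1, fun g n a => h.2.2.1 n a g, h.2.2.2⟩

theorem comm_forty : ∀ n : Fin 512, commS n 40 = true := by decide +kernel

/-- A code commuting with one of the homocyclic part acts trivially on it. -/
theorem act_of_comm {n v : Fin 512} (hv : inK v = true) (h : commS n v = true) :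
    actC (dP n) (vP v) = vP v := by
  rw [commS, beq_iff_eq] at h
  rw [inK_iff] at hv
  have e := congrArg vP h
  rw [mulS, vP_mkC, mulS, vP_mkC, hv, act_zero, add_comm_table (vP v)] at e
  have e' := congrArg toZ e
  rw [add_table, add_table, add_left_cancel_iff] at e'
  exact toZ_inj e'

theorem cent_V (n : Fin 512) (h : ∀ v, inV v = true → commS n v = true) : inK n = true := by
  have h1 : ∀ w : Fin 64, inV (mkC w 0) = true → actC (dP n) w = w := fun w hw => by
    have := act_of_comm (inK_iff _ |>.2 (dP_mkC w 0)) (h _ hw)
    rwa [vP_mkC] at this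
  rw [inK_iff]
  exact (by decide +kernel : ∀ d : Fin 8, (∀ w : Fin 64, inV (mkC w 0) = true → actC d w = w) → d = 0) _ h1

theorem cent_K (n : Fin 512) (h : ∀ v, inK v = true → commS n v = true) : inK n = true :=
  cent_V n fun v hv => h v (by simp only [inV, Bool.and_eq_true] at hv; exact hv.1)

theorem center_code (n : Fin 512) (h : ∀ m, commS n m = true) : n = 0 ∨ n = 40 := by
  have hK := cent_V n fun v _ => h v
  have h1 : ∀ m : Fin 512, actC (dP m) (vP n) = vP n := fun m => act_of_comm hK (by
    have := h m
    rw [commS, beq_iff_eq] at this ⊢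
    exact this.symm)
  have h2 : ∀ d : Fin 8, actC d (vP n) = vP n := fun d => by
    have := h1 (mkC 0 d)
    rwa [dP_mkC] at this
  have h3 := (by decide +kernel : ∀ w : Fin 64, (∀ d, actC d w = w) → mkC w 0 = 0 ∨ mkC w 0 = 40) _ h2
  rwa [← (inK_iff n).1 hK, mkC_parts] at h3

/-- The squares of elements of order four. -/
theorem sq_class : ∀ b : Fin 512, mulS b b ≠ 0 → mulS (mulS b b) (mulS b b) = 0 →
    inV (mulS b b) = true ∨ inC 3 (mulS b b) = true := by decide +kernel

/-- An element whose square is an outer involution commutes with no further involution. -/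
theorem sq_out : ∀ b : Fin 512, inC 3 (mulS b b) = true → ∀ a : Fin 512, mulS a a = 0 → commS a b = true →
    a = 0 ∨ a = 40 ∨ a = mulS b b ∨ a = mulS 40 (mulS b b) := by decide +kernel

/-- The witnesses for the classes fused to the central involution. -/
theorem witness : ∀ k : Fin 9, k ∈ ([3, 5, 6, 7, 8] : List (Fin 9)) → ∃ a b : Fin 512,
    commS (rep k) a = true ∧ commS (rep k) b = true ∧ mulS a a = 0 ∧ commS a b = true ∧ mulS b b ≠ 0 ∧
    mulS (mulS b b) (mulS b b) = 0 ∧ mulS b b ≠ rep k ∧ a ≠ 0 ∧ a ≠ rep k ∧ a ≠ mulS b b ∧
    a ≠ mulS (rep k) (mulS b b) ∧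
    (inC k (mulS b b) = true ∨ inC k (mulS (rep k) (mulS b b)) = true ∨ mulS b b = 40) := by
  intro k hk
  simp only [List.mem_cons, List.not_mem_nil, or_false] at hk
  rcases hk with rfl | rfl | rfl | rfl | rfl
  exacts [⟨296, 318, by decide +kernel⟩, ⟨40, 365, by decide +kernel⟩, ⟨40, 380, by decide +kernel⟩,
    ⟨424, 446, by decide +kernel⟩, ⟨420, 442, by decide +kernel⟩]

/-- The class 4 has no image of the central involution. -/
theorem four_witness : commS 133 90 = true ∧ commS 133 398 = true ∧ mulS (mulS (mulS 398 90) 398) 90 = 0 ∧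
    mulS 398 398 = mulS (mulS 90 90) (mulS 90 90) ∧ mulS 398 398 = 40 := by decide +kernel

theorem fourth_power : ∀ a : Fin 512, mulS (mulS a a) (mulS a a) ≠ 0 → mulS (mulS a a) (mulS a a) ≠ 40 →
    ∀ b : Fin 512, mulS b b = mulS (mulS a a) (mulS a a) → mulS (mulS (mulS b a) b) a ≠ 0 := by decide +kernel

end Cfsg.Agent.Spor.HSType
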