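import Cfsg.Agent.Lib.Spor.HSType.Spreads
import Cfsg.Agent.Lib.Fus.CentTwoPSL.Gl

/-!
# Finite facts for the final identification
-/

set_option autoImplicit false
set_option maxRecDepth 100000
set_option maxHeartbeats 4000000

namespace Cfsg.Agent.Spor.HSType

/-- The extraspecial part, as a set of codes. -/
def inE (n : Fin 512) : Bool := Nat.testBit
  217460971543871757073588965518238927791275608606392783528265784161770039604819860943998609522213801717024725515350287888962028805 n

theorem E_closed : inE 0 = true ∧ (∀ n : Fin 512, inE n = true → ∀ m : Fin 512, inE m = true → inE (mulS n m) = true) ∧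
    (∀ n : Fin 512, inE n = true → inE (invS n) = true ∧ inR n = true ∧ (mulS n n = 0 ∨ mulS n n = 40)) ∧
    (Finset.univ.filter fun n : Fin 512 => inE n = true).card = 32 ∧ inE 40 = true ∧
    inE 22 = false ∧ inE 62 = false := by decide +kernel

theorem E_center : ∀ n : Fin 512, inE n = true →
    (∀ m : Fin 512, inE m = true → commS n m = true) → n = 0 ∨ n = 40 := by decide +kernel

theorem E_split : ∀ r ∈ genR, inE r = true ∨ r = 22 := by decide +kernel

theorem cyc_codes : mulS 22 22 = 40 ∧ mulS 22 40 = 62 ∧ mulS 22 62 = 0 ∧ mulS 0 22 = 22 := by decide +kernel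

open Fus.RudTransfer.Gl in
/-- The bits of a point. -/
def bitsV (i : Fin 8) : ZMod 2 × ZMod 2 × ZMod 2 := (((i : ℕ) : ℕ), ((i : ℕ) / 2 : ℕ), ((i : ℕ) / 4 : ℕ))

/-- The matrix of a map, with the images of the basis as columns. -/
def matL (t : LMap) : Fus.RudTransfer.Gl.M3 :=
  (((bitsV t.1).1, (bitsV t.2.1).1, (bitsV t.2.2).1),
    ((bitsV t.1).2.1, (bitsV t.2.1).2.1, (bitsV t.2.2).2.1),
    ((bitsV t.1).2.2, (bitsV t.2.1).2.2, (bitsV t.2.2).2.2))

/-- A matrix times a column. -/
def mulCol : Fus.RudTransfer.Gl.M3 → ZMod 2 × ZMod 2 × ZMod 2 → ZMod 2 × ZMod 2 × ZMod 2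
  | ((a, b, c), (d, e, f), (g, h, i)), (x, y, w) =>
    (a * x + b * y + c * w, d * x + e * y + f * w, g * x + h * y + i * w)

theorem matL_col : ∀ a b c x : Fin 8, bitsV (app (a, b, c) x) = mulCol (matL (a, b, c)) (bitsV x) := by decide +kernel

theorem matL_mul (f g : LMap) : matL (cmp f g) = Fus.RudTransfer.Gl.mul (matL f) (matL g) := by
  obtain ⟨a, b, c⟩ := f
  obtain ⟨x, y, w⟩ := g
  show matL (app (a, b, c) x, app (a, b, c) y, app (a, b, c) w) = _
  unfold matL
  simp only [matL_col]
  rfl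

theorem matL_inj : ∀ a b c : Fin 8, matL (a, b, c) = Fus.RudTransfer.Gl.one → (a, b, c) = idL := by decide +kernel

theorem matL_id : matL idL = Fus.RudTransfer.Gl.one := by decide +kernel

theorem matL_det : ∀ a b c : Fin 8, (∀ i j : Fin 8, app (a, b, c) i = app (a, b, c) j → i = j) →
    Fus.RudTransfer.Gl.det (matL (a, b, c)) = 1 := by decide +kernel

theorem tF_ne : ∀ e : Fin 8, inF false e = true → cmp (dMap e) (tF false) ≠ idL ∧
    pwL (cmp (dMap e) (tF false)) 2 ≠ idL ∧ pwL (pwL (cmp (dMap e) (tF false)) 2) 3 = idL ∧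
    pwL (cmp (dMap e) (tF false)) 3 = idL := by decide +kernel

theorem dMap_inj_id : ∀ e : Fin 8, dMap e = idL → e = 0 := by decide +kernel

end Cfsg.Agent.Spor.HSType
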