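import Cfsg.Agent.Lib.Spor.HSType.CentZ
import Cfsg.Agent.Lib.Spor.HSType.CentSym
import Cfsg.Agent.Lib.Spor.HSType.FinalFacts
import Cfsg.Agent.Lib.Grp.Frattini
import Cfsg.Prelude.Def_Transfer
import Cfsg.Agent.S3346

/-!
# Identification of the Higman-Sims group from its Sylow 2-subgroup
-/

set_option autoImplicit false
set_option linter.unusedSectionVars false
set_option linter.style.haveILetI false
set_option maxRecDepth 100000

namespace Cfsg.Agent.Spor.HSType

open Subgroup
open scoped commutatorElement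
open Cfsg.Agent.Spor.JTwoType (θ)

universe u

attribute [local irreducible] conjS mulS commS

/-- A normal 2-subgroup acts trivially on an odd set on which the group is transitive. -/
theorem fixed_all {X : Type*} [Group X] [Finite X] {N : Subgroup X} [N.Normal] (hN : IsPGroup 2 ↥N) {α : Type*}
    [Finite α] [MulAction X α] (hodd : ¬ 2 ∣ Nat.card α) (ht : ∀ a b : α, ∃ x : X, x • a = b) (n : X) (hn : n ∈ N)
    (a : α) : n • a = a := by
  haveI : Fact (Nat.Prime 2) := ⟨Nat.prime_two⟩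
  obtain ⟨b, hb⟩ := hN.nonempty_fixed_point_of_prime_not_dvd_card α hodd
  obtain ⟨x, rfl⟩ := ht b a
  have h := hb ⟨x⁻¹ * n * x, Subgroup.Normal.conj_mem' ‹N.Normal› n hn x⟩
  change (x⁻¹ * n * x) • b = b at h
  calc n • x • b = (x * (x⁻¹ * n * x)) • b := by rw [smul_smul]; group
    _ = x • b := by rw [mul_smul, h]

/-- A 2-group with centre of order two containing all squares is extraspecial, if it is not abelian. -/
theorem extraspecial_of_sq {Q : Type*} [Group Q] [Finite Q] {n : ℕ} (hcard : Nat.card Q = 2 ^ n) (hn : 2 ≤ n)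
    (hZ : Nat.card (Subgroup.center Q) = 2) (hsq : ∀ x : Q, x ^ 2 ∈ Subgroup.center Q) :
    Cfsg.IsExtraspecial 2 Q := by
  haveI : Fact (Nat.Prime 2) := ⟨Nat.prime_two⟩
  have hp : IsPGroup 2 Q := IsPGroup.of_card hcard
  have h1 : commutator Q ≤ Subgroup.center Q := by
    rw [commutator_eq_closure, Subgroup.closure_le]
    rintro _ ⟨x, y, rfl⟩
    have e : ⁅x, y⁆ = x ^ 2 * (x⁻¹ * y) ^ 2 * (y ^ 2)⁻¹ := by
      rw [commutatorElement_def]
      simp only [sq]
      group
    rw [e]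
    exact mul_mem (mul_mem (hsq x) (hsq _)) (inv_mem (hsq y))
  have hne : commutator Q ≠ ⊥ := fun e => by
    have : Subgroup.center Q = ⊤ := eq_top_iff.2 fun x _ => Subgroup.mem_center_iff.2 fun g => by
      have h : ⁅g, x⁆ ∈ commutator Q := Subgroup.commutator_mem_commutator (Subgroup.mem_top _) (Subgroup.mem_top _)
      rw [e, Subgroup.mem_bot] at h
      exact commutatorElement_eq_one_iff_mul_comm.1 h
    rw [this, Subgroup.card_top, hcard] at hZ
    have : 2 ^ 2 ≤ 2 ^ n := Nat.pow_le_pow_right (by norm_num) hn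
    omega
  have hc : commutator Q = Subgroup.center Q := by
    refine Subgroup.eq_of_le_of_card_ge h1 ?_
    rw [hZ]
    have := (Subgroup.one_lt_card_iff_ne_bot _).2 hne
    omega
  refine ⟨⟨hp, le_antisymm ?_ ?_, hc⟩, hZ⟩
  · exact Grp.frattini_le_of_elementary Nat.prime_two h1 hsq
  · exact hc ▸ Grp.pGroup_commutator_le_frattini hp

variable {G : Type u} [Group G] [Finite G]

namespace Setting

variable (d : Setting G)

theorem core_C : Cfsg.oddCore ↥d.C = ⊥ :=
  (Subgroup.map_eq_bot_iff_of_injective _ d.C.subtype_injective).1 d.θ_z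

/-- The centralizer of the centre has the data used for the subgroup of order 64. -/
theorem exists_ctxC : ∃ c : Ctx ↥d.C, ∀ n, c.s.φ n = d.sC.φ n := by
  refine ⟨⟨d.SC, d.sC, ?_, d.core_C, ?_, ?_⟩, fun _ => rfl⟩
  · exact fun x => Subtype.ext (mem_centralizer_singleton_iff.1 x.2)
  · obtain ⟨n, hn, hnz, ⟨a, ha, hae⟩, b, hb, hbe⟩ := d.fuse_A_z
    refine ⟨⟨n, mem_centralizer_singleton_iff.2 hnz⟩, fun v hv => ?_, ⟨a, ha, Subtype.ext hae⟩, b, hb, Subtype.ext hbe⟩
    obtain ⟨v', hv', e⟩ := (mem_normalizer_iff.1 (d.normalizer_subK_le hn) _).1 (d.s.mem_sub.2 hv :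
      d.s.φ v ∈ d.subV)
    exact ⟨v', hv', Subtype.ext e⟩
  · obtain ⟨h, hh, v, hv, hv0, hv40, e⟩ := d.into_V
    exact ⟨⟨h, mem_centralizer_singleton_iff.2 hh⟩, v, hv, hv0, hv40, Subtype.ext e⟩

/-- The maximal normal 2-subgroup of the centralizer of the centre and the quotient by it. -/
theorem cent_spec : (Cfsg.pCore 2 ↥d.C).map d.C.subtype = HSFunctor.subR d ∧
    Nonempty (↥d.C ⧸ Cfsg.pCore 2 ↥d.C ≃* Equiv.Perm (Fin 5)) ∧
    ∀ x ∈ d.C, (∀ r ∈ HSFunctor.subR d, x * r = r * x) → x ∈ HSFunctor.subR d := by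
  haveI : Fact (Nat.Prime 2) := ⟨Nat.prime_two⟩
  haveI : (Cfsg.pCore 2 ↥d.C).Normal := Grp.pCore_isNormal
  obtain ⟨c, hc⟩ := d.exists_ctxC
  obtain ⟨π, hπ, hker⟩ := c.exists_sym
  have hp : IsPGroup 2 ↥c.R := c.S.isPGroup'.to_le c.R_le_S
  have hcore : Cfsg.pCore 2 ↥d.C = π.ker := by
    refine le_antisymm (fun n hn => MonoidHom.mem_ker.2 (Equiv.ext fun a => ?_)) ?_
    · letI : MulAction ↥d.C (Fin 5) := MulAction.compHom (Fin 5) π
      refine fixed_all (α := Fin 5) Grp.pCore_isPGroup (by rw [Nat.card_eq_fintype_card, Fintype.card_fin]; norm_num)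
        (fun a b => ?_) n hn a
      obtain ⟨x, hx⟩ := hπ (Equiv.swap a b)
      exact ⟨x, show π x a = b by rw [hx, Equiv.swap_apply_left]⟩
    · rw [hker]
      exact Grp.le_pCore c.R_normal hp
  have hmem : ∀ n, (n ∈ (c.R : Subgroup ↥d.C)) → (n : G) ∈ HSFunctor.subR d := by
    rintro _ ⟨n, hn, rfl⟩
    rw [hc]
    exact d.s.mem_sub.2 hn
  refine ⟨le_antisymm ?_ ?_, ⟨(QuotientGroup.quotientMulEquivOfEq hcore).trans
    (QuotientGroup.quotientKerEquivOfSurjective π hπ)⟩, fun x hx hall => ?_⟩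
  · rintro _ ⟨n, hn, rfl⟩
    exact hmem n (hker ▸ hcore ▸ hn)
  · rintro _ ⟨n, hn, rfl⟩
    refine ⟨d.sC.φ n, ?_, rfl⟩
    show d.sC.φ n ∈ Cfsg.pCore 2 ↥d.C
    rw [hcore, hker, ← hc]
    exact c.s.mem_sub.2 hn
  · refine hmem ⟨x, hx⟩ ?_
    rw [← c.comap_A]
    refine c.cent_A (mem_centralizer_iff.2 ?_)
    rintro _ ⟨r, ⟨n, hn, rfl⟩, rfl⟩
    rw [← map_mul, ← map_mul, hc]
    exact congrArg c.qm (Subtype.ext (hall _ (d.s.mem_sub.2 hn)).symm)

theorem cent_V_le_C : centralizer (d.subV : Set G) ≤ d.C := fun _ hx =>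
  mem_centralizer_singleton_iff.2 (mem_centralizer_iff.1 hx _ d.z_mem_V).symm

theorem subR_le_normalizer : HSFunctor.subR d ≤ normalizer (d.subV : Set G) := fun _ hx =>
  d.normalizer_subK_le (d.S_le_normalizer_subK (d.s.sub_le hx))

/-- The homocyclic subgroup is the centralizer of the elementary one. -/
theorem cent_subV : centralizer (d.subV : Set G) = d.subK := by
  classical
  haveI : Fact (Nat.Prime 2) := ⟨Nat.prime_two⟩
  set X := centralizer (d.subV : Set G)
  have hKX : d.subK ≤ X := fun x hx => mem_centralizer_iff.2 fun v hv =>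
    (d.comm_subK hx (d.subV_le_subK hv)).symm
  have hSX : (d.S : Subgroup G) ⊓ X = d.subK := by
    refine le_antisymm (fun x hx => ?_) (le_inf d.subK_le hKX)
    obtain ⟨n, rfl⟩ := d.s.surj x hx.1
    exact d.s.mem_sub.2 (cent_V n fun v hv => d.s.commute.1 (mem_centralizer_iff.1 hx.2 _ (d.s.mem_sub.2 hv)).symm)
  set N := normalizer (d.subV : Set G) with hN
  have hSN : (d.S : Subgroup G) ≤ N := d.S_le_normalizer_subK.trans d.normalizer_subK_le
  -- the homocyclic subgroup is a Sylow subgroup of the centralizer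
  have hodd : ¬ 2 ∣ d.subK.relIndex X := by
    haveI : (X.subgroupOf N).Normal := ⟨fun x hx g => by
      refine mem_centralizer_iff.2 fun v hv => ?_
      have h := mem_centralizer_iff.1 hx _ ((mem_normalizer_iff''.1 g.2 v).1 hv)
      simp only [Subgroup.coe_subtype] at h
      show v * ((g : G) * (x : G) * (g : G)⁻¹) = (g : G) * (x : G) * (g : G)⁻¹ * v
      calc v * ((g : G) * (x : G) * (g : G)⁻¹) = (g : G) * (((g : G)⁻¹ * v * (g : G)) * (x : G)) * (g : G)⁻¹ := by group
        _ = (g : G) * ((x : G) * ((g : G)⁻¹ * v * (g : G))) * (g : G)⁻¹ := by rw [h]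
        _ = _ := by group⟩
    have hXN : X ≤ N := centralizer_le_normalizer _
    have h := Grp.not_dvd_relIndex_sylow (d.S.subtype hSN) (‹(X.subgroupOf N).Normal›.isSubnormal)
    rw [Sylow.coe_subtype, relIndex_subgroupOf hXN, ← inf_relIndex_right, hSX] at h
    exact h
  have hcent : ∀ g ∈ X, (∀ x ∈ d.subK, g * x * g⁻¹ ∈ d.subK) → ∀ x ∈ d.subK, g * x = x * g := by
    intro g hg hgK x hx
    set v := x⁻¹ * (g * x * g⁻¹) with hv
    have hy := hgK x hx
    have hx2 : x * x ∈ d.subV := by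
      refine d.mem_subV_iff.2 ⟨mul_mem hx hx, ?_⟩
      obtain ⟨n, hn, rfl⟩ := hx
      rw [d.s.mul, d.s.mul]
      have h : ∀ n : Fin 512, inK n = true → mulS (mulS n n) (mulS n n) = 0 := by decide +kernel
      rw [h n hn, d.s.one]
    have hfix : g * (x * x) * g⁻¹ = x * x := by
      rw [← mem_centralizer_iff.1 hg _ hx2, mul_inv_cancel_right]
    have hvV : v ∈ d.subV := by
      refine d.mem_subV_iff.2 ⟨mul_mem (inv_mem hx) hy, ?_⟩
      calc v * v = x⁻¹ * (g * x * g⁻¹ * x⁻¹) * (g * x * g⁻¹) := by rw [hv]; group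
        _ = x⁻¹ * (x⁻¹ * (g * x * g⁻¹)) * (g * x * g⁻¹) := by rw [d.comm_subK hy (inv_mem hx)]
        _ = (x * x)⁻¹ * (g * (x * x) * g⁻¹) := by group
        _ = 1 := by rw [hfix, inv_mul_cancel]
    have hgv : g * v * g⁻¹ = v := by rw [← mem_centralizer_iff.1 hg _ hvV, mul_inv_cancel_right]
    have hgx : g * x * g⁻¹ = x * v := by rw [hv]; group
    have hpow : ∀ k : ℕ, g ^ k * x * (g ^ k)⁻¹ = x * v ^ k := by
      intro k
      induction k with
      | zero => simp
      | succ k ih =>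
        rw [pow_succ' g, show g * g ^ k * x * (g * g ^ k)⁻¹ = g * (g ^ k * x * (g ^ k)⁻¹) * g⁻¹ by group, ih,
          show g * (x * v ^ k) * g⁻¹ = g * x * g⁻¹ * (g * v ^ k * g⁻¹) by group, hgx, ← conj_pow, hgv, mul_assoc,
          ← pow_succ']
    -- an odd power lies in the homocyclic subgroup
    set Y := X ⊓ normalizer (d.subK : Set G)
    have hgY : g ∈ Y := ⟨hg, mem_normalizer_fintype fun y hy => hgK y hy⟩
    have hKY : d.subK ≤ Y := le_inf hKX le_normalizer
    haveI : (d.subK.subgroupOf Y).Normal :=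
      ⟨fun y hy k => mem_subgroupOf.2 ((mem_normalizer_iff.1 k.2.2 _).1 hy)⟩
    have hm : ¬ 2 ∣ (d.subK.subgroupOf Y).index := fun h2 => hodd
      (h2.trans (dvd_of_mul_right_eq _ (Subgroup.relIndex_mul_relIndex _ _ _ hKY inf_le_left)))
    have hpm := Subgroup.pow_index_mem (d.subK.subgroupOf Y) ⟨g, hgY⟩
    have hmem : g ^ (d.subK.subgroupOf Y).index ∈ d.subK := hpm
    have he := hpow (d.subK.subgroupOf Y).index
    rw [d.comm_subK hmem hx, mul_inv_cancel_right, eq_comm, mul_eq_left] at he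
    have hv2 : v ^ 2 = 1 := by rw [pow_two]; exact (d.mem_subV_iff.1 hvV).2
    obtain ⟨j, hj⟩ := Nat.odd_iff.2 (Nat.two_dvd_ne_zero.1 hm)
    rw [hj, pow_succ, pow_mul, hv2, one_pow, one_mul] at he
    rw [he, mul_one] at hgx
    exact mul_inv_eq_iff_eq_mul.1 hgx
  -- Burnside
  let P : Sylow 2 ↥X := IsPGroup.toSylow (P := d.subK.subgroupOf X)
    ((d.S.isPGroup'.to_le d.subK_le).of_equiv (subgroupOfEquivOfLe hKX).symm) hodd
  have hPK : (P : Subgroup ↥X) = d.subK.subgroupOf X := IsPGroup.toSylow_coe _ _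
  have hburn : normalizer ((P : Subgroup ↥X) : Set ↥X) ≤ centralizer ((P : Subgroup ↥X) : Set ↥X) := by
    rw [hPK]
    intro g hg
    refine mem_centralizer_iff.2 fun x hx => Subtype.ext ?_
    refine (hcent g g.2 (fun y hy => ?_) x hx).symm
    exact mem_subgroupOf.1 ((mem_normalizer_iff.1 hg ⟨y, hKX hy⟩).1 (mem_subgroupOf.2 hy))
  set T := MonoidHom.transferSylow P hburn
  have hcompl := MonoidHom.ker_transferSylow_isComplement' P hburn
  set O := T.ker.map X.subtype with hO
  have hOodd : ¬ 2 ∣ Nat.card ↥O := by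
    rw [hO, card_map_of_injective X.subtype_injective]
    have e : (P : Subgroup ↥X).index = Nat.card ↥T.ker := hcompl.index_eq_card
    rw [← e, hPK]
    exact hodd
  have hkmem : ∀ w : ↥X, ¬ 2 ∣ orderOf w → T w = 1 := fun w hw => by
    rw [← orderOf_eq_one_iff]
    obtain ⟨j, hj⟩ := P.isPGroup' (T w)
    have h1 : orderOf (T w) ∣ 2 ^ j := orderOf_dvd_of_pow_eq_one hj
    have h2 : orderOf (T w) ∣ orderOf w := orderOf_map_dvd T w
    exact Nat.eq_one_of_dvd_coprimes ((Nat.Prime.coprime_iff_not_dvd Nat.prime_two).2 hw |>.pow_left j) h1 h2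
  have hONorm : ∀ r ∈ N, ∀ o ∈ O, r * o * r⁻¹ ∈ O := by
    rintro r hr _ ⟨o, ho, rfl⟩
    have hX : r * (o : G) * r⁻¹ ∈ X := mem_centralizer_iff.2 fun v hv => by
      have h := mem_centralizer_iff.1 o.2 _ ((mem_normalizer_iff''.1 hr v).1 hv)
      calc v * (r * (o : G) * r⁻¹) = r * ((r⁻¹ * v * r) * (o : G)) * r⁻¹ := by group
        _ = r * ((o : G) * (r⁻¹ * v * r)) * r⁻¹ := by rw [h]
        _ = _ := by group
    refine ⟨⟨_, hX⟩, MonoidHom.mem_ker.2 (hkmem _ fun h => hOodd (h.trans ?_)), rfl⟩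
    rw [← Subgroup.orderOf_coe,
      show orderOf (r * (o : G) * r⁻¹) = orderOf (o : G) from (MulAut.conj r).orderOf_eq (o : G),
      ← orderOf_mk (o : G) (mem_map_of_mem X.subtype ho : (o : G) ∈ O)]
    exact orderOf_dvd_natCard _
  obtain ⟨hR, -, hRc⟩ := d.cent_spec
  haveI : (Cfsg.pCore 2 ↥d.C).Normal := Grp.pCore_isNormal
  have hR2 : IsPGroup 2 ↥(HSFunctor.subR d) := d.S.isPGroup'.to_le d.s.sub_le
  have hO1 : O = ⊥ := by
    refine eq_bot_iff.2 fun o ho => ?_
    have hoX : o ∈ X := (map_subtype_le _) ho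
    have hoC : o ∈ d.C := d.cent_V_le_C hoX
    have hoR : o ∈ HSFunctor.subR d := hRc o hoC fun r hr => by
      have h1 : o * r * o⁻¹ * r⁻¹ ∈ O := by
        have := mul_mem ho (hONorm r (d.subR_le_normalizer hr) _ (inv_mem ho))
        rwa [show o * (r * o⁻¹ * r⁻¹) = o * r * o⁻¹ * r⁻¹ by group] at this
      have h2 : o * r * o⁻¹ * r⁻¹ ∈ HSFunctor.subR d := by
        refine mul_mem ?_ (inv_mem hr)
        rw [← hR] at hr ⊢
        obtain ⟨r', hr', rfl⟩ := hr
        exact ⟨⟨o, hoC⟩ * r' * ⟨o, hoC⟩⁻¹, Subgroup.Normal.conj_mem ‹_› _ hr' _, rfl⟩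
      have := JTwoType.two_odd_eq_one hR2 (Nat.odd_iff.2 (Nat.two_dvd_ne_zero.1 hOodd)) h2 h1
      rw [mul_inv_eq_one, mul_inv_eq_iff_eq_mul] at this
      exact this
    exact mem_bot.2 (JTwoType.two_odd_eq_one hR2 (Nat.odd_iff.2 (Nat.two_dvd_ne_zero.1 hOodd)) hoR ho)
  have hker : T.ker = ⊥ := (Subgroup.map_eq_bot_iff_of_injective _ X.subtype_injective).1 hO1
  refine le_antisymm (fun x hx => ?_) hKX
  obtain ⟨⟨⟨k, hk⟩, p, hp⟩, he⟩ := hcompl.2 (⟨x, hx⟩ : ↥X)
  rw [hker] at hk
  have : p = ⟨x, hx⟩ := by simpa [mem_bot.1 hk] using he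
  rw [this, hPK] at hp
  exact mem_subgroupOf.1 hp

theorem normalizer_eq : normalizer (d.subV : Set G) = normalizer (d.subK : Set G) := by
  refine le_antisymm (fun g hg => ?_) d.normalizer_subK_le
  refine mem_normalizer_fintype fun x hx => ?_
  rw [← d.cent_subV] at hx ⊢
  refine mem_centralizer_iff.2 fun v hv => ?_
  have h := mem_centralizer_iff.1 hx _ ((mem_normalizer_iff''.1 hg v).1 hv)
  calc v * (g * x * g⁻¹) = g * ((g⁻¹ * v * g) * x) * g⁻¹ := by group
    _ = g * (x * (g⁻¹ * v * g)) * g⁻¹ := by rw [h]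
    _ = _ := by group

open Fus.RudTransfer.Gl in
/-- The normaliser of the elementary subgroup. -/
theorem normalizer_spec : ∀ M : Subgroup G, M = normalizer (d.subV : Set G) →
    Nonempty (Cfsg.pCore 2 ↥M ≃* Multiplicative (ZMod 4 × ZMod 4 × ZMod 4)) ∧
      Nonempty (↥M ⧸ Cfsg.pCore 2 ↥M ≃* GL (Fin 3) (ZMod 2)) := by
  classical
  intro M hM
  subst hM
  rw [d.normalizer_eq]
  haveI : Fact (Nat.Prime 2) := ⟨Nat.prime_two⟩
  set N := normalizer (d.subK : Set G) with hN
  haveI : (d.subK.subgroupOf N).Normal := ⟨fun y hy k => mem_subgroupOf.2 ((mem_normalizer_iff.1 k.2 _).1 hy)⟩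
  -- the action
  choose t ht using fun g : ↥N => d.exists_map g.2
  have happ_inj : ∀ g, ∀ i j, app (t g) i = app (t g) j → i = j := fun g i j e => d.vpt_inj (by
    have := (ht g i).trans ((congrArg d.vpt e).trans (ht g j).symm)
    exact mul_left_cancel (mul_right_cancel this))
  have hdet : ∀ g, det (matL (t g)) = 1 := fun g => by
    have := happ_inj g
    generalize t g = f at this
    obtain ⟨a, b, c⟩ := f
    exact matL_det a b c this
  choose M' hM' using fun g => exists_enc (hdet g)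
  have hmul : ∀ g h : ↥N, t (g * h) = cmp (t g) (t h) := fun g h =>
    d.act_unique (n := ((g * h : ↥N) : G)) (ht (g * h)) (d.act_comp g.2 h.2 (ht g) (ht h))
  let f : ↥N →* G3 :=
    { toFun := M'
      map_one' := enc_injective (by
        rw [hM', enc_one, show t 1 = idL from d.act_unique (n := ((1 : ↥N) : G)) (ht 1) (fun i => by
          rw [lin_id]; simp), matL_id])
      map_mul' := fun g h => enc_injective (by rw [enc_mul, hM', hM', hM', hmul, matL_mul]) }
  have hf1 : ∀ g, f g = 1 ↔ t g = idL := fun g => by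
    constructor
    · intro h
      have h1 : enc (M' g) = enc 1 := congrArg enc h
      rw [hM', enc_one] at h1
      generalize t g = s at h1
      obtain ⟨a, b, c⟩ := s
      exact matL_inj a b c h1
    · intro h
      exact enc_injective (show enc (M' g) = enc 1 by rw [hM', h, matL_id, enc_one])
  have hker : f.ker = d.subK.subgroupOf N := by
    ext g
    rw [MonoidHom.mem_ker, hf1, mem_subgroupOf, ← d.cent_subV]
    constructor
    · intro h
      refine mem_centralizer_iff.2 fun v hv => ?_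
      obtain ⟨n, hn, rfl⟩ := hv
      obtain ⟨i, rfl⟩ := (vcode_inV n).1 hn
      have := ht g i
      rw [h, lin_id] at this
      exact (mul_inv_eq_iff_eq_mul.1 this).symm
    · intro h
      refine d.act_unique (n := (g : G)) (ht g) fun i => ?_
      rw [lin_id, ← mem_centralizer_iff.1 h _ (d.vpt_mem i), mul_inv_cancel_right]
  -- the order of the image
  have hk : ∀ {g : ↥N}, t g ≠ idL → pwL (t g) 3 = idL → 3 ∣ Nat.card ↥f.range := by
    intro g hne h3
    have e : f g ^ 3 = 1 := by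
      rw [← map_pow, hf1]
      refine d.act_unique (n := ((g ^ 3 : ↥N) : G)) (ht _) fun i => ?_
      rw [← h3, Subgroup.coe_pow]
      exact d.act_pow g.2 (ht g) 3 i
    haveI : Fact (Nat.Prime 3) := ⟨Nat.prime_three⟩
    have e3 : orderOf (⟨f g, MonoidHom.mem_range.2 ⟨g, rfl⟩⟩ : ↥f.range) = 3 :=
      (Subgroup.orderOf_mk (f g) _).trans (orderOf_eq_prime e (fun h => hne ((hf1 g).1 h)))
    exact dvd_trans (dvd_of_eq e3.symm) (orderOf_dvd_natCard _)
  have h3 : 3 ∣ Nat.card ↥f.range := by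
    obtain ⟨n, hn, -, -, e, he, t', htc, ht'⟩ := d.exists_odd false
    have et : t ⟨n, hn⟩ = t' := d.act_unique (n := n) (ht ⟨n, hn⟩) ht'
    obtain ⟨h1, h2, h23, h13⟩ := tF_ne e he
    rcases htc with rfl | rfl
    · exact hk (g := ⟨n, hn⟩) (et ▸ h1) (et ▸ h13)
    · exact hk (g := ⟨n, hn⟩) (et ▸ h2) (et ▸ h23)
  have h8 : 8 ∣ Nat.card ↥f.range := by
    let D : Fin 8 → ↥f.range := fun e => ⟨f ⟨d.s.φ (mkC 0 e), d.S_le_normalizer_subK (d.s.mem _)⟩, _, rfl⟩
    have hD : ∀ e, t ⟨d.s.φ (mkC 0 e), d.S_le_normalizer_subK (d.s.mem _)⟩ = dMap e := fun e => by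
      refine d.act_unique (n := d.s.φ (mkC 0 e)) (ht ⟨d.s.φ (mkC 0 e), d.S_le_normalizer_subK (d.s.mem _)⟩) ?_
      have := d.act_dP (mkC 0 e)
      rwa [dP_mkC] at this
    have hinj : Function.Injective D := fun a b h => by
      have h' := congrArg (fun x : ↥f.range => enc (x : G3)) h
      simp only [D] at h'
      change enc (M' _) = enc (M' _) at h'
      rw [hM', hM', hD, hD] at h'
      exact (by decide +kernel : ∀ a b : Fin 8, matL (dMap a) = matL (dMap b) → a = b) a b h'
    let H : Subgroup ↥f.range :=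
      { carrier := Set.range D
        one_mem' := ⟨0, Subtype.ext ((hf1 _).2 ((hD 0).trans dMap_facts.2.1))⟩
        mul_mem' := by
          rintro _ _ ⟨a, rfl⟩ ⟨b, rfl⟩
          refine ⟨mulD a b, Subtype.ext (enc_injective ?_)⟩
          show enc (M' _) = enc (M' _ * M' _)
          rw [enc_mul, hM', hM', hM', hD, hD, hD, ← matL_mul, dMap_facts.2.2]
        inv_mem' := by
          rintro _ ⟨a, rfl⟩
          refine ⟨invD a, eq_inv_of_mul_eq_one_left (Subtype.ext (enc_injective ?_))⟩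
          show enc (M' _ * M' _) = enc 1
          rw [enc_mul, hM', hM', hD, hD, ← matL_mul, dMap_facts.2.2, enc_one,
            (by decide +kernel : ∀ a : Fin 8, mulD (invD a) a = 0) a, dMap_facts.2.1, matL_id] }
    have hH : Nat.card ↥H = 8 := by
      show Nat.card ↥(Set.range D) = 8
      rw [← Nat.card_congr (Equiv.ofInjective D hinj), Nat.card_eq_fintype_card, Fintype.card_fin]
    exact hH ▸ H.card_subgroup_dvd_card
  have h7 : 7 ∣ Nat.card ↥f.range := by
    letI act : MulAction ↥N {i : Fin 8 // i ≠ 0} :=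
      { smul := fun g i => ⟨app (t g) i, fun e => i.2 (happ_inj g i 0 (e.trans (by
          have := ht g 0
          rw [d.vpt_zero, mul_one, mul_inv_cancel, ← d.vpt_zero] at this
          exact d.vpt_inj this)))⟩
        one_smul := fun i => Subtype.ext (show app (t 1) i = i by
          rw [show t 1 = idL from d.act_unique (n := ((1 : ↥N) : G)) (ht 1) (fun i => by rw [lin_id]; simp), lin_id])
        mul_smul := fun g h i => Subtype.ext (d.vpt_inj (by
          show d.vpt (app (t (g * h)) i) = d.vpt (app (t g) (app (t h) i))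
          rw [← ht, ← ht, ← ht, Subgroup.coe_mul]; group)) }
    have hK : f.ker ≤ MulAction.stabilizer ↥N (⟨6, by decide⟩ : {i : Fin 8 // i ≠ 0}) := fun g hg =>
      Subtype.ext (show app (t g) 6 = 6 by rw [(hf1 g).1 hg, lin_id])
    have h := Subgroup.index_dvd_of_le hK
    rw [Subgroup.index_ker, MulAction.index_stabilizer] at h
    have hor : MulAction.orbit ↥N (⟨6, by decide⟩ : {i : Fin 8 // i ≠ 0}) = Set.univ :=
      Set.eq_univ_of_forall fun i => by
        obtain ⟨n, hn, e⟩ := d.real_transitive i.2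
        refine ⟨⟨n, hn⟩, Subtype.ext (d.vpt_inj ?_)⟩
        show d.vpt (app (t _) 6) = _
        rw [← ht, d.vpt_six]; exact e
    rw [hor, Set.ncard_univ, Nat.card_eq_fintype_card, Fintype.card_subtype_compl, Fintype.card_fin,
      Fintype.card_subtype_eq] at h
    exact h
  have hsurj : Function.Surjective f := by
    refine MonoidHom.range_eq_top.1 (Subgroup.eq_top_of_le_card _ ?_)
    rw [Fus.CentTwoPSL.card_gl]
    exact Nat.le_of_dvd Nat.card_pos (Nat.Coprime.mul_dvd_of_dvd_of_dvd (by norm_num)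
      (Nat.Coprime.mul_dvd_of_dvd_of_dvd (by norm_num) h7 h3) h8 : 7 * 3 * 8 ∣ Nat.card ↥f.range)
  haveI : (Cfsg.pCore 2 ↥N).Normal := Grp.pCore_isNormal
  have hcore : Cfsg.pCore 2 ↥N = f.ker := by
    refine le_antisymm (fun g hg => MonoidHom.mem_ker.2 ((hf1 g).2 ?_)) ?_
    · letI act : MulAction ↥N {i : Fin 8 // i ≠ 0} :=
        { smul := fun g i => ⟨app (t g) i, fun e => i.2 (happ_inj g i 0 (e.trans (by
            have := ht g 0
            rw [d.vpt_zero, mul_one, mul_inv_cancel, ← d.vpt_zero] at this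
            exact d.vpt_inj this)))⟩
          one_smul := fun i => Subtype.ext (show app (t 1) i = i by
            rw [show t 1 = idL from d.act_unique (n := ((1 : ↥N) : G)) (ht 1) (fun i => by rw [lin_id]; simp), lin_id])
          mul_smul := fun g h i => Subtype.ext (d.vpt_inj (by
            show d.vpt (app (t (g * h)) i) = d.vpt (app (t g) (app (t h) i))
            rw [← ht, ← ht, ← ht, Subgroup.coe_mul]; group)) }
      have htr : ∀ a b : {i : Fin 8 // i ≠ 0}, ∃ x : ↥N, x • a = b := by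
        intro a b
        obtain ⟨n, hn, e⟩ := d.real_transitive a.2
        obtain ⟨m, hm, e'⟩ := d.real_transitive b.2
        refine ⟨⟨m * n⁻¹, mul_mem hm (inv_mem hn)⟩, Subtype.ext (d.vpt_inj ?_)⟩
        show d.vpt (app (t _) a) = _
        rw [← ht, ← e', ← e]
        group
      have hfix := fun i : {i : Fin 8 // i ≠ 0} => fixed_all (α := {i : Fin 8 // i ≠ 0}) Grp.pCore_isPGroup
        (by rw [Nat.card_eq_fintype_card, Fintype.card_subtype_compl, Fintype.card_fin, Fintype.card_subtype_eq]; norm_num)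
        htr g hg i
      refine d.act_unique (n := (g : G)) (ht g) fun i => ?_
      rw [lin_id]
      by_cases hi : i = 0
      · rw [hi, d.vpt_zero]; simp
      · have := congrArg Subtype.val (hfix ⟨i, hi⟩)
        rw [ht]
        exact congrArg d.vpt this
    · rw [hker]
      exact Grp.le_pCore inferInstance
        ((d.S.isPGroup'.to_le d.subK_le).of_equiv (subgroupOfEquivOfLe le_normalizer).symm)
  refine ⟨?_, ⟨(QuotientGroup.quotientMulEquivOfEq hcore).trans (QuotientGroup.quotientKerEquivOfSurjective f hsurj)⟩⟩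
  choose code hcode hcodeφ using fun x : ↥d.subK => (x.2 : ∃ n, inK n = true ∧ d.s.φ n = (x : G))
  let F : ↥d.subK →* Multiplicative (ZMod 4 × ZMod 4 × ZMod 4) :=
    MonoidHom.mk' (fun x => Multiplicative.ofAdd (toZ (vP (code x)))) fun x y => by
      have e : code (x * y) = mulS (code x) (code y) := d.s.inj (by
        rw [← d.s.mul, hcodeφ, hcodeφ, hcodeφ, Subgroup.coe_mul])
      rw [← ofAdd_add, ← add_table, e]
      congr 2
      with_unfolding_all
        rw [show mulS (code x) (code y) = mkC (addV (vP (code x)) (actC (dP (code x)) (vP (code y))))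
          (mulD (dP (code x)) (dP (code y))) from rfl, vP_mkC, (inK_iff _).1 (hcode x), act_zero]
  have hFinj : Function.Injective F := fun x y h => by
    have h1 : vP (code x) = vP (code y) := toZ_inj (Multiplicative.ofAdd.injective h)
    refine Subtype.ext ?_
    rw [← hcodeφ x, ← hcodeφ y, ← mkC_parts (code x), ← mkC_parts (code y), h1, (inK_iff _).1 (hcode x),
      (inK_iff _).1 (hcode y)]
  have hFbij : Function.Bijective F := by
    haveI : Fintype ↥d.subK := Fintype.ofFinite _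
    rw [Fintype.bijective_iff_injective_and_card]
    refine ⟨hFinj, ?_⟩
    rw [← Nat.card_eq_fintype_card, d.card_subK, Fintype.card_multiplicative, Fintype.card_prod, Fintype.card_prod,
      ZMod.card]
  exact ⟨((MulEquiv.subgroupCongr (hcore.trans hker)).trans (subgroupOfEquivOfLe le_normalizer)).trans
    (MulEquiv.ofBijective F hFbij)⟩

include d in
/-- The group is the Higman-Sims group. -/
theorem isoHS : Cfsg.Spor.IsoHS G := by
  classical
  haveI : Fact (Nat.Prime 2) := ⟨Nat.prime_two⟩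
  obtain ⟨hR, ⟨eH⟩, -⟩ := d.cent_spec
  obtain ⟨⟨eOM⟩, ⟨eM⟩⟩ := d.normalizer_spec _ rfl
  obtain ⟨k1, k2, k3, k4⟩ := cyc_codes
  obtain ⟨E0, Em, Ei, E32, E40, E22, E62⟩ := E_closed
  let E : Subgroup G := d.s.sub inE E0 (fun n m a b => Em n a m b) fun n a => (Ei n a).1
  let Cy : Subgroup G := zpowers (d.s.φ 22)
  have h22 : inR 22 = true := center_facts.2.1
  have hE : E ≤ HSFunctor.subR d := by
    rintro _ ⟨n, hn, rfl⟩
    exact d.s.mem_sub.2 (show inR n = true from (Ei n hn).2.1)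
  have h22R : d.s.φ 22 ∈ HSFunctor.subR d := d.s.mem_sub.2 h22
  have hcomm : d.s.φ 22 ∈ centralizer (HSFunctor.subR d : Set G) := mem_centralizer_iff.2 (by
    rintro _ ⟨n, hn, rfl⟩
    exact (d.s.commute.2 (center_comm n hn)).symm)
  have hsq : d.s.φ 22 * d.s.φ 22 = d.z := by rw [d.s.mul, k1]; rfl
  have hz2 : d.z * d.z = 1 := d.s.sq.2 forty_facts.2.2
  have ho4 : orderOf (d.s.φ 22) = 4 := by
    refine orderOf_eq_prime_pow (p := 2) (n := 1) ?_ ?_
    · intro h
      rw [show (2 : ℕ) ^ 1 = 2 from rfl, pow_two, hsq] at h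
      have := d.orderOf_z
      rw [h, orderOf_one] at this
      norm_num at this
    · rw [show (2 : ℕ) ^ (1 + 1) = 2 * 2 from rfl, pow_mul, pow_two (d.s.φ 22), hsq, pow_two, hz2]
  have hCy : ∀ x ∈ Cy, ∃ n : Fin 512, (n = 0 ∨ n = 22 ∨ n = 40 ∨ n = 62) ∧ x = d.s.φ n := by
    intro x hx
    obtain ⟨i, rfl⟩ := (isOfFinOrder_of_finite (d.s.φ 22)).mem_powers_iff_mem_zpowers.2 hx
    induction i with
    | zero => exact ⟨0, Or.inl rfl, by rw [d.s.one]; simp⟩
    | succ i ih =>
      obtain ⟨n, hn, e⟩ := ih (pow_mem (mem_zpowers _) i)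
      refine ⟨mulS 22 n, ?_, ?_⟩
      · rcases hn with rfl | rfl | rfl | rfl
        · exact Or.inr (Or.inl (inv_spec 22).2.2.2)
        · exact Or.inr (Or.inr (Or.inl k1))
        · exact Or.inr (Or.inr (Or.inr k2))
        · exact Or.inl k3
      · show d.s.φ 22 ^ (i + 1) = _
        rw [pow_succ', ← d.s.mul]
        exact congrArg _ e
  have hzCy : d.z ∈ Cy := hsq ▸ mul_mem (mem_zpowers _) (mem_zpowers _)
  have hzE : d.z ∈ E := d.s.mem_sub.2 E40
  have hEZ : ∀ x ∈ E, x ∈ centralizer (E : Set G) → x = 1 ∨ x = d.z := by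
    rintro _ ⟨n, hn, rfl⟩ hc
    rcases E_center n hn (fun m hm => d.s.commute.1 (mem_centralizer_iff.1 hc _ (d.s.mem_sub.2 hm)).symm) with rfl | rfl
    exacts [Or.inl d.s.one, Or.inr rfl]
  have hEex : Cfsg.IsExtraspecial 2 ↥E := by
    have hcen : ∀ x : ↥E, x ∈ center ↥E ↔ (x : G) = 1 ∨ (x : G) = d.z := fun x => by
      constructor
      · intro hx
        exact hEZ _ x.2 (mem_centralizer_iff.2 fun y hy =>
          congrArg Subtype.val (mem_center_iff.1 hx ⟨y, hy⟩))
      · intro h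
        refine mem_center_iff.2 fun y => Subtype.ext ?_
        rw [Subgroup.coe_mul, Subgroup.coe_mul]
        rcases h with h | h <;> rw [h]
        · simp
        · exact d.comm_z (d.s.sub_le y.2)
    refine extraspecial_of_sq (n := 5) (by rw [d.s.card_sub, E32]; norm_num) (by norm_num) ?_ ?_
    · have hset : (center ↥E : Set ↥E) = {1, ⟨d.z, hzE⟩} := Set.ext fun x => by
        rw [SetLike.mem_coe, hcen, Set.mem_insert_iff, Set.mem_singleton_iff, Subtype.ext_iff, Subtype.ext_iff]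
        rfl
      rw [show Nat.card ↥(center ↥E) = (center ↥E : Set ↥E).ncard from Nat.card_coe_set_eq _, hset]
      refine Set.ncard_pair fun e => ?_
      have := d.orderOf_z
      rw [show d.z = 1 from (congrArg Subtype.val e).symm, orderOf_one] at this
      norm_num at this
    · rintro ⟨x, n, hn, rfl⟩
      rw [hcen, Subgroup.coe_pow, pow_two]
      show d.s.φ n * d.s.φ n = 1 ∨ _ = d.z
      rw [d.s.mul]
      rcases (Ei n hn).2.2 with e | e <;> rw [e]
      exacts [Or.inl d.s.one, Or.inr rfl]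
  have hprod : Cy ⊔ E = HSFunctor.subR d := by
    refine le_antisymm (sup_le (zpowers_le.2 h22R) hE) ?_
    rintro _ ⟨n, hn, rfl⟩
    obtain ⟨l, hl, e⟩ := R_word n hn
    have hword : ∀ l : List (Fin 512), (∀ r ∈ l, r ∈ genR) → d.s.φ (l.foldr mulS 0) ∈ Cy ⊔ E := by
      intro l hl
      induction l with
      | nil => rw [List.foldr_nil, d.s.one]; exact one_mem _
      | cons r l ih =>
        rw [List.foldr_cons, ← d.s.mul]
        refine mul_mem ?_ (ih fun x hx => hl x (List.mem_cons_of_mem _ hx))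
        rcases E_split r (hl r (List.mem_cons_self ..)) with h | rfl
        exacts [mem_sup_right (d.s.mem_sub.2 h), mem_sup_left (mem_zpowers _)]
    rcases e with e | e <;> rw [e]
    · exact hword l hl
    · rw [← d.s.mul]
      exact mul_mem (mem_sup_right hzE) (hword l hl)
  have hmeet : Cy ⊓ E = E ⊓ centralizer (E : Set G) := by
    ext x
    constructor
    · rintro ⟨hxC, hxE⟩
      exact ⟨hxE, centralizer_le hE ((zpowers_le.2 hcomm) hxC)⟩
    · rintro ⟨hxE, hxc⟩
      rcases hEZ x hxE hxc with rfl | rfl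
      exacts [one_mem _, ⟨hzCy, hzE⟩]
  refine S3346.result d.z d.orderOf_z d.C rfl (HSFunctor.subR d) hR.symm Cy E
    (isCyclic_zpowers (d.s.φ 22)) (by rw [Nat.card_zpowers, ho4])
    (zpowers_le.2 ⟨h22R, hcomm⟩) hE hEex (d.s.card_sub.trans E32) hprod hmeet eH d.subV
    ⟨⟨fun a b => Subtype.ext (d.comm_subK (d.subV_le_subK a.2) (d.subV_le_subK b.2))⟩⟩
    (fun v hv => by rw [pow_two]; exact (d.mem_subV_iff.1 hv).2) d.card_subV ?_ _ rfl eOM eM
  rintro _ ⟨n, hn, rfl⟩
  exact d.s.mem_sub.2 (HSFunctor.inR_of_inV n hn)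

end Setting

end Cfsg.Agent.Spor.HSType
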