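import Cfsg.Agent.Lib.Spor.HSType.Moves

/-!
# Elements of odd order in the normalisers of the two maximal subgroups over the homocyclic one
-/

set_option autoImplicit false
set_option linter.unusedSectionVars false
set_option maxRecDepth 100000
set_option maxHeartbeats 4000000

namespace Cfsg.Agent.Spor.HSType

open Subgroup
open Cfsg.Agent.Spor.JTwoType (cI mem_cI card_cI align conj_into)

universe u

/-- The two four groups in the dihedral part. -/
def inF : Bool → Fin 8 → Bool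
  | false, e => (e : ℕ) % 2 == 0
  | true, e => e == 0 || e == 2 || e == 5 || e == 7

/-- The map of order three normalising a four group. -/
def tF : Bool → LMap
  | false => tA
  | true => tB

theorem dMap_facts : Function.Injective dMap ∧ dMap 0 = idL ∧ ∀ e f : Fin 8, cmp (dMap e) (dMap f) = dMap (mulD e f) := by
  decide +kernel

theorem inF_facts : ∀ b : Bool, inF b 0 = true ∧ (∀ e f, inF b e = true → inF b f = true → inF b (mulD e f) = true) ∧
    (∀ e, inF b e = true → inF b (invD e) = true) ∧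
    (∀ e, inF b e = true → ∃ f, inF b f = true ∧ cmp (tF b) (dMap e) = cmp (dMap f) (tF b)) ∧
    (∀ e, inF b e = true → pwL (cmp (dMap e) (tF b)) 3 = idL ∧ cmp (dMap e) (tF b) ≠ idL) ∧
    (Finset.univ.filter fun e => inF b e = true).card = 4 := by
  decide +kernel

theorem seven_period : ∀ a b c : Fin 8, (∀ i, (app (a, b, c))^[7] i = i) → pwL (a, b, c) 7 = idL := by
  decide +kernel

variable {G : Type u} [Group G] [Finite G]

namespace Setting

variable (d : Setting G)

theorem act_unique {n : G} {t t' : LMap} (h : ∀ i, n * d.vpt i * n⁻¹ = d.vpt (app t i))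
    (h' : ∀ i, n * d.vpt i * n⁻¹ = d.vpt (app t' i)) : t = t' := by
  have e : ∀ i, app t i = app t' i := fun i => d.vpt_inj ((h i).symm.trans (h' i))
  have hx : ∀ (s : LMap), app s 1 = s.1 ∧ app s 2 = s.2.1 ∧ app s 4 = s.2.2 := by
    rintro ⟨a, b, c⟩
    have hz : ∀ x : Fin 8, xo 0 x = x ∧ xo x 0 = x := by decide +kernel
    simp [app, hz]
  exact Prod.ext ((hx t).1.symm.trans ((e 1).trans (hx t').1))
    (Prod.ext ((hx t).2.1.symm.trans ((e 2).trans (hx t').2.1)) ((hx t).2.2.symm.trans ((e 4).trans (hx t').2.2)))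

theorem act_comp {n m : G} {f g : LMap} (hn : n ∈ normalizer (d.subK : Set G)) (hm : m ∈ normalizer (d.subK : Set G))
    (hf : ∀ i, n * d.vpt i * n⁻¹ = d.vpt (app f i)) (hg : ∀ i, m * d.vpt i * m⁻¹ = d.vpt (app g i)) :
    ∀ i, n * m * d.vpt i * (n * m)⁻¹ = d.vpt (app (cmp f g) i) := by
  obtain ⟨t, ht⟩ := d.exists_map (mul_mem hn hm)
  have e : t = cmp f g := by
    have h1 : ∀ i, app t i = app f (app g i) := fun i => d.vpt_inj (by rw [← ht, ← hf, ← hg]; group)
    have hx : ∀ (s : LMap), app s 1 = s.1 ∧ app s 2 = s.2.1 ∧ app s 4 = s.2.2 := by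
      rintro ⟨a, b, c⟩
      have hz : ∀ x : Fin 8, xo 0 x = x ∧ xo x 0 = x := by decide +kernel
      simp [app, hz]
    exact Prod.ext ((hx t).1.symm.trans ((h1 1).trans (by rw [(hx g).1]; rfl)))
      (Prod.ext ((hx t).2.1.symm.trans ((h1 2).trans (by rw [(hx g).2.1]; rfl)))
        ((hx t).2.2.symm.trans ((h1 4).trans (by rw [(hx g).2.2]; rfl))))
  exact e ▸ ht

theorem act_pow {n : G} {t : LMap} (hn : n ∈ normalizer (d.subK : Set G))
    (h : ∀ i, n * d.vpt i * n⁻¹ = d.vpt (app t i)) :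
    ∀ k : ℕ, ∀ i, n ^ k * d.vpt i * (n ^ k)⁻¹ = d.vpt (app (pwL t k) i)
  | 0 => fun i => by rw [pwL, lin_id]; simp
  | k + 1 => by
    rw [pow_succ']
    exact d.act_comp hn (pow_mem hn k) h (act_pow hn h k)

theorem act_dP (c : Fin 512) : ∀ i, d.s.φ c * d.vpt i * (d.s.φ c)⁻¹ = d.vpt (app (dMap (dP c)) i) := fun i => by
  have hcs : c = mulS (mkC (vP c) 0) (mkC 0 (dP c)) := by
    have hz : ∀ v : Fin 64, addV v 0 = v := by decide +kernel
    have h0 : ∀ e : Fin 8, mulD 0 e = e := by decide +kernel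
    rw [mulS, vP_mkC, vP_mkC, dP_mkC, dP_mkC, act_zero, hz, h0, mkC_parts]
  conv_lhs => rw [hcs, ← d.s.mul]
  rw [show ∀ k p : G, k * p * d.vpt i * (k * p)⁻¹ = k * (p * d.vpt i * p⁻¹) * k⁻¹ from fun k p => by group,
    vpt, d.s.conj, dMap_conj]
  show d.s.φ _ * d.vpt _ * (d.s.φ _)⁻¹ = _
  rw [d.comm_subK (d.s.mem_sub.2 ((inK_iff _).2 (dP_mkC _ _))) (d.subV_le_subK (d.vpt_mem _)), mul_inv_cancel_right]

/-- The whole linear group contains the maps of order three. -/
theorem real_tF (b : Bool) : d.Real (tF b) := by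
  have : Fact (Nat.Prime 7) := ⟨by norm_num⟩
  let φ : ↥(normalizer (d.subK : Set G)) →* MulAut ↥d.subV :=
    d.subV.normalizerMonoidHom.comp (Subgroup.inclusion d.normalizer_subK_le)
  have hφ : ∀ (n : ↥(normalizer (d.subK : Set G))) (v : ↥d.subV), ((φ n) v : G) = (n : G) * v * (n : G)⁻¹ :=
    fun n v => rfl
  let vp : Fin 8 → ↥d.subV := fun i => ⟨d.vpt i, d.vpt_mem i⟩
  letI : MulAction ↥φ.range ↥d.subV :=
    { smul := fun r v => (r : MulAut ↥d.subV) v
      one_smul := fun v => rfl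
      mul_smul := fun r s v => rfl }
  have horb : MulAction.orbit ↥φ.range (vp 6) = vp '' {i | i ≠ 0} := by
    ext v
    constructor
    · rintro ⟨⟨_, n, rfl⟩, rfl⟩
      obtain ⟨t, ht⟩ := d.exists_map n.2
      refine ⟨app t 6, fun e => ?_, Subtype.ext (ht 6).symm⟩
      have := ht 6
      rw [e, d.vpt_zero, conj_eq_one_iff, ← d.vpt_zero] at this
      exact absurd (d.vpt_inj this) (by decide)
    · rintro ⟨i, hi, rfl⟩
      obtain ⟨n, hn, e⟩ := d.real_transitive hi
      refine ⟨⟨φ ⟨n, hn⟩, MonoidHom.mem_range.2 ⟨⟨n, hn⟩, rfl⟩⟩, Subtype.ext ?_⟩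
      show n * d.vpt 6 * n⁻¹ = d.vpt i
      rw [d.vpt_six, e]
  have h7 : 7 ∣ Nat.card ↥φ.range := by
    refine dvd_trans (dvd_of_eq ?_) (MulAction.stabilizer ↥φ.range (vp 6)).index_dvd_card
    rw [MulAction.index_stabilizer, horb,
      Set.ncard_image_of_injective _ fun i j e => d.vpt_inj (congrArg Subtype.val e),
      show {i : Fin 8 | i ≠ 0} = ↑((Finset.univ : Finset (Fin 8)).erase 0) by ext i; simp, Set.ncard_coe_finset]
    rfl
  obtain ⟨⟨_, n, rfl⟩, hord⟩ := exists_prime_orderOf_dvd_card' 7 h7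
  obtain ⟨t, ht⟩ := d.exists_map n.2
  rw [← Subgroup.orderOf_coe] at hord
  change orderOf (φ n) = 7 at hord
  have ht7 := d.act_pow n.2 ht 7
  have h1 : φ n ^ 7 = 1 := hord ▸ pow_orderOf_eq_one (φ n)
  have hid : pwL t 7 = idL := by
    refine d.act_unique ht7 fun i => ?_
    rw [lin_id]
    have := congrArg (fun r : MulAut ↥d.subV => (r (vp i) : G)) h1
    simp only [MulAut.one_apply] at this
    rw [← map_pow, hφ] at this
    exact this
  have hne : t ≠ idL := fun e => by
    have h : φ n = 1 := MulEquiv.ext fun v => Subtype.ext (by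
      obtain ⟨c, hc, hv⟩ := v.2
      obtain ⟨i, rfl⟩ := (vcode_inV c).1 hc
      rw [hφ, ← hv, show d.s.φ (vcode i) = d.vpt i from rfl, ht, e, lin_id, MulAut.one_apply, ← hv]; rfl)
    rw [h, orderOf_one] at hord
    exact absurd hord (by norm_num)
  obtain ⟨wA, wB, hA, hB⟩ := seven_spec t hid hne
  have hw : ∀ w : List (Fin 3), d.Real (wordL t w) := by
    intro w
    induction w with
    | nil => exact ⟨1, one_mem _, fun i => by simp [wordL, lin_id]⟩
    | cons x w ih =>
      refine d.real_comp ?_ ih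
      split_ifs
      · exact d.real_dMap 1
      · exact d.real_dMap 4
      · exact ⟨n, n.2, ht⟩
  cases b
  · show d.Real tA
    exact hA ▸ hw wA
  · show d.Real tB
    exact hB ▸ hw wB

/-- The maximal subgroup over the homocyclic one. -/
def subT (b : Bool) : Subgroup G :=
  d.s.sub (fun c => inF b (dP c)) (show inF b (dP 0) = true from (inF_facts b).1)
    (fun n m hn hm => by rw [mulS, dP_mkC]; exact (inF_facts b).2.1 _ _ hn hm)
    (fun n hn => by rw [invS, dP_mkC]; exact (inF_facts b).2.2.1 _ hn)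

theorem subK_le_subT (b : Bool) : d.subK ≤ d.subT b := by
  rintro _ ⟨c, hc, rfl⟩
  exact d.s.mem_sub.2 (by rw [(inK_iff c).1 hc]; exact (inF_facts b).1)

theorem subT_card (b : Bool) : Nat.card ↥(d.subT b) = 256 := by
  rw [subT, d.s.card_sub]
  have e : (Finset.univ.filter fun c : Fin 512 => inF b (dP c) = true) =
      ((Finset.univ : Finset (Fin 64)) ×ˢ (Finset.univ.filter fun e => inF b e = true)).image fun p => mkC p.1 p.2 := by
    ext c
    simp only [Finset.mem_filter, Finset.mem_univ, true_and, Finset.mem_image, Finset.mem_product]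
    refine ⟨fun h => ⟨(vP c, dP c), h, mkC_parts c⟩, ?_⟩
    rintro ⟨p, hp, rfl⟩
    rwa [dP_mkC]
  rw [e, Finset.card_image_of_injective, Finset.card_product, (inF_facts b).2.2.2.2.2]
  · rfl
  · intro p q h
    exact Prod.ext (by simpa [vP_mkC] using congrArg vP h) (by simpa [dP_mkC] using congrArg dP h)

/-- The elements of the normaliser acting as a member of the four group. -/
def actF (b : Bool) (g : G) : Prop := ∃ e, inF b e = true ∧ ∀ i, g * d.vpt i * g⁻¹ = d.vpt (app (dMap e) i)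

/-- An element of odd order normalising a maximal subgroup over the homocyclic one and moving its cosets. -/
theorem exists_odd (b : Bool) : ∃ n ∈ normalizer (d.subK : Set G), cI n (d.subT b) = d.subT b ∧ Odd (orderOf n) ∧
    ∃ e, inF b e = true ∧ ∃ t, (t = cmp (dMap e) (tF b) ∨ t = pwL (cmp (dMap e) (tF b)) 2) ∧
      ∀ i, n * d.vpt i * n⁻¹ = d.vpt (app t i) := by
  have : Fact (Nat.Prime 2) := ⟨Nat.prime_two⟩
  obtain ⟨hF0, hFm, hFi, hFn, hF3, hF4⟩ := inF_facts b
  let M : Subgroup G :=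
    { carrier := {g | g ∈ normalizer (d.subK : Set G) ∧ d.actF b g}
      one_mem' := ⟨one_mem _, 0, hF0, fun i => by rw [dMap_facts.2.1, lin_id]; simp⟩
      mul_mem' := by
        rintro g h ⟨hg, e, he, ge⟩ ⟨hh, f, hf, hf'⟩
        exact ⟨mul_mem hg hh, _, hFm e f he hf, dMap_facts.2.2 e f ▸ d.act_comp hg hh ge hf'⟩
      inv_mem' := by
        rintro g ⟨hg, e, he, ge⟩
        refine ⟨inv_mem hg, _, hFi e he, fun i => ?_⟩
        obtain ⟨t, ht⟩ := d.exists_map (inv_mem hg)
        have h1 := d.act_unique (n := g * g⁻¹) (d.act_comp hg (inv_mem hg) ge ht)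
          (t' := idL) (fun i => by rw [lin_id, mul_inv_cancel]; simp)
        have h2 : ∀ (e : Fin 8) (a : LMap), cmp (dMap e) a = idL → a = dMap (invD e) := by
          rintro e ⟨x, y, w⟩
          exact (by decide +kernel : ∀ (e : Fin 8) (x y w : Fin 8), cmp (dMap e) (x, y, w) = idL →
            (x, y, w) = dMap (invD e)) e x y w
        rw [← h2 e t h1]
        exact ht i }
  have hTM : d.subT b ≤ M := by
    rintro _ ⟨c, hc, rfl⟩
    exact ⟨d.S_le_normalizer_subK (d.s.mem c), dP c, hc, d.act_dP c⟩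
  obtain ⟨n, hn, hnt⟩ := d.real_tF b
  have hnTM : cI n (d.subT b) ≤ M := by
    rintro _ ⟨x, hx, rfl⟩
    obtain ⟨hxN, e, he, hxe⟩ := hTM hx
    obtain ⟨f, hf, hfe⟩ := hFn e he
    refine ⟨mul_mem (mul_mem hn hxN) (inv_mem hn), f, hf, fun i => ?_⟩
    show n * x * n⁻¹ * d.vpt i * (n * x * n⁻¹)⁻¹ = _
    obtain ⟨j, hj⟩ : ∃ j, app (tF b) j = i := by
      obtain ⟨t', ht'⟩ := d.exists_map (inv_mem hn)
      exact ⟨app t' i, d.vpt_inj (by rw [← hnt, ← ht']; group)⟩
    have h2 : app (cmp (tF b) (dMap e)) j = app (dMap f) i := by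
      rw [hfe, ← hj]
      refine d.vpt_inj ?_
      rw [← d.act_comp (d.S_le_normalizer_subK (d.s.mem (mkC 0 f))) hn
        (by have := d.act_dP (mkC 0 f); rwa [dP_mkC] at this) hnt j]
      have := d.act_dP (mkC 0 f) (app (tF b) j)
      rw [dP_mkC, ← hnt] at this
      rw [← this]; group
    rw [← h2, ← d.act_comp hn hxN hnt hxe j, ← hj, ← hnt]
    group
  have hp : IsPGroup 2 ↥(d.subT b) := d.S.isPGroup'.to_le d.s.sub_le
  obtain ⟨m, hm, P, hP, hPM, hTP, hnP⟩ := align M (cI n (d.subT b)) (d.subT b) (hp.map _) hnTM hp hTM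
  have hPT : P = d.subT b := by
    refine (Subgroup.eq_of_le_of_card_ge hTP ?_).symm
    obtain ⟨k, hk⟩ := conj_into d.S hP
    have hkN : k ∈ normalizer (d.subK : Set G) :=
      d.mem_normalizer_of_le ((map_mono ((d.subK_le_subT b).trans hTP)).trans hk)
    obtain ⟨σ, hσ⟩ := d.exists_map hkN
    rw [d.subT_card, ← card_cI k P]
    have hall : ∀ x : ↥(cI k P), ∃ c : Fin 512, ∃ e, inF b e = true ∧ d.s.φ c = x ∧
        ∀ i, app (dMap (dP c)) (app σ i) = app σ (app (dMap e) i) := by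
      rintro ⟨_, y, hy, rfl⟩
      obtain ⟨c, hc⟩ := d.s.surj _ (hk (mem_cI (g := k) hy))
      obtain ⟨-, e, he, hye⟩ := hPM hy
      refine ⟨c, e, he, hc, fun i => d.vpt_inj ?_⟩
      rw [← d.act_dP, ← hσ, ← hσ, ← hye, hc]
      show k * y * k⁻¹ * (k * d.vpt i * k⁻¹) * (k * y * k⁻¹)⁻¹ = _
      group
    choose c e he hc hce using hall
    refine le_trans (Nat.card_le_card_of_injective
      (fun x => ((vP (c x), ⟨e x, he x⟩) : Fin 64 × {f : Fin 8 // inF b f = true})) fun x y hxy => ?_) (le_of_eq ?_)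
    · simp only [Prod.mk.injEq, Subtype.mk.injEq] at hxy
      have hd : dP (c x) = dP (c y) := by
        have hinvσ : ∀ j, ∃ i, app σ i = j := fun j => by
          obtain ⟨t', ht'⟩ := d.exists_map (inv_mem hkN)
          exact ⟨app t' j, d.vpt_inj (by rw [← hσ, ← ht']; group)⟩
        refine dMap_facts.1 (d.act_unique (d.act_dP _) fun j => ?_)
        obtain ⟨i, rfl⟩ := hinvσ j
        rw [d.act_dP, hce, hce, hxy.2]
      exact Subtype.ext (by rw [← hc, ← hc, ← mkC_parts (c x), ← mkC_parts (c y), hxy.1, hd])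
    · rw [Nat.card_eq_fintype_card, Fintype.card_prod, Fintype.card_fin, Fintype.card_subtype, hF4]
  rw [hPT] at hnP
  obtain ⟨hmN, e, he, hme⟩ := hm
  have hmn : cI (m * n) (d.subT b) = d.subT b := by
    refine Subgroup.eq_of_le_of_card_ge ?_ (by rw [card_cI])
    rintro _ ⟨x, hx, rfl⟩
    have := hnP (mem_cI (g := m) (mem_cI (g := n) hx))
    simpa [mul_assoc] using this
  have hact := d.act_comp hmN hn hme hnt
  set w := m * n
  have hwN : w ∈ normalizer (d.subK : Set G) := mul_mem hmN hn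
  set t0 := cmp (dMap e) (tF b)
  obtain ⟨a, q, hq, hord⟩ := Nat.exists_eq_pow_mul_and_not_dvd (orderOf_pos w).ne' 2 (by norm_num)
  refine ⟨w ^ 2 ^ a, pow_mem hwN _, ?_, ?_, e, he, pwL t0 (2 ^ a), ?_, d.act_pow hwN hact _⟩
  · have hmem : w ∈ normalizer (d.subT b : Set G) := mem_normalizer_fintype fun x hx => hmn.le (mem_cI hx)
    have hmem2 := pow_mem hmem (2 ^ a)
    refine le_antisymm ?_ fun x hx => ⟨(w ^ 2 ^ a)⁻¹ * x * w ^ 2 ^ a, (mem_normalizer_iff''.1 hmem2 x).1 hx, by
      show w ^ 2 ^ a * ((w ^ 2 ^ a)⁻¹ * x * w ^ 2 ^ a) * (w ^ 2 ^ a)⁻¹ = x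
      generalize w ^ 2 ^ a = u
      group⟩
    rintro _ ⟨x, hx, rfl⟩
    exact (mem_normalizer_iff.1 hmem2 x).1 hx
  · rw [orderOf_pow' w (by positivity), hord, Nat.gcd_eq_right (dvd_mul_right _ _),
      Nat.mul_div_cancel_left _ (by positivity)]
    exact Nat.odd_iff.2 (Nat.two_dvd_ne_zero.1 hq)
  · have h3 : ∀ j, pwL t0 (j + 3) = pwL t0 j := by
      intro j
      induction j with
      | zero => exact (hF3 e he).1
      | succ j ih => show cmp t0 (pwL t0 (j + 3)) = _; rw [ih]; rfl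
    have h1 : pwL t0 1 = t0 := by
      refine d.act_unique (d.act_pow hwN hact 1) fun i => ?_
      rw [pow_one]; exact hact i
    have hmod : ∀ j, pwL t0 j = pwL t0 (j % 3) := by
      intro j
      induction j using Nat.strongRecOn with
      | ind j ih =>
        rcases Nat.lt_or_ge j 3 with h | h
        · rw [Nat.mod_eq_of_lt h]
        · obtain ⟨i, rfl⟩ : ∃ i, j = i + 3 := ⟨j - 3, by omega⟩
          rw [h3, ih i (by omega), Nat.add_mod_right]
    rw [hmod]
    have : 2 ^ a % 3 = 1 ∨ 2 ^ a % 3 = 2 := by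
      have : ¬ 3 ∣ 2 ^ a := fun h => by
        have := (Nat.prime_three.dvd_of_dvd_pow h)
        norm_num at this
      omega
    rcases this with h | h <;> rw [h]
    · exact Or.inl h1
    · exact Or.inr rfl

end Setting

end Cfsg.Agent.Spor.HSType
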