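import Cfsg.Agent.Lib.Spor.HSType.Local
import Cfsg.Agent.S0215

/-!
# The central involution is moved in the normaliser of the homocyclic subgroup
-/

set_option autoImplicit false
set_option linter.unusedSectionVars false
set_option maxRecDepth 100000

namespace Cfsg.Agent.Spor.HSType

open Subgroup
open Cfsg.Agent.Spor.JTwoType (cI mem_cI card_cI)

universe u

theorem forty_V : ∀ v : Fin 512, inV v = true → v ≠ 40 → inV (mulS 40 v) = true ∧ (mulS 40 v = 40 → v = 0) := by
  decide +kernel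

theorem forty_facts : isInv 40 = true ∧ inV 40 = true ∧ mulS 40 40 = 0 := by decide +kernel

theorem rep_facts : ∀ k : Fin 9, inC k (rep k) = true ∧ isInv (rep k) = true := by decide +kernel

variable {G : Type u} [Group G] [Finite G]

namespace Setting

variable (d : Setting G)

/-- The central involution of the Sylow subgroup. -/
def z : G := d.s.φ 40

theorem comm_z {x : G} (hx : x ∈ (d.S : Subgroup G)) : x * d.z = d.z * x := by
  obtain ⟨n, rfl⟩ := d.s.surj x hx
  exact d.s.commute.2 (comm_forty n)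

theorem orderOf_z : orderOf d.z = 2 := d.s.orderOf_two.2 forty_facts.1

theorem z_mem_V : d.z ∈ d.subV := d.s.mem_sub.2 forty_facts.2.1

include d in
theorem no_index_two (H : Subgroup G) (hH : H.Normal) : H.index ≠ 2 := by
  intro hi
  have := d.simple
  rcases IsSimpleGroup.eq_bot_or_eq_top_of_normal H hH with e | e
  · rw [e, index_bot] at hi
    have : Fact (Nat.Prime 2) := ⟨Nat.prime_two⟩
    have : IsCyclic G := isCyclic_of_prime_card hi
    exact d.nc IsCyclic.commutative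
  · rw [e, index_top] at hi
    norm_num at hi

/-- The conjugates of a code within the Sylow subgroup. -/
theorem conj_rep {k : Fin 9} {n : Fin 512} (h : inC k n = true) : IsConj (d.s.φ (rep k)) (d.s.φ n) := by
  obtain ⟨g, hg⟩ := inC_conj k n h
  exact isConj_iff.2 ⟨d.s.φ g, by rw [d.s.conj, hg]⟩

theorem isInv_of_isConj {n m : Fin 512} (hn : isInv n = true) (h : IsConj (d.s.φ n) (d.s.φ m)) :
    isInv m = true := by
  obtain ⟨g, hg⟩ := isConj_iff.1 h
  rw [← d.s.orderOf_two] at hn ⊢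
  rw [← hg, show g * d.s.φ n * g⁻¹ = MulAut.conj g (d.s.φ n) from rfl, (MulAut.conj g).orderOf_eq, hn]

/-- A conjugation carrying `x` to `z` and the centralizer of `x` in the Sylow subgroup into it. -/
theorem to_z {n : Fin 512} (h : IsConj (d.s.φ n) d.z) : ∃ k : G, k * d.s.φ n * k⁻¹ = d.z ∧
    ∀ m, commS n m = true → ∃ m', d.s.φ m' = k * d.s.φ m * k⁻¹ := by
  obtain ⟨g, hg⟩ := isConj_iff.1 h
  obtain ⟨k, hk, hkB⟩ := d.exists_extremal_conj hg (fun s hs => d.comm_z hs)
    (B := (d.S : Subgroup G) ⊓ centralizer ({d.s.φ n} : Set G)) (d.S.isPGroup'.to_le inf_le_left)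
    (fun b hb => mem_centralizer_singleton_iff.1 hb.2)
  exact ⟨k, hk, fun m hm => d.s.surj _ (hkB (mem_cI (g := k)
    ⟨d.s.mem m, mem_centralizer_singleton_iff.2 (d.s.commute.2 hm).symm⟩))⟩

/-- The class 4 is not fused to the centre. -/
theorem four_not_z : ¬ IsConj (d.s.φ 133) d.z := fun h => by
  obtain ⟨k, hk, hm⟩ := d.to_z h
  obtain ⟨h1, h2, h3, h4, h5⟩ := four_witness
  obtain ⟨a, ha⟩ := hm 90 h1
  obtain ⟨b, hb⟩ := hm 398 h2
  set f := (MulAut.conj k).toMonoidHom
  have ha' : d.s.φ a = f (d.s.φ 90) := ha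
  have hb' : d.s.φ b = f (d.s.φ 398) := hb
  have e1 : mulS b b = mulS (mulS a a) (mulS a a) := d.s.inj (by
    simp only [← d.s.mul, ha', hb', ← map_mul]
    rw [d.s.mul, d.s.mul, d.s.mul, h4])
  have e2 : mulS (mulS (mulS b a) b) a = 0 := d.s.eq_one.1 (by
    simp only [← d.s.mul, ha', hb', ← map_mul]
    rw [d.s.mul, d.s.mul, d.s.mul, h3, d.s.one, map_one])
  have hne : ∀ c : Fin 512, d.s.φ c = f (d.s.φ 40) → c ≠ 0 ∧ c ≠ 40 := fun c hc => by
    refine ⟨fun e => ?_, fun e => ?_⟩ <;> subst e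
    · rw [d.s.one, eq_comm, map_eq_one_iff f (MulAut.conj k).injective, d.s.eq_one] at hc
      exact absurd hc (by decide)
    · have : d.s.φ 133 = d.s.φ 40 := (MulAut.conj k).injective (hk.trans hc)
      exact absurd (d.s.inj this) (by decide)
  have e3 : d.s.φ (mulS b b) = f (d.s.φ 40) := by rw [← h5, ← d.s.mul, hb', ← map_mul, d.s.mul]
  rw [e1] at e3
  obtain ⟨g0, g40⟩ := hne _ e3
  exact fourth_power a g0 g40 b e1 e2

/-- A class outside the elementary subgroup fused to the centre fuses it inside. -/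
theorem fused_V {k : Fin 9} (hk : k ∈ ([3, 5, 6, 7, 8] : List (Fin 9))) (h : IsConj (d.s.φ (rep k)) d.z) :
    ∃ v : Fin 512, inV v = true ∧ v ≠ 40 ∧ IsConj d.z (d.s.φ v) := by
  obtain ⟨κ, hκ, hm⟩ := d.to_z h
  obtain ⟨a, b, hca, hcb, ha2, hab, hb2, hb4, hbx, ha0, hax, hab2, haxb, hcase⟩ := witness k hk
  obtain ⟨a', ha⟩ := hm a hca
  obtain ⟨b', hb⟩ := hm b hcb
  set f := (MulAut.conj κ).toMonoidHom
  have hf : Function.Injective f := (MulAut.conj κ).injective
  have ha' : d.s.φ a' = f (d.s.φ a) := ha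
  have hb' : d.s.φ b' = f (d.s.φ b) := hb
  have hz : d.z = f (d.s.φ (rep k)) := hκ.symm
  have hsq : d.s.φ (mulS b' b') = f (d.s.φ (mulS b b)) := by rw [← d.s.mul, hb', ← map_mul, d.s.mul]
  have key : ∀ n m : Fin 512, d.s.φ n = f (d.s.φ m) → ((n = 0 ↔ m = 0) ∧ (n = 40 ↔ m = rep k)) := by
    intro n m hnm
    refine ⟨⟨fun e => ?_, fun e => ?_⟩, fun e => ?_, fun e => ?_⟩
    · subst e; rw [d.s.one, eq_comm, map_eq_one_iff f hf, d.s.eq_one] at hnm; exact hnm
    · subst e; rw [d.s.one, map_one, d.s.eq_one] at hnm; exact hnm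
    · subst e; exact (d.s.inj (hf (hz.symm.trans hnm))).symm
    · subst e; exact d.s.inj (hnm.trans hz.symm)
  obtain ⟨b0, bz⟩ := key _ _ hsq
  have hb4' : mulS (mulS b' b') (mulS b' b') = 0 :=
    d.s.eq_one.1 (by rw [← d.s.mul, hsq, ← map_mul, d.s.mul, hb4, d.s.one, map_one])
  have hV : inV (mulS b' b') = true := by
    refine (sq_class b' (fun e => hb2 (b0.1 e)) hb4').resolve_right fun h3 => ?_
    have hcomm : commS a' b' = true := d.s.commute.1 (by rw [ha', hb', ← map_mul, ← map_mul, d.s.commute.2 hab])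
    have ha2' : mulS a' a' = 0 := d.s.eq_one.1 (by rw [← d.s.mul, ha', ← map_mul, d.s.mul, ha2, d.s.one, map_one])
    obtain ⟨a0, az⟩ := key _ _ ha'
    rcases sq_out b' h3 a' ha2' hcomm with e | e | e | e
    · exact ha0 (a0.1 e)
    · exact hax (az.1 e)
    · exact hab2 (d.s.inj (hf (by rw [← ha', ← hsq, e])))
    · refine haxb (d.s.inj (hf ?_))
      rw [← ha', e, ← d.s.mul, hsq, show d.s.φ 40 = d.z from rfl, hz, ← map_mul, d.s.mul]
  have hne : mulS b' b' ≠ 40 := fun e => hbx (bz.1 e)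
  have hconj : ∀ n m : Fin 512, d.s.φ n = f (d.s.φ m) → IsConj (d.s.φ m) (d.s.φ n) := fun n m hnm =>
    isConj_iff.2 ⟨κ, hnm.symm⟩
  rcases hcase with hc | hc | hc
  · exact ⟨_, hV, hne, h.symm.trans ((d.conj_rep hc).trans (hconj _ _ hsq))⟩
  · obtain ⟨hV', hne'⟩ := forty_V _ hV hne
    refine ⟨mulS 40 (mulS b' b'), hV', fun e => hb2 (b0.1 (hne' e)), h.symm.trans ((d.conj_rep hc).trans (hconj _ _ ?_))⟩
    rw [← d.s.mul, hsq, show d.s.φ 40 = d.z from rfl, hz, ← map_mul, d.s.mul]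
  · exact ⟨_, hV, hne, (show IsConj d.z (d.s.φ (mulS b b)) by rw [hc]; exact IsConj.refl _).trans (hconj _ _ hsq)⟩

/-- The centre is not weakly closed in the normaliser of the homocyclic subgroup. -/
theorem moves_z : ∃ n ∈ normalizer (d.subK : Set G), n * d.z * n⁻¹ ≠ d.z := by
  by_contra hno
  push Not at hno
  have hV : ∀ v : Fin 512, inV v = true → IsConj d.z (d.s.φ v) → v = 40 := fun v hv hc => by
    obtain ⟨g, hg⟩ := isConj_iff.1 hc
    obtain ⟨n, hn, he⟩ := d.control (g := g) (d.subV_le_subK d.z_mem_V)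
      (hg ▸ d.subV_le_subK (d.s.mem_sub.2 hv))
    rw [hno n hn, hg] at he
    exact d.s.inj he.symm
  have hiso : ∀ g : G, g * d.z * g⁻¹ ∈ (d.S : Subgroup G) → g * d.z * g⁻¹ = d.z := by
    intro g hg
    obtain ⟨m, hm⟩ := d.s.surj _ hg
    have hc : IsConj d.z (d.s.φ m) := isConj_iff.2 ⟨g, hm.symm⟩
    obtain ⟨k, hk⟩ := (inC_inv m).1 (d.isInv_of_isConj forty_facts.1 hc)
    rcases (by decide : ∀ k : Fin 9, k ∈ ([0, 1, 2] : List (Fin 9)) ∨ k = 4 ∨
      k ∈ ([3, 5, 6, 7, 8] : List (Fin 9))) k with h | rfl | h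
    · rw [← hm, hV m ((inV_classes m).2 (Or.inr (by
        simp only [List.mem_cons, List.not_mem_nil, or_false] at h
        rcases h with rfl | rfl | rfl <;> simp [hk]))) hc]
      rfl
    · exact absurd ((d.conj_rep hk).trans hc.symm) d.four_not_z
    · obtain ⟨v, hv, hv40, hvc⟩ := d.fused_V h ((d.conj_rep hk).trans hc.symm)
      exact absurd (hV v hv hvc) hv40
  obtain ⟨N, hN, hodd, hcomm⟩ := S0215.result d.S d.z d.orderOf_z (d.s.mem 40) hiso
  have := d.simple
  rcases IsSimpleGroup.eq_bot_or_eq_top_of_normal N hN with e | e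
  · have hz : d.z ∈ center G := mem_center_iff.2 fun g => by
      have := hcomm g
      rw [e, mem_bot] at this
      calc g * d.z = 1 * g * d.z := by rw [one_mul]
        _ = d.z * g * d.z⁻¹ * g⁻¹ * g * d.z := by rw [this]
        _ = _ := by group
    rcases IsSimpleGroup.eq_bot_or_eq_top_of_normal (center G) inferInstance with e' | e'
    · rw [e', mem_bot] at hz
      have := d.orderOf_z
      rw [hz, orderOf_one] at this
      norm_num at this
    · exact d.nc ⟨⟨fun a b => (mem_center_iff.1 (e'.symm ▸ mem_top b : b ∈ center G) a)⟩⟩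
  · rw [e, Subgroup.card_top] at hodd
    have := orderOf_dvd_natCard d.z
    rw [d.orderOf_z] at this
    exact (Nat.not_even_iff_odd.2 hodd) (even_iff_two_dvd.2 this)

end Setting

end Cfsg.Agent.Spor.HSType
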