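import Cfsg.Agent.Lib.Spor.HSType.Facts

/-!
# Linear maps of the elementary subgroup, as triples of images of a basis
-/

set_option autoImplicit false
set_option maxRecDepth 100000
set_option maxHeartbeats 4000000

namespace Cfsg.Agent.Spor.HSType

/-- The code of a point of the elementary subgroup. -/
def vcode (i : Fin 8) : Fin 512 := ⟨2 * ((i : ℕ) % 2) + 8 * ((i : ℕ) / 2 % 2) + 32 * ((i : ℕ) / 4), by omega⟩

/-- Addition of points. -/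
def xo (i j : Fin 8) : Fin 8 := ⟨((i : ℕ) ^^^ (j : ℕ)) % 8, Nat.mod_lt _ (by norm_num)⟩

/-- A triple of points. -/
abbrev LMap := Fin 8 × Fin 8 × Fin 8

/-- The image of a point. -/
def app (t : LMap) (i : Fin 8) : Fin 8 :=
  xo (xo (if (i : ℕ) % 2 = 1 then t.1 else 0) (if (i : ℕ) / 2 % 2 = 1 then t.2.1 else 0))
    (if (i : ℕ) / 4 = 1 then t.2.2 else 0)

/-- The composition. -/
def cmp (f g : LMap) : LMap := (app f g.1, app f g.2.1, app f g.2.2)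

/-- The identity. -/
def idL : LMap := (1, 2, 4)

/-- The powers. -/
def pwL (t : LMap) : ℕ → LMap
  | 0 => idL
  | n + 1 => cmp t (pwL t n)

/-- The maps of the Sylow subgroup. -/
def dMap : Fin 8 → LMap :=
  ![(1, 2, 4), (2, 7, 1), (7, 4, 2), (4, 1, 7), (1, 4, 2), (2, 1, 7), (7, 2, 4), (4, 7, 1)]

/-- The two maps of order three. -/
def tA : LMap := (2, 3, 5)

/-- The second map of order three. -/
def tB : LMap := (1, 4, 7)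

/-- Words for the two maps in the Sylow subgroup and each map of order seven. -/
def sevW : List (LMap × List (Fin 3) × List (Fin 3)) :=
  [((2, 4, 3), [2, 2, 2, 1, 0, 2], [2, 2, 1, 0, 2]),
    ((2, 4, 5), [1, 0, 2, 2, 0, 0, 2, 1], [0, 2, 0, 0, 2, 2]),
    ((2, 5, 1), [2, 0, 1, 2], [1, 2, 1, 2, 1]),
    ((2, 5, 6), [0, 2, 2, 1, 2, 0], [2, 2, 2, 1, 2, 1, 0]),
    ((2, 6, 1), [2, 2, 0, 0, 2, 1], [1, 2, 1, 2, 1]),
    ((2, 6, 5), [0, 2, 1, 2, 2, 1, 0], [0, 2, 0, 2, 1, 2]),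
    ((2, 7, 3), [2, 0, 1, 2], [2, 0, 2, 1, 2]),
    ((2, 7, 6), [1, 2, 1, 2, 2, 0], [2, 0, 2, 1, 2]),
    ((3, 4, 1), [1, 2, 2, 0, 0, 0, 2], [2, 0, 1, 2, 2]),
    ((3, 4, 5), [1, 0, 2, 0, 2, 2, 0], [1, 2, 2, 0, 2, 1]),
    ((3, 5, 2), [1, 0, 2, 2, 0, 0, 2], [2, 1, 0, 2, 2, 1, 0]),
    ((3, 5, 7), [2, 0, 2, 2], [2, 2, 0, 2, 1, 0]),
    ((3, 6, 1), [2, 0, 0, 2, 2], [2, 1, 2, 0, 2]),
    ((3, 6, 7), [0, 1, 2, 0, 1, 2, 0], [2, 1, 2, 0, 1]),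
    ((3, 7, 2), [2, 2, 2, 2, 1, 2], [2, 2, 0, 1, 2, 0, 0]),
    ((3, 7, 5), [2, 2, 1, 2], [2, 2, 1, 2, 2]),
    ((4, 1, 3), [1, 2, 1, 0, 2, 1], [2, 1, 2]),
    ((4, 1, 6), [0, 2, 0, 1, 2, 0], [2, 1, 2]),
    ((4, 3, 2), [2, 2, 0, 1, 2, 2], [2, 0, 0, 2, 1, 2, 0]),
    ((4, 3, 6), [2, 0, 0, 2, 2, 1, 0], [2, 2, 0, 0, 2, 0]),
    ((4, 5, 2), [2, 2, 2, 0, 2, 0], [0, 2, 2, 0, 2, 0]),
    ((4, 5, 7), [1, 2, 2, 1, 2, 0], [2, 0, 1, 2, 2, 0]),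
    ((4, 6, 3), [0, 2, 2, 0, 2, 1, 0], [2, 0, 2, 2, 1, 0]),
    ((4, 6, 7), [2, 1, 2, 2, 1, 0], [2, 2, 0, 0, 2]),
    ((5, 1, 2), [2, 2, 0, 2, 1], [0, 2, 0, 2, 2, 0]),
    ((5, 1, 6), [0, 2, 0, 1, 2, 0], [0, 2, 2, 1, 0, 2]),
    ((5, 3, 2), [2, 2, 2, 1, 0, 2, 1], [2, 2, 0, 0, 0, 2]),
    ((5, 3, 7), [1, 2, 2, 1, 2, 1], [2, 1, 0, 2, 2]),
    ((5, 4, 3), [2, 2, 0, 1, 2, 2, 1], [2, 0, 0, 2, 2, 0]),
    ((5, 4, 7), [1, 2, 0, 2, 1, 2], [0, 2, 2, 0, 0, 2]),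
    ((5, 7, 3), [1, 2, 1, 2, 2], [2, 0, 2, 1, 2, 1]),
    ((5, 7, 6), [2, 2, 0, 0, 2], [0, 2, 1, 2, 0]),
    ((6, 1, 2), [2, 2, 1, 2, 0, 2], [1, 2, 2, 1, 0, 2, 0]),
    ((6, 1, 5), [1, 2, 1, 0, 2], [2, 0, 0, 2, 2]),
    ((6, 3, 1), [2, 0, 1, 2, 1], [2, 1, 2, 0, 2]),
    ((6, 3, 7), [1, 2, 1, 0, 2], [2, 1, 2, 0, 1]),
    ((6, 4, 1), [2, 2, 2, 2, 0, 2], [2, 2, 0, 0, 2, 0]),
    ((6, 4, 7), [2, 2, 0, 2], [1, 2, 0, 2, 2, 1]),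
    ((6, 7, 2), [1, 2, 2, 1, 0, 0, 2], [2, 0, 0, 0, 2, 2]),
    ((6, 7, 5), [2, 0, 1, 2, 1], [0, 2, 1, 2, 0]),
    ((7, 1, 3), [1, 2, 2, 1, 2], [0, 2, 0, 0, 2, 2]),
    ((7, 1, 5), [2, 1, 2, 2], [2, 2, 0, 2, 0, 0]),
    ((7, 3, 1), [1, 2, 1, 2, 2, 1], [2, 1, 2, 2, 2, 0, 0]),
    ((7, 3, 6), [0, 2, 0, 2, 2, 2], [2, 0, 2, 2, 0, 0]),
    ((7, 5, 1), [2, 2, 1, 2, 1], [2, 1, 2, 0, 2, 0]),
    ((7, 5, 6), [2, 0, 0, 2, 2, 1, 0], [2, 2, 1, 2, 2]),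
    ((7, 6, 3), [0, 2, 1, 2, 2, 0], [2, 2, 0, 1, 2]),
    ((7, 6, 5), [2, 0, 2, 0, 0, 2, 0], [1, 2, 1, 2, 0, 2])]

/-- A map built by a word. -/
def wordL (t : LMap) (w : List (Fin 3)) : LMap :=
  w.foldr (fun i r => cmp (if i = 0 then dMap 1 else if i = 1 then dMap 4 else t) r) idL

theorem xo_code : ∀ i j : Fin 8, vcode (xo i j) = mulS (vcode i) (vcode j) := by decide +kernel

theorem vcode_inV : ∀ n : Fin 512, inV n = true ↔ ∃ i, vcode i = n := by decide +kernel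

theorem vcode_inj : Function.Injective vcode := by decide +kernel

theorem dMap_conj : ∀ (d i : Fin 8), conjS (mkC 0 d) (vcode i) = vcode (app (dMap d) i) := by decide +kernel

theorem app_split : ∀ i : Fin 8, (if (i : ℕ) % 2 = 1 then (1 : Fin 8) else 0) = ⟨(i : ℕ) % 2, by omega⟩ ∧
    xo (xo (if (i : ℕ) % 2 = 1 then 1 else 0) (if (i : ℕ) / 2 % 2 = 1 then 2 else 0))
      (if (i : ℕ) / 4 = 1 then 4 else 0) = i := by decide +kernel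

theorem sev_complete : ∀ a b c : Fin 8, pwL (a, b, c) 7 = idL → (a, b, c) ≠ idL →
    (sevW.any fun r => r.1 == (a, b, c) && wordL r.1 r.2.1 == tA && wordL r.1 r.2.2 == tB) = true := by
  decide +kernel

theorem seven_spec (t : LMap) (h : pwL t 7 = idL) (hne : t ≠ idL) :
    ∃ wA wB : List (Fin 3), wordL t wA = tA ∧ wordL t wB = tB := by
  have := sev_complete t.1 t.2.1 t.2.2 h hne
  simp only [List.any_eq_true, Bool.and_eq_true, beq_iff_eq] at this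
  obtain ⟨r, -, ⟨e, h1⟩, h2⟩ := this
  rw [e] at h1 h2
  exact ⟨_, _, h1, h2⟩

/-- A moved centre and a moved plane connect all points. -/
theorem orbit_step : ∀ a b c : Fin 8, app (a, b, c) 6 ∈ ([1, 2, 4, 7] : List (Fin 8)) →
    (∀ i, i ≠ 0 → app (a, b, c) i ≠ 0) →
    app (a, b, c) 3 ∈ ([1, 2, 4, 6, 7] : List (Fin 8)) ∨ app (a, b, c) 5 ∈ ([1, 2, 4, 6, 7] : List (Fin 8)) := by
  decide +kernel

theorem point_codes : vcode 0 = 0 ∧ vcode 6 = 40 ∧ vcode 3 = 10 ∧ vcode 5 = 34 := by decide +kernel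

/-- The maps of the Sylow subgroup are transitive on the two small orbits. -/
theorem d_orbits : (∀ i : Fin 8, i ∈ ([1, 2, 4, 7] : List (Fin 8)) → ∃ d, app (dMap d) 1 = i) ∧
    (∀ i : Fin 8, i ∈ ([3, 5] : List (Fin 8)) → ∃ d, app (dMap d) 3 = i) := by decide +kernel

end Cfsg.Agent.Spor.HSType
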