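import Cfsg.Agent.Lib.Spor.HSType.Facts
import Cfsg.Agent.Lib.Spor.HSType.CentFacts
import Cfsg.Agent.Lib.Spor.JTwoType.Fusion
import Cfsg.Agent.Lib.Invol.Transfer2

/-!
# The homocyclic subgroup of order 64 controls the fusion of its elements
-/

set_option autoImplicit false
set_option linter.unusedSectionVars false
set_option maxRecDepth 100000

namespace Cfsg.Agent.Spor.HSType

open Subgroup
open Cfsg.Agent.Spor.JTwoType (cI mem_cI card_cI align conj_into)

universe u

/-- A group without normal subgroups of index two and with a Sylow subgroup of this shape. -/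
structure Setting (G : Type u) [Group G] [Finite G] where
  S : Sylow 2 G
  s : Shape (S : Subgroup G)
  simple : IsSimpleGroup G
  nc : ¬ IsMulCommutative G

variable {G : Type u} [Group G] [Finite G]

namespace Setting

variable (d : Setting G)

/-- The homocyclic subgroup. -/
def subK : Subgroup G := d.s.sub inK (by decide) (fun n m a b => (K_closed.1 n m a b).1) K_closed.2.1

/-- The elementary subgroup of order eight. -/
def subV : Subgroup G := d.s.sub inV (by decide +kernel) V_closed.1 V_closed.2.1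

theorem subK_le : d.subK ≤ (d.S : Subgroup G) := d.s.sub_le

theorem card_subK : Nat.card ↥d.subK = 64 := d.s.card_sub.trans V_closed.2.2.2.2

theorem card_subV : Nat.card ↥d.subV = 8 := d.s.card_sub.trans V_closed.2.2.2.1

theorem comm_subK {x y : G} (hx : x ∈ d.subK) (hy : y ∈ d.subK) : x * y = y * x := by
  obtain ⟨n, hn, rfl⟩ := hx
  obtain ⟨m, hm, rfl⟩ := hy
  exact d.s.commute.2 (K_closed.1 n m hn hm).2

theorem subV_le_subK : d.subV ≤ d.subK := by
  rintro _ ⟨n, hn, rfl⟩
  exact d.s.mem_sub.2 (by simp only [Set.mem_ofPred_eq, inV, Bool.and_eq_true] at hn; exact hn.1)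

theorem mem_subV_iff {x : G} : x ∈ d.subV ↔ x ∈ d.subK ∧ x * x = 1 := by
  constructor
  · intro hx
    refine ⟨d.subV_le_subK hx, ?_⟩
    obtain ⟨n, hn, rfl⟩ := hx
    simp only [Set.mem_ofPred_eq, inV, Bool.and_eq_true, beq_iff_eq] at hn
    exact d.s.sq.2 hn.2
  · rintro ⟨⟨n, hn, rfl⟩, h⟩
    exact d.s.mem_sub.2 (by simp only [inV, Bool.and_eq_true, beq_iff_eq]; exact ⟨hn, d.s.sq.1 h⟩)

theorem S_le_normalizer_subK : (d.S : Subgroup G) ≤ normalizer (d.subK : Set G) := fun g hg => by
  obtain ⟨k, rfl⟩ := d.s.surj g hg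
  refine mem_normalizer_fintype ?_
  rintro _ ⟨n, hn, rfl⟩
  rw [d.s.conj]
  exact d.s.mem_sub.2 (K_closed.2.2 k n hn)

/-- The centralizer in the Sylow subgroup. -/
theorem card_centS (n : Fin 512) :
    Nat.card ↥((d.S : Subgroup G) ⊓ centralizer ({d.s.φ n} : Set G)) = centCard n := by
  have e : (((d.S : Subgroup G) ⊓ centralizer ({d.s.φ n} : Set G) : Subgroup G) : Set G) =
      d.s.φ '' {m | commS n m = true} := by
    ext x
    constructor
    · rintro ⟨hx, hc⟩
      obtain ⟨m, rfl⟩ := d.s.surj x hx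
      exact ⟨m, d.s.commute.1 (mem_centralizer_singleton_iff.1 hc).symm, rfl⟩
    · rintro ⟨m, hm, rfl⟩
      exact ⟨d.s.mem m, mem_centralizer_singleton_iff.2 (d.s.commute.2 hm).symm⟩
  show Nat.card ↥((((d.S : Subgroup G) ⊓ centralizer ({d.s.φ n} : Set G) : Subgroup G) : Set G)) = _
  rw [e, Nat.card_coe_set_eq, Set.ncard_image_of_injective _ d.s.inj, centCard, ← Set.ncard_coe_finset]
  simp

/-- It is the only abelian subgroup of its order. -/
theorem eq_subK {A : Subgroup G} (hA : A ≤ (d.S : Subgroup G)) (hc : ∀ x ∈ A, ∀ y ∈ A, x * y = y * x)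
    (h64 : Nat.card ↥A = 64) : A = d.subK := by
  refine Subgroup.eq_of_le_of_card_ge ?_ (by rw [card_subK, h64])
  intro x hx
  obtain ⟨n, rfl⟩ := d.s.surj x (hA hx)
  by_contra hn
  have hn' : 64 ≤ (n : ℕ) := not_lt.1 fun h => hn (d.s.mem_sub.2 (by simp [inK, h]))
  have hle : A ≤ (d.S : Subgroup G) ⊓ centralizer ({d.s.φ n} : Set G) :=
    le_inf hA fun y hy => mem_centralizer_singleton_iff.2 (hc y hy _ hx)
  have h1 := Subgroup.card_le_of_le hle
  rw [d.card_centS, h64] at h1
  rcases cent_outer n hn' with h | ⟨h, a, ha, b, hb, hab⟩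
  · omega
  · have e := Subgroup.eq_of_le_of_card_ge hle (by rw [d.card_centS, h64]; omega)
    have hm : ∀ m, commS n m = true → d.s.φ m ∈ A := fun m hm => by
      rw [e]
      exact ⟨d.s.mem m, mem_centralizer_singleton_iff.2 (d.s.commute.2 hm).symm⟩
    rw [d.s.commute.1 (hc _ (hm a ha) _ (hm b hb))] at hab
    exact Bool.noConfusion hab

theorem cI_subK_eq {g : G} (h : cI g d.subK ≤ (d.S : Subgroup G)) : cI g d.subK = d.subK :=
  d.eq_subK h (fun x hx y hy => by
    obtain ⟨a, ha, rfl⟩ := hx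
    obtain ⟨b, hb, rfl⟩ := hy
    rw [← map_mul, ← map_mul, d.comm_subK ha hb]) (by rw [card_cI, d.card_subK])

theorem mem_normalizer_of_le {g : G} (h : cI g d.subK ≤ (d.S : Subgroup G)) : g ∈ normalizer (d.subK : Set G) := by
  refine mem_normalizer_fintype fun x hx => ?_
  rw [← d.cI_subK_eq h]
  exact mem_cI hx

/-- The normaliser of the homocyclic subgroup controls the fusion of its elements. -/
theorem control {x g : G} (hx : x ∈ d.subK) (hy : g * x * g⁻¹ ∈ d.subK) :
    ∃ n ∈ normalizer (d.subK : Set G), n * x * n⁻¹ = g * x * g⁻¹ := by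
  have hp : IsPGroup 2 ↥d.subK := d.S.isPGroup'.to_le d.subK_le
  obtain ⟨k, hk, P, hP, -, hKP, hgP⟩ := align (centralizer ({g * x * g⁻¹} : Set G)) (cI g d.subK) d.subK
    (hp.map _) (by
      rintro _ ⟨a, ha, rfl⟩
      refine mem_centralizer_singleton_iff.2 ?_
      show g * a * g⁻¹ * (g * x * g⁻¹) = g * x * g⁻¹ * (g * a * g⁻¹)
      calc _ = g * (a * x) * g⁻¹ := by group
        _ = g * (x * a) * g⁻¹ := by rw [d.comm_subK ha hx]
        _ = _ := by group) hp
    (fun a ha => mem_centralizer_singleton_iff.2 (d.comm_subK ha hy))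
  obtain ⟨h, hh⟩ := conj_into d.S hP
  have h1 : h ∈ normalizer (d.subK : Set G) := d.mem_normalizer_of_le ((map_mono hKP).trans hh)
  have h2 : h * k * g ∈ normalizer (d.subK : Set G) := d.mem_normalizer_of_le (by
    rintro _ ⟨a, ha, rfl⟩
    have := hh (mem_cI (g := h) (hgP (mem_cI (g := k) (mem_cI (g := g) ha))))
    simpa [mul_assoc] using this)
  refine ⟨k * g, by simpa [mul_assoc] using mul_mem (inv_mem h1) h2, ?_⟩
  rw [show k * g * x * (k * g)⁻¹ = k * (g * x * g⁻¹) * k⁻¹ by group, mem_centralizer_singleton_iff.1 hk,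
    mul_inv_cancel_right]

/-- An element normalising the homocyclic subgroup normalises the elementary one. -/
theorem normalizer_subK_le : normalizer (d.subK : Set G) ≤ normalizer (d.subV : Set G) := fun g hg => by
  refine mem_normalizer_fintype fun x hx => ?_
  obtain ⟨h1, h2⟩ := d.mem_subV_iff.1 hx
  refine d.mem_subV_iff.2 ⟨(mem_normalizer_iff.1 hg x).1 h1, ?_⟩
  rw [show g * x * g⁻¹ * (g * x * g⁻¹) = g * (x * x) * g⁻¹ by group, h2, mul_one, mul_inv_cancel]

/-- An element whose centralizer contains a conjugate is carried with it. -/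
theorem exists_extremal_conj {x y g : G} (hg : g * x * g⁻¹ = y) (hy : ∀ s ∈ (d.S : Subgroup G), s * y = y * s)
    {B : Subgroup G} (hB : IsPGroup 2 ↥B) (hBx : ∀ b ∈ B, b * x = x * b) :
    ∃ k : G, k * x * k⁻¹ = y ∧ cI k B ≤ (d.S : Subgroup G) := by
  obtain ⟨h, hh, P, hP, -, hSP, hBP⟩ := align (centralizer ({y} : Set G)) (cI g B) (d.S : Subgroup G)
    (hB.map _) (by
      rintro _ ⟨b, hb, rfl⟩
      refine mem_centralizer_singleton_iff.2 ?_
      rw [← hg]
      show g * b * g⁻¹ * (g * x * g⁻¹) = g * x * g⁻¹ * (g * b * g⁻¹)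
      calc _ = g * (b * x) * g⁻¹ := by group
        _ = g * (x * b) * g⁻¹ := by rw [hBx b hb]
        _ = _ := by group) d.S.isPGroup'
    (fun s hs => mem_centralizer_singleton_iff.2 (hy s hs))
  rw [d.S.3 hP hSP] at hBP
  refine ⟨h * g, ?_, ?_⟩
  · rw [show h * g * x * (h * g)⁻¹ = h * (g * x * g⁻¹) * h⁻¹ by group, hg,
      mem_centralizer_singleton_iff.1 hh, mul_inv_cancel_right]
  · rintro _ ⟨b, hb, rfl⟩
    have := hBP (mem_cI (g := h) (mem_cI (g := g) hb))
    simpa [mul_assoc] using this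

end Setting

end Cfsg.Agent.Spor.HSType
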