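import Cfsg.Agent.Lib.Spor.HSType.Shape
import Cfsg.Agent.Lib.Grp.HSCent.MFaith
import Cfsg.Agent.Lib.Spor.Cos.HSOut.Iso

/-!
# The Sylow 2-subgroup of the Higman-Sims group has the shape
-/

set_option autoImplicit false
set_option maxRecDepth 100000
set_option maxHeartbeats 4000000

open Cfsg.Agent.Spor.Cos Cfsg.Agent.Spor.Cos.Triple Cfsg.Agent.Grp.HSCent

namespace Cfsg.Agent.Spor.HSType

/-- The third letter of the conjugating element. -/
def bI : List ℕ := [0, 0, 1, 2, 0, 1, 2, 0, 1, 2, 0, 1, 2, 0, 1, 2]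

/-- The word of the element of order seven. -/
def fW : List ℕ := [0] ++ bI.reverse

/-- The words of the three generators of the homocyclic group. -/
def kW : ℕ → List ℕ
  | 0 => [0, 3]
  | 1 => fW.reverse ++ [0, 3] ++ fW
  | _ => fW.reverse ++ (fW.reverse ++ [0, 3] ++ fW) ++ fW

/-- The word of `p`. -/
def pW : List ℕ := [0, 2]

/-- The word of a vector. -/
def kelW (x : Z3) : List ℕ :=
  (List.replicate x.1.val (kW 0)).flatten ++ (List.replicate x.2.1.val (kW 1)).flatten ++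
    (List.replicate x.2.2.val (kW 2)).flatten

/-- The word of an element of the dihedral part. -/
def dW (d : Fin 8) : List ℕ :=
  (List.replicate ((d : ℕ) % 4) pW).flatten ++ (List.replicate ((d : ℕ) / 4) [0]).flatten

theorem kel_ev (x : Z3) : kel (ev q0 (kW 0)) (ev q0 (kW 1)) (ev q0 (kW 2)) x = ev q0 (kelW x) := by
  simp only [kel, kelW, ev_append, ev_power]

theorem dEl_ev (d : Fin 8) : dEl (ev q0 pW) (ev q0 [0]) d = ev q0 (dW d) := by
  simp only [dEl, dW, ev_append, ev_power]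

/-- The relations, as equalities of words. -/
noncomputable def relsOk : Bool :=
  sameW actQ pts (kW 0 ++ kW 1) (kW 1 ++ kW 0) && sameW actQ pts (kW 0 ++ kW 2) (kW 2 ++ kW 0) &&
  sameW actQ pts (kW 1 ++ kW 2) (kW 2 ++ kW 1) &&
  (List.range 3).all (fun i => sameW actQ pts (List.replicate 4 (kW i)).flatten []) &&
  sameW actQ pts (List.replicate 4 pW).flatten [] &&
  sameW actQ pts ([0] ++ pW) (pW.reverse ++ [0]) &&
  sameW actQ pts (pW ++ kW 0) (kelW Pm.1 ++ pW) && sameW actQ pts (pW ++ kW 1) (kelW Pm.2.1 ++ pW) &&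
  sameW actQ pts (pW ++ kW 2) (kelW Pm.2.2 ++ pW) &&
  sameW actQ pts ([0] ++ kW 0) (kelW Am.1 ++ [0]) && sameW actQ pts ([0] ++ kW 1) (kelW Am.2.1 ++ [0]) &&
  sameW actQ pts ([0] ++ kW 2) (kelW Am.2.2 ++ [0])

theorem rels_ok : relsOk = true := by decide +kernel

theorem gens : Gens (ev q0 (kW 0)) (ev q0 (kW 1)) (ev q0 (kW 2)) (ev q0 pW) (ev q0 [0]) := by
  have h := rels_ok
  simp only [relsOk, Bool.and_eq_true, List.all_eq_true, List.mem_range] at h
  obtain ⟨⟨⟨⟨⟨⟨⟨⟨⟨⟨⟨c01, c02⟩, c12⟩, hk⟩, hp⟩, hqp⟩, hP0⟩, hP1⟩, hP2⟩, hA0⟩, hA1⟩, hA2⟩ := h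
  have comm : ∀ {v w : List ℕ}, sameW actQ pts (v ++ w) (w ++ v) = true → Commute (ev q0 v) (ev q0 w) :=
    fun {v w} h => by show ev q0 v * ev q0 w = ev q0 w * ev q0 v; rw [← ev_append, ← ev_append, eqQ h]
  have pow4 : ∀ {w : List ℕ}, sameW actQ pts (List.replicate 4 w).flatten [] = true → ev q0 w ^ 4 = 1 :=
    fun {w} h => by rw [← ev_power, eqQ h]; rfl
  have tri : Tri (ev q0 (kW 0)) (ev q0 (kW 1)) (ev q0 (kW 2)) :=
    ⟨comm c01, comm c02, comm c12, pow4 (hk 0 (by norm_num)), pow4 (hk 1 (by norm_num)), pow4 (hk 2 (by norm_num))⟩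
  have act : ∀ (g : List ℕ) (A : M3), sameW actQ pts (g ++ kW 0) (kelW A.1 ++ g) = true →
      sameW actQ pts (g ++ kW 1) (kelW A.2.1 ++ g) = true → sameW actQ pts (g ++ kW 2) (kelW A.2.2 ++ g) = true →
      ∀ x, ev q0 g * kel (ev q0 (kW 0)) (ev q0 (kW 1)) (ev q0 (kW 2)) x =
        kel (ev q0 (kW 0)) (ev q0 (kW 1)) (ev q0 (kW 2)) (vm x A) * ev q0 g := by
    intro g A h0 h1 h2 x
    have e : ∀ {k : List ℕ} {r : Z3}, sameW actQ pts (g ++ k) (kelW r ++ g) = true →
        (ev q0 g)⁻¹⁻¹ * ev q0 k * (ev q0 g)⁻¹ = kel (ev q0 (kW 0)) (ev q0 (kW 1)) (ev q0 (kW 2)) r :=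
      fun {k r} h => by rw [inv_inv, kel_ev, ← ev_append, eqQ h, ev_append, mul_inv_cancel_right]
    have := conj_kel tri (g := (ev q0 g)⁻¹) (A := A) (e h0) (e h1) (e h2) x
    rw [← this, inv_inv]
    group
  refine ⟨tri, pow4 hp, ?_, ?_, act pW Pm hP0 hP1 hP2, act [0] Am hA0 hA1 hA2⟩
  · simp only [ev, mul_one]; exact q0_sq 0
  · rw [← ev_append, eqQ hqp, ev_append, ev_rev q0_sq]

/-- Only the code 0 gives the identity. -/
noncomputable def kerOk (n : ℕ) : Bool :=
  if h : n < 512 then n == 0 || !agree actQ pts (kelW (toZ (vP ⟨n, h⟩)) ++ dW (dP ⟨n, h⟩)) [] else true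

theorem ker_ok : ∀ n < 512, kerOk n = true := by
  refine of_blocks (size := 64) (b := 8) (by decide) (by decide) fun j hj => ?_
  interval_cases j <;> decide +kernel

theorem val_eq_one (n : Fin 512)
    (h : val (ev q0 (kW 0)) (ev q0 (kW 1)) (ev q0 (kW 2)) (ev q0 pW) (ev q0 [0]) n = 1) : n = 0 := by
  rw [val, kel_ev, dEl_ev, ← ev_append] at h
  have hk := ker_ok n n.2
  rw [kerOk, dif_pos n.2, Fin.eta, Bool.or_eq_true, beq_iff_eq] at hk
  refine hk.elim (fun e => Fin.ext e) fun hne => ?_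
  have hlet : ∀ (v : Fin 64) (d : Fin 8), ((kelW (toZ v) ++ dW d).all fun s => Nat.blt s 4) = true := by decide +kernel
  have := agreeQ (v := kelW (toZ (vP n)) ++ dW (dP n)) (w := [])
    (fun s hs => Nat.le_of_ble_eq_true (List.all_eq_true.1 (hlet _ _) s hs)) (by simp) h
  simp [this] at hne

/-- A Sylow 2-subgroup of the Higman-Sims group has the shape. -/
theorem exists_shape_HS : ∃ P : Sylow 2 ↥Cfsg.Spor.HS, Nonempty (Shape (P : Subgroup ↥Cfsg.Spor.HS)) := by
  have : Fact (Nat.Prime 2) := ⟨Nat.prime_two⟩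
  have hfinH : Finite HS := Nat.finite_of_card_ne_zero (by rw [HSOut.card_H]; norm_num)
  set f := fun n => val (ev q0 (kW 0)) (ev q0 (kW 1)) (ev q0 (kW 2)) (ev q0 pW) (ev q0 [0]) n
  have h0 : f 0 = 1 := by
    have h' := gens.val_mul 0 0
    rw [(inv_spec 0).2.2.1] at h'
    exact mul_eq_left.1 h'
  let S0 : Subgroup HS :=
    { carrier := Set.range f
      one_mem' := ⟨0, h0⟩
      mul_mem' := by rintro _ _ ⟨n, rfl⟩ ⟨m, rfl⟩; exact ⟨mulS n m, (gens.val_mul n m).symm⟩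
      inv_mem' := by
        rintro _ ⟨n, rfl⟩
        exact ⟨invS n, (inv_eq_of_mul_eq_one_right (by rw [gens.val_mul, (inv_spec n).1]; exact h0)).symm⟩ }
  have hinj : Function.Injective f := fun n m e => by
    have h1 : mulS n (invS m) = 0 := val_eq_one _ (by
      rw [← gens.val_mul]
      show f n * f (invS m) = 1
      rw [e]
      show f m * f (invS m) = 1
      rw [gens.val_mul, (inv_spec m).1]; exact h0)
    by_contra hne
    have hd : ∀ v w : Fin 64, ∀ d e : Fin 8, addV v (actC d (actC (invD e) (negV w))) = vP 0 →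
        mulD d (invD e) = dP 0 → v = w ∧ d = e := by
      decide +kernel
    have hv := congrArg vP h1
    have hd' := congrArg dP h1
    simp only [mulS, invS, vP_mkC, dP_mkC] at hv hd'
    obtain ⟨ev', ed⟩ := hd _ _ _ _ hv hd'
    exact hne (by rw [← mkC_parts n, ← mkC_parts m, ev', ed])
  have hS0 : Nat.card ↥S0 = 512 := by
    show Nat.card ↥(Set.range f) = 512
    rw [← Nat.card_congr (Equiv.ofInjective f hinj), Nat.card_eq_fintype_card, Fintype.card_fin]
  have hp : IsPGroup 2 ↥S0 := IsPGroup.of_card (n := 9) (by rw [hS0]; norm_num)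
  obtain ⟨Q, hQ⟩ := hp.exists_le_sylow
  have hQ0 : S0 = (Q : Subgroup HS) := by
    refine Subgroup.eq_of_le_of_card_ge hQ ?_
    rw [Q.card_eq_multiplicity, HSOut.card_H, HSOut.fact_two, hS0]
    norm_num
  let s0 : Shape S0 := { φ := f, mem := fun n => ⟨n, rfl⟩, inj := hinj, surj := fun _ hg => hg, mul := gens.val_mul }
  let e := HSOut.equivHS.symm
  let P : Sylow 2 ↥Cfsg.Spor.HS := Q.mapSurjective (f := e.toMonoidHom) e.surjective
  refine ⟨P, ⟨((s0.ofEquiv (MulEquiv.subgroupCongr hQ0)).map e.toMonoidHom fun x _ hx => e.injective (by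
    simpa using hx)).ofEquiv (MulEquiv.subgroupCongr (Sylow.coe_mapSurjective _ _).symm)⟩⟩

end Cfsg.Agent.Spor.HSType
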