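import Cfsg.Agent.Lib.Spor.HSType.Plane
import Cfsg.Agent.Lib.Spor.HSType.Linear

/-!
# The normaliser of the homocyclic subgroup induces the whole linear group on the elementary one
-/

set_option autoImplicit false
set_option linter.unusedSectionVars false
set_option maxRecDepth 100000
set_option maxHeartbeats 4000000

namespace Cfsg.Agent.Spor.HSType

open Subgroup

universe u

theorem lin_id : ∀ i : Fin 8, app idL i = i := by decide +kernel

theorem xo_facts : (∀ i : Fin 8, xo i i = 0 ∧ xo 0 i = i) ∧ xo 3 6 = 5 ∧ xo 5 6 = 3 ∧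
    ∀ i : Fin 8, i = 0 ∨ i = 6 ∨ i ∈ ([3, 5] : List (Fin 8)) ∨ i ∈ ([1, 2, 4, 7] : List (Fin 8)) := by
  decide +kernel

theorem inP_vcode : ∀ i : Fin 8, inP (vcode i) = true → i = 0 ∨ i = 6 ∨ i = 3 ∨ i = 5 := by decide +kernel

theorem inP_not : ∀ i : Fin 8, inP (vcode i) = false → i ∈ ([1, 2, 4, 7] : List (Fin 8)) := by decide +kernel

variable {G : Type u} [Group G] [Finite G]

namespace Setting

variable (d : Setting G)

/-- The point of the elementary subgroup with a given label. -/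
def vpt (i : Fin 8) : G := d.s.φ (vcode i)

theorem vpt_inj : Function.Injective d.vpt := d.s.inj.comp vcode_inj

theorem vpt_mem (i : Fin 8) : d.vpt i ∈ d.subV := d.s.mem_sub.2 ((vcode_inV _).2 ⟨i, rfl⟩)

theorem vpt_mul (i j : Fin 8) : d.vpt (xo i j) = d.vpt i * d.vpt j := by
  rw [vpt, xo_code, ← d.s.mul]; rfl

theorem vpt_zero : d.vpt 0 = 1 := by rw [vpt, point_codes.1, d.s.one]

theorem vpt_six : d.vpt 6 = d.z := by rw [vpt, point_codes.2.1]; rfl

/-- A linear map realised in the normaliser. -/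
def Real (t : LMap) : Prop :=
  ∃ n ∈ normalizer (d.subK : Set G), ∀ i, n * d.vpt i * n⁻¹ = d.vpt (app t i)

theorem real_dMap (e : Fin 8) : d.Real (dMap e) :=
  ⟨d.s.φ (mkC 0 e), d.S_le_normalizer_subK (d.s.mem _), fun i => by rw [vpt, d.s.conj, dMap_conj]; rfl⟩

theorem real_comp {f g : LMap} (hf : d.Real f) (hg : d.Real g) : d.Real (cmp f g) := by
  obtain ⟨n, hn, hf⟩ := hf
  obtain ⟨m, hm, hg⟩ := hg
  refine ⟨n * m, mul_mem hn hm, fun i => ?_⟩
  have hlin : ∀ i j : Fin 8, app f (xo i j) = xo (app f i) (app f j) := fun i j => d.vpt_inj (by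
    rw [← hf, d.vpt_mul, d.vpt_mul, ← hf, ← hf]; group)
  rw [show n * m * d.vpt i * (n * m)⁻¹ = n * (m * d.vpt i * m⁻¹) * n⁻¹ by group, hg, hf]
  congr 1
  have h0 : app f 0 = 0 := by
    obtain ⟨a, b, c⟩ := f
    simp [app, xo]
  show app f (xo (xo (if (i : ℕ) % 2 = 1 then g.1 else 0) (if (i : ℕ) / 2 % 2 = 1 then g.2.1 else 0))
    (if (i : ℕ) / 4 = 1 then g.2.2 else 0)) = _
  rw [hlin, hlin, apply_ite (app f), apply_ite (app f), apply_ite (app f), h0]
  rfl

/-- An element of the normaliser acts linearly. -/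
theorem exists_map {n : G} (hn : n ∈ normalizer (d.subK : Set G)) :
    ∃ t : LMap, ∀ i, n * d.vpt i * n⁻¹ = d.vpt (app t i) := by
  have h : ∀ i, ∃ j, d.vpt j = n * d.vpt i * n⁻¹ := fun i => by
    obtain ⟨m, hm, e⟩ := (mem_normalizer_iff.1 (d.normalizer_subK_le hn) _).1 (d.vpt_mem i)
    obtain ⟨j, rfl⟩ := (vcode_inV m).1 hm
    exact ⟨j, e⟩
  choose f hf using h
  refine ⟨(f 1, f 2, f 4), fun i => ?_⟩
  have hlin : ∀ i j : Fin 8, f (xo i j) = xo (f i) (f j) := fun i j => d.vpt_inj (by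
    rw [hf, d.vpt_mul, d.vpt_mul, hf, hf]; group)
  have h0 : f 0 = 0 := d.vpt_inj (by rw [hf, d.vpt_zero]; group)
  rw [← hf]
  congr 1
  conv_lhs => rw [← (app_split i).2]
  simp only [app, hlin, apply_ite f, h0]

theorem real_pow {t : LMap} {n : G} (hn : ∀ i, n * d.vpt i * n⁻¹ = d.vpt (app t i)) :
    ∀ (k : ℕ) (i : Fin 8), n ^ k * d.vpt i * (n ^ k)⁻¹ = d.vpt ((app t)^[k] i)
  | 0, i => by simp
  | k + 1, i => by
    rw [pow_succ', Function.iterate_succ_apply', ← hn, ← real_pow hn k]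
    group

/-- All nontrivial points are joined by the normaliser. -/
theorem real_transitive {i : Fin 8} (hi : i ≠ 0) :
    ∃ n ∈ normalizer (d.subK : Set G), n * d.z * n⁻¹ = d.vpt i := by
  let N := normalizer (d.subK : Set G)
  let J : Fin 8 → Fin 8 → Prop := fun i j => ∃ n ∈ N, n * d.vpt i * n⁻¹ = d.vpt j
  have jt : ∀ {a b c : Fin 8}, J a b → J b c → J a c := by
    rintro a b c ⟨n, hn, e1⟩ ⟨m, hm, e2⟩
    exact ⟨m * n, mul_mem hm hn, by rw [← e2, ← e1]; group⟩
  have js : ∀ {a b : Fin 8}, J a b → J b a := by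
    rintro a b ⟨n, hn, e⟩
    exact ⟨n⁻¹, inv_mem hn, by rw [← e]; group⟩
  have jd : ∀ (e a : Fin 8), J a (app (dMap e) a) := fun e a => by
    obtain ⟨n, hn, h⟩ := d.real_dMap e
    exact ⟨n, hn, h a⟩
  have j4 : ∀ a : Fin 8, a ∈ ([1, 2, 4, 7] : List (Fin 8)) → J 1 a := fun a ha => by
    obtain ⟨e, rfl⟩ := d_orbits.1 a ha
    exact jd e 1
  have j2 : ∀ a : Fin 8, a ∈ ([3, 5] : List (Fin 8)) → J 3 a := fun a ha => by
    obtain ⟨e, rfl⟩ := d_orbits.2 a ha
    exact jd e 3
  suffices J 6 1 ∧ J 6 3 by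
    obtain ⟨n, hn, e⟩ := (show J 6 i from by
      rcases xo_facts.2.2.2 i with h | h | h | h
      · exact absurd h hi
      · exact h ▸ ⟨1, one_mem _, by simp⟩
      · exact jt this.2 (j2 i h)
      · exact jt this.1 (j4 i h))
    exact ⟨n, hn, by rw [← d.vpt_six]; exact e⟩
  obtain ⟨n, hn, hnz⟩ := d.moves_z
  obtain ⟨t, ht⟩ := d.exists_map hn
  have hne0 : ∀ a, a ≠ 0 → app t a ≠ 0 := fun a ha e => ha (d.vpt_inj (by
    have := ht a
    rw [e, d.vpt_zero] at this
    rw [d.vpt_zero]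
    exact conj_eq_one_iff.1 this))
  have h66 : app t 6 ≠ 6 := fun e => hnz (by rw [← d.vpt_six, ht, e])
  obtain ⟨m, hm, p, q, hp, hq, hpq⟩ := d.moves_plane
  rcases xo_facts.2.2.2 (app t 6) with h | h | h | h
  · exact absurd h (hne0 6 (by decide))
  · exact absurd h h66
  · -- the centre goes into the small orbit: use the element moving the plane
    have h63 : J 6 3 := jt ⟨n, hn, ht 6⟩ (js (j2 _ h))
    obtain ⟨a, rfl⟩ := (vcode_inV p).1 (inP_inV p hp)
    obtain ⟨t', ht'⟩ := d.exists_map hm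
    have hq' : q = vcode (app t' a) := d.s.inj (hpq.symm.trans (ht' a))
    subst hq'
    have hb := inP_not _ hq
    have hab : J a (app t' a) := ⟨m, hm, ht' a⟩
    refine ⟨?_, h63⟩
    rcases inP_vcode a hp with rfl | rfl | rfl | rfl
    · exfalso
      have := ht' 0
      rw [d.vpt_zero, mul_one, mul_inv_cancel, ← d.vpt_zero] at this
      rw [← d.vpt_inj this] at hb
      exact absurd hb (by decide)
    · exact jt hab (js (j4 _ hb))
    · exact jt h63 (jt hab (js (j4 _ hb)))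
    · exact jt h63 (jt (j2 5 (by decide)) (jt hab (js (j4 _ hb))))
  · -- the centre goes into the large orbit
    have h61 : J 6 1 := jt ⟨n, hn, ht 6⟩ (js (j4 _ h))
    refine ⟨h61, ?_⟩
    obtain ⟨a, b, c⟩ := t
    have key : ∀ p : Fin 8, p ∈ ([3, 5] : List (Fin 8)) → app (a, b, c) p ∈ ([1, 2, 4, 6, 7] : List (Fin 8)) →
        J 6 3 := fun p hp hq => by
      have h3 : J 3 (app (a, b, c) p) := jt (j2 p hp) ⟨n, hn, ht p⟩
      by_cases e : app (a, b, c) p = 6
      · exact js (e ▸ h3)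
      · refine jt h61 (jt (j4 _ ?_) (js h3))
        revert e hq
        generalize app (a, b, c) p = r
        revert r
        decide
    rcases orbit_step a b c h hne0 with h' | h'
    · exact key 3 (by decide) h'
    · exact key 5 (by decide) h'

end Setting

end Cfsg.Agent.Spor.HSType
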