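import Cfsg.Agent.Lib.Transfer.NoEight.Xfer

/-!
# Transfer of an element of order dividing four whose other conjugates have small centralizers
-/

set_option autoImplicit false
set_option linter.unusedSectionVars false

namespace Cfsg.Agent.Spor.HSType

open Subgroup

universe u

variable {G : Type u} [Group G] [Finite G]

/-- Moving a representative of a coset. -/
theorem out_smul (S : Subgroup G) (r : G) (q : G ⧸ S) : ∃ t ∈ S, (r • q).out = r * q.out * t := by
  have h1 : (QuotientGroup.mk (r • q).out : G ⧸ S) = QuotientGroup.mk (r * q.out) := by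
    rw [QuotientGroup.out_eq', ← smul_eq_mul, ← MulAction.Quotient.smul_mk, QuotientGroup.out_eq']
  exact ⟨_, QuotientGroup.eq.1 h1.symm, (mul_inv_cancel_left _ _).symm⟩

/-- A 2-group whose stabilisers are all small splits a set into orbits of length divisible by `2 ^ k`. -/
theorem dvd_card_of_small {P : Subgroup G} (hP : IsPGroup 2 ↥P) {X : Type*} [Finite X] [MulAction ↥P X] (k : ℕ)
    (h : ∀ x : X, 2 ^ k * Nat.card ↥(MulAction.stabilizer ↥P x) ≤ Nat.card ↥P) : 2 ^ k ∣ Nat.card X := by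
  classical
  haveI : Fact (Nat.Prime 2) := ⟨Nat.prime_two⟩
  haveI : Fintype (Quotient (MulAction.orbitRel ↥P X)) := Fintype.ofFinite _
  rw [Nat.card_congr (MulAction.selfEquivSigmaOrbits ↥P X), Nat.card_sigma]
  refine Finset.dvd_sum fun ω _ => ?_
  obtain ⟨m, hm⟩ := (hP.index (MulAction.stabilizer ↥P ω.out))
  have h1 : Nat.card (MulAction.orbit ↥P ω.out) = (MulAction.stabilizer ↥P ω.out).index := by
    rw [MulAction.index_stabilizer, Nat.card_coe_set_eq]
  rw [h1, hm]
  refine pow_dvd_pow 2 ?_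
  have h2 := (MulAction.stabilizer ↥P ω.out).card_mul_index
  rw [hm] at h2
  have h3 := h ω.out
  rw [← h2, mul_comm (2 ^ k)] at h3
  exact (Nat.pow_le_pow_iff_right (by norm_num)).1 (Nat.le_of_mul_le_mul_left h3 Nat.card_pos)

/-- The transfer at `y` into the index two subgroup `M` of a Sylow subgroup. -/
theorem exists_index_two_of_parity (T : Sylow 2 G) (M : Subgroup G) (hMT : M ≤ (T : Subgroup G))
    (hM : M.relIndex (T : Subgroup G) = 2) {y : G} (hy : y ∈ (T : Subgroup G)) (hyM : y ∉ M)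
    (hy4 : y ^ 4 = 1)
    (P : Subgroup G) (hP : IsPGroup 2 ↥P) (hPy : P ≤ centralizer ({y} : Set G))
    (h1 : ∀ g : G, g * y * g⁻¹ ∈ M →
      2 * Nat.card ↥((T : Subgroup G) ⊓ centralizer ({g * y * g⁻¹} : Set G)) ≤ Nat.card ↥P)
    (P' : Subgroup G) (hP' : IsPGroup 2 ↥P') (hP'y : P' ≤ centralizer ({y ^ 2} : Set G))
    (h2 : ∀ g : G, g * y ^ 2 * g⁻¹ ∈ (T : Subgroup G) → g * y ^ 2 * g⁻¹ ∉ M →
      4 * Nat.card ↥((T : Subgroup G) ⊓ centralizer ({g * y ^ 2 * g⁻¹} : Set G)) ≤ Nat.card ↥P') :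
    ∃ H : Subgroup G, H.Normal ∧ H.index = 2 := by
  classical
  haveI : Fact (Nat.Prime 2) := ⟨Nat.prime_two⟩
  set S := (T : Subgroup G) with hS
  set M' := M.subgroupOf S with hM'
  have hidx : M'.index = 2 := hM
  haveI hMn : M'.Normal := Subgroup.normal_of_index_eq_two hidx
  let ψ : S →* S ⧸ M' := QuotientGroup.mk' M'
  have hψ : ∀ a : S, ψ a = 1 ↔ (a : G) ∈ M := fun a => by
    rw [QuotientGroup.mk'_apply, QuotientGroup.eq_one_iff]; rfl
  have hQ2 : Nat.card (S ⧸ M') = 2 := hidx
  haveI := isCyclic_of_prime_card hQ2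
  letI : CommGroup (S ⧸ M') := IsCyclic.commGroup
  have htwo : ∀ a : S ⧸ M', a ^ 2 = 1 := fun a => by rw [← hQ2]; exact pow_card_eq_one'
  have hsqM : ∀ b ∈ S, b * b ∈ M := fun b hb => by
    have := htwo (ψ ⟨b, hb⟩)
    rw [pow_two, ← map_mul, hψ] at this
    exact this
  have hsame : ∀ t ∈ S, ∀ b ∈ S, (t⁻¹ * b * t ∈ M ↔ b ∈ M) := fun t ht b hb => by
    rw [← hψ ⟨b, hb⟩, ← hψ ⟨t⁻¹ * b * t, mul_mem (mul_mem (inv_mem ht) hb) ht⟩,
      show (⟨t⁻¹ * b * t, mul_mem (mul_mem (inv_mem ht) hb) ht⟩ : S) = ⟨t, ht⟩⁻¹ * ⟨b, hb⟩ * ⟨t, ht⟩ from rfl,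
      map_mul, map_mul, map_inv, inv_mul_cancel_comm]
  let V : G →* S ⧸ M' := MonoidHom.transfer ψ
  let _ := Fintype.ofFinite (Quotient (MulAction.orbitRel (zpowers y) (G ⧸ S)))
  let _ := Fintype.ofFinite (G ⧸ S)
  let per : G ⧸ S → ℕ := fun q => Function.minimalPeriod (y • ·) q
  have hlen : ∀ q : G ⧸ S, per q = 1 ∨ per q = 2 ∨ per q = 4 := by
    intro q
    have h : per q ∣ 2 ^ 2 := by
      refine Function.IsPeriodicPt.minimalPeriod_dvd ?_
      show (y • ·)^[2 ^ 2] q = q
      rw [smul_iterate]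
      show y ^ 4 • q = q
      rw [hy4, one_smul]
    obtain ⟨j, hj, hj'⟩ := (Nat.dvd_prime_pow Nat.prime_two).mp h
    interval_cases j <;> simp [hj']
  have hfix : ∀ (z : G) (q : G ⧸ S), z • q = q ↔ q.out⁻¹ * z * q.out ∈ S := fun z q => by
    conv_lhs => rw [← QuotientGroup.out_eq' q, MulAction.Quotient.smul_mk, smul_eq_mul]
    rw [eq_comm, QuotientGroup.eq, ← mul_assoc]
  -- the sets counted
  let A : G ⧸ S → Prop := fun q => y • q = q ∧ q.out⁻¹ * y * q.out ∉ M
  let B : G ⧸ S → Prop := fun q => y ^ 2 • q = q ∧ q.out⁻¹ * y ^ 2 * q.out ∉ M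
  have hdis : ∀ q, B q → y • q ≠ q := fun q hq e => by
    refine hq.2 ?_
    have := hsqM _ ((hfix y q).1 e)
    rw [show q.out⁻¹ * y * q.out * (q.out⁻¹ * y * q.out) = q.out⁻¹ * y ^ 2 * q.out by rw [pow_two]; group] at this
    exact this
  -- stabilisers
  have hinv : ∀ (z : G) (X : G → Prop) (_ : ∀ t ∈ S, ∀ b ∈ S, (X (t⁻¹ * b * t) ↔ X b)) (r : G) (q : G ⧸ S),
      r * z = z * r → z • q = q → X (q.out⁻¹ * z * q.out) →
        z • (r • q) = r • q ∧ X ((r • q).out⁻¹ * z * (r • q).out) := by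
    intro z X hX r q hrz hzq hX'
    refine ⟨by rw [smul_smul, ← hrz, ← smul_smul, hzq], ?_⟩
    obtain ⟨t, ht, hte⟩ := out_smul S r q
    have h3 : r⁻¹ * z * r = z := by rw [mul_assoc, ← hrz, inv_mul_cancel_left]
    have e : (r • q).out⁻¹ * z * (r • q).out = t⁻¹ * (q.out⁻¹ * z * q.out) * t := by
      calc _ = t⁻¹ * (q.out⁻¹ * (r⁻¹ * z * r) * q.out) * t := by rw [hte]; group
        _ = _ := by rw [h3]
    rw [e]
    exact (hX t ht _ ((hfix z q).1 hzq)).2 hX'
  have hstab : ∀ {P : Subgroup G} {z : G} (_ : P ≤ centralizer ({z} : Set G)) (q : G ⧸ S) {H : Subgroup ↥P},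
      (∀ r : ↥P, r ∈ H → (r : G) • q = q) → z • q = q →
      Nat.card ↥H ≤ Nat.card ↥(S ⊓ centralizer ({q.out⁻¹ * z * q.out} : Set G)) := by
    intro P z hPz q H hH hzq
    have hmem : ∀ r : ↥H, q.out⁻¹ * ((r : ↥P) : G) * q.out ∈ S ⊓ centralizer ({q.out⁻¹ * z * q.out} : Set G) :=
      fun r => ⟨(hfix _ q).1 (hH r r.2), mem_centralizer_singleton_iff.2 (by
        have := mem_centralizer_singleton_iff.1 (hPz (r : ↥P).2)
        calc q.out⁻¹ * ((r : ↥P) : G) * q.out * (q.out⁻¹ * z * q.out) = q.out⁻¹ * (((r : ↥P) : G) * z) * q.out := by group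
          _ = q.out⁻¹ * (z * ((r : ↥P) : G)) * q.out := by rw [this]
          _ = _ := by group)⟩
    exact Nat.card_le_card_of_injective (fun r : ↥H => (⟨_, hmem r⟩ : ↥(S ⊓ _))) fun r r' e =>
      Subtype.ext (Subtype.ext (mul_left_cancel (mul_right_cancel (congrArg Subtype.val e))))
  -- the fixed cosets
  have hfixz : ∀ q : G ⧸ S, y • q = q → ∀ r ∈ zpowers y, r • q = q := fun q hq r hr => by
    have h : zpowers y ≤ MulAction.stabilizer G q := zpowers_le.2 hq
    exact h hr
  have hodd : Odd (Nat.card {q : G ⧸ S // y • q = q}) := by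
    have hR : IsPGroup 2 (zpowers y) := T.isPGroup'.to_le (zpowers_le.2 hy)
    have h := Invol.card_invariant_modEq hR (fun _ : G ⧸ S => True) (fun _ _ _ _ => trivial)
    rw [Nat.card_congr (Equiv.subtypeUnivEquiv (fun _ => trivial)), ← Subgroup.index_eq_card] at h
    have e : Nat.card {q : G ⧸ S // True ∧ ∀ r ∈ zpowers y, r • q = q} = Nat.card {q : G ⧸ S // y • q = q} :=
      Nat.card_congr (Equiv.subtypeEquivRight fun q =>
        ⟨fun h => h.2 y (mem_zpowers y), fun h => ⟨trivial, hfixz q h⟩⟩)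
    rw [e] at h
    have hi : S.index % 2 = 1 := by
      have := T.not_dvd_index
      rw [← hS] at this
      omega
    rw [Nat.odd_iff]
    simp only [Nat.ModEq] at h
    omega
  have hAodd : Odd (Nat.card {q : G ⧸ S // A q}) := by
    have hsplit : Nat.card {q : G ⧸ S // y • q = q ∧ q.out⁻¹ * y * q.out ∈ M} + Nat.card {q : G ⧸ S // A q}
        = Nat.card {q : G ⧸ S // y • q = q} := by
      simp only [A, Nat.card_eq_fintype_card, Fintype.card_subtype]
      rw [← Finset.card_union_of_disjoint]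
      · congr 1
        ext q
        simp only [Finset.mem_union, Finset.mem_filter, Finset.mem_univ, true_and]
        tauto
      · rw [Finset.disjoint_filter]
        tauto
    suffices hev : 2 ∣ Nat.card {q : G ⧸ S // y • q = q ∧ q.out⁻¹ * y * q.out ∈ M} by
      rw [Nat.odd_iff] at hodd ⊢
      omega
    refine (pow_one 2).symm ▸ ?_
    letI : MulAction ↥P {q : G ⧸ S // y • q = q ∧ q.out⁻¹ * y * q.out ∈ M} :=
      { smul := fun r q => ⟨(r : G) • q.1, hinv y (· ∈ M) hsame r q.1
          (mem_centralizer_singleton_iff.1 (hPy r.2)) q.2.1 q.2.2⟩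
        one_smul := fun q => Subtype.ext (one_smul G q.1)
        mul_smul := fun r r' q => Subtype.ext (mul_smul (r : G) (r' : G) q.1) }
    refine dvd_card_of_small hP 1 fun q => ?_
    have hb := h1 q.1.out⁻¹ (by rw [inv_inv]; exact q.2.2)
    rw [inv_inv] at hb
    refine le_trans (Nat.mul_le_mul_left _ ?_) (by rw [pow_one]; exact hb)
    exact hstab hPy q.1 (fun r hr => congrArg Subtype.val hr) q.2.1
  have hB4 : 4 ∣ Nat.card {q : G ⧸ S // B q} := by
    letI : MulAction ↥P' {q : G ⧸ S // B q} :=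
      { smul := fun r q => ⟨(r : G) • q.1, hinv (y ^ 2) (· ∉ M) (fun t ht b hb => not_congr (hsame t ht b hb)) r q.1
          (mem_centralizer_singleton_iff.1 (hP'y r.2)) q.2.1 q.2.2⟩
        one_smul := fun q => Subtype.ext (one_smul G q.1)
        mul_smul := fun r r' q => Subtype.ext (mul_smul (r : G) (r' : G) q.1) }
    refine (show (2 : ℕ) ^ 2 = 4 by norm_num) ▸ dvd_card_of_small hP' 2 fun q => ?_
    have hb := h2 q.1.out⁻¹ (by rw [inv_inv]; exact (hfix _ q.1).1 q.2.1) (by rw [inv_inv]; exact q.2.2)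
    rw [inv_inv] at hb
    refine le_trans (Nat.mul_le_mul_left _ ?_) hb
    exact hstab hP'y q.1 (fun r hr => congrArg Subtype.val hr) q.2.1
  -- the orbits with nontrivial value
  have hval : ∀ (q : G ⧸ S) (hm : q.out⁻¹ * y ^ per q * q.out ∈ S),
      (ψ ⟨_, hm⟩ ≠ 1 ↔ (per q = 1 ∧ A q) ∨ (per q = 2 ∧ B q)) := by
    intro q hm
    rw [Ne, hψ]
    show q.out⁻¹ * y ^ per q * q.out ∉ M ↔ _
    rcases hlen q with e | e | e
    · have hq : y • q = q := Function.minimalPeriod_eq_one_iff_isFixedPt.1 e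
      rw [e, pow_one]
      simp [A, hq]
    · have hq : y ^ 2 • q = q := by
        have := Function.iterate_minimalPeriod (f := (y • · : G ⧸ S → G ⧸ S)) (x := q)
        rwa [show Function.minimalPeriod (y • ·) q = 2 from e, smul_iterate] at this
      rw [e]
      simp [B, hq]
    · rw [e, hy4]
      simp [one_mem]
  obtain ⟨a, ha⟩ : ∃ a : S ⧸ M', a ≠ 1 := by
    haveI : Nontrivial (S ⧸ M') := Finite.one_lt_card_iff_nontrivial.mp (by rw [hQ2]; norm_num)
    exact exists_ne 1
  have ha2 : orderOf a = 2 := orderOf_eq_prime (htwo a) ha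
  have hone : ∀ b : S ⧸ M', b ≠ 1 → b = a := fun b hb => by
    obtain ⟨u, v, huv, hu⟩ := Nat.card_eq_two_iff.mp hQ2
    have hmem : ∀ c : S ⧸ M', c = u ∨ c = v := fun c => by simpa using hu.ge (Set.mem_univ c)
    rcases hmem a with rfl | rfl <;> rcases hmem b with rfl | rfl <;> rcases hmem 1 with h | h <;>
      first | rfl | exact absurd h.symm ha | exact absurd h.symm hb
  let O := Quotient (MulAction.orbitRel (zpowers y) (G ⧸ S))
  have hprod : V y = a ^ ((Finset.univ.filter fun w : O => per w.out = 1 ∧ A w.out).card +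
      (Finset.univ.filter fun w : O => per w.out = 2 ∧ B w.out).card) := by
    rw [← Finset.card_union_of_disjoint (by rw [Finset.disjoint_filter]; intro w _ h h'; omega), ← Finset.filter_or]
    show MonoidHom.transfer ψ y = _
    rw [MonoidHom.transfer_eq_prod_quotient_orbitRel_zpowers_quot, ← Finset.prod_const, Finset.prod_filter]
    refine Finset.prod_congr rfl fun w _ => ?_
    split_ifs with h
    · exact hone _ ((hval _ _).mpr h)
    · exact not_not.1 (mt (hval _ _).mp h)
  have horb : ∀ b : G ⧸ S, ∃ i : ℕ, (Quotient.mk (MulAction.orbitRel (zpowers y) (G ⧸ S)) b).out = y ^ i • b := by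
    intro b
    obtain ⟨⟨r, hr⟩, hrb⟩ := @Quotient.mk_out _ (MulAction.orbitRel (zpowers y) (G ⧸ S)) b
    obtain ⟨i, rfl⟩ := (isOfFinOrder_of_finite y).mem_powers_iff_mem_zpowers.2 hr
    exact ⟨i, hrb.symm⟩
  have hcA : (Finset.univ.filter fun w : O => per w.out = 1 ∧ A w.out).card = Nat.card {q : G ⧸ S // A q} := by
    rw [Nat.card_eq_fintype_card, Fintype.card_subtype]
    refine Finset.card_bij (fun w _ => w.out) (fun w hw => ?_) (fun w _ w' _ e => Quotient.out_injective e) fun b hb => ?_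
    · simp only [Finset.mem_filter, Finset.mem_univ, true_and] at hw ⊢
      exact hw.2
    · simp only [Finset.mem_filter, Finset.mem_univ, true_and] at hb
      obtain ⟨i, hi⟩ := horb b
      have hout : (Quotient.mk (MulAction.orbitRel (zpowers y) (G ⧸ S)) b).out = b :=
        hi.trans (hfixz b hb.1 _ (pow_mem (mem_zpowers y) i))
      refine ⟨Quotient.mk _ b, ?_, hout⟩
      simp only [Finset.mem_filter, Finset.mem_univ, true_and, hout]
      exact ⟨Function.minimalPeriod_eq_one_iff_isFixedPt.2 hb.1, hb⟩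
  have hBy : ∀ q, B q → B (y • q) := fun q hq =>
    hinv (y ^ 2) (· ∉ M) (fun t ht b hb => not_congr (hsame t ht b hb)) y q
      (Commute.self_pow y 2).eq hq.1 hq.2
  have hyy : ∀ q, B q → y • y • q = q := fun q hq => by rw [smul_smul, ← pow_two]; exact hq.1
  have hBi : ∀ (i : ℕ) q, B q → B (y ^ i • q) ∧ (y ^ i • q = q ∨ y ^ i • q = y • q) := by
    intro i q hq
    induction i with
    | zero => simp [hq]
    | succ i ih =>
      rw [pow_succ', mul_smul]
      exact ⟨hBy _ ih.1, ih.2.elim (fun e => Or.inr (by rw [e])) fun e => Or.inl (by rw [e, hyy q hq])⟩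
  have hcB : 2 * (Finset.univ.filter fun w : O => per w.out = 2 ∧ B w.out).card = Nat.card {q : G ⧸ S // B q} := by
    rw [Nat.card_eq_fintype_card, Fintype.card_subtype]
    refine (show ((Finset.univ : Finset Bool) ×ˢ (Finset.univ.filter fun w : O => per w.out = 2 ∧ B w.out)).card = _
      by rw [Finset.card_product, Finset.card_univ, Fintype.card_bool]).symm.trans ?_
    refine Finset.card_bij (fun p _ => if p.1 then y • p.2.out else p.2.out) (fun p hp => ?_) (fun p hp p' hp' e => ?_)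
      fun b hb => ?_
    · simp only [Finset.mem_product, Finset.mem_filter, Finset.mem_univ, true_and] at hp ⊢
      split_ifs
      · exact hBy _ hp.2
      · exact hp.2
    · simp only [Finset.mem_product, Finset.mem_filter, Finset.mem_univ, true_and] at hp hp'
      have hrel : ∀ q : G ⧸ S, Quotient.mk (MulAction.orbitRel (zpowers y) (G ⧸ S)) (y • q) = Quotient.mk _ q :=
        fun q => Quotient.sound ⟨⟨y, mem_zpowers y⟩, rfl⟩
      have h2e : p.2 = p'.2 := by
        have := congrArg (Quotient.mk (MulAction.orbitRel (zpowers y) (G ⧸ S))) e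
        revert this
        rcases p.1 <;> rcases p'.1 <;> simp [hrel]
      obtain ⟨u, w⟩ := p
      obtain ⟨u', w'⟩ := p'
      obtain rfl : w = w' := h2e
      refine Prod.ext ?_ rfl
      cases u <;> cases u' <;> simp only [Bool.false_eq_true, if_false, if_true] at e ⊢
      · exact absurd e.symm (hdis _ hp.2)
      · exact absurd e (hdis _ hp.2)
    · simp only [Finset.mem_filter, Finset.mem_univ, true_and] at hb
      obtain ⟨i, hi⟩ := horb b
      obtain ⟨hB', hcase⟩ := hBi i b hb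
      have hper2 : per (y ^ i • b) = 2 := by
        rcases hlen (y ^ i • b) with e | e | e
        · exact absurd (Function.minimalPeriod_eq_one_iff_isFixedPt.1 e) (hdis _ hB')
        · exact e
        · exfalso
          have h : Function.IsPeriodicPt (y • ·) 2 (y ^ i • b) := by
            show (y • ·)^[2] _ = _
            rw [smul_iterate]; exact hB'.1
          have := h.minimalPeriod_dvd
          rw [show Function.minimalPeriod (y • ·) (y ^ i • b) = 4 from e] at this
          norm_num at this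
      rcases hcase with e | e
      · exact ⟨(false, Quotient.mk _ b), by simp [hi, hper2, hB'], by simp [hi, e]⟩
      · exact ⟨(true, Quotient.mk _ b), by simp [hi, hper2, hB'], by simp [hi, e, hyy b hb]⟩
  have hne : V y ≠ 1 := by
    rw [hprod, hcA]
    intro h
    have := orderOf_dvd_iff_pow_eq_one.mpr h
    rw [ha2] at this
    obtain ⟨c, hc⟩ := hB4
    rw [Nat.odd_iff] at hAodd
    omega
  refine ⟨V.ker, V.normal_ker, ?_⟩
  rw [Subgroup.index_ker]
  rcases (Nat.dvd_prime Nat.prime_two).mp (hQ2 ▸ Subgroup.card_subgroup_dvd_card V.range) with h | h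
  · exact absurd (mem_bot.mp (Subgroup.card_eq_one.1 h ▸ (⟨y, rfl⟩ : V y ∈ V.range))) hne
  · exact h

end Cfsg.Agent.Spor.HSType
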