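import Cfsg.Agent.Lib.Spor.HSType.Fused
import Cfsg.Agent.Lib.Spor.HSType.Parity

/-!
# The plane through the centre is moved in the normaliser of the homocyclic subgroup

Otherwise the transfer at an element of order four over the other involutions gives index two.
-/

set_option autoImplicit false
set_option linter.unusedSectionVars false
set_option maxRecDepth 100000
set_option maxHeartbeats 4000000

namespace Cfsg.Agent.Spor.HSType

open Subgroup

universe u

/-- The plane. -/
def inP (n : Fin 512) : Bool := n == 0 || n == 40 || n == 10 || n == 34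

/-- The parity of a vector. -/
def parV (v : Fin 64) : Bool := ((v : ℕ) % 4 + (v : ℕ) / 4 % 4 + (v : ℕ) / 16) % 2 == 1

/-- The parity defining a subgroup of index two. -/
def par1 (n : Fin 512) : Bool := xor (parV (vP n)) ((dP n : ℕ) / 4 == 1)

theorem par_tables : (∀ v w : Fin 64, parV (addV v w) = xor (parV v) (parV w)) ∧
    (∀ (d : Fin 8) (w : Fin 64), parV (actC d w) = parV w) ∧
    (∀ d e : Fin 8, ((mulD d e : ℕ) / 4 == 1) = xor ((d : ℕ) / 4 == 1) ((e : ℕ) / 4 == 1)) := by decide +kernel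

theorem par_mul (n m : Fin 512) : par1 (mulS n m) = xor (par1 n) (par1 m) := by
  rw [par1, par1, par1, mulS, vP_mkC, dP_mkC, par_tables.1, par_tables.2.1, par_tables.2.2]
  cases parV (vP n) <;> cases parV (vP m) <;> cases ((dP n : ℕ) / 4 == 1) <;> cases ((dP m : ℕ) / 4 == 1) <;> rfl

theorem plane_facts : par1 0 = false ∧ par1 1 = true ∧ mulS 1 1 = 2 ∧ inP 40 = true ∧ inP 2 = false ∧ centCard 2 = 128 ∧
    mulS (mulS 1 1) (mulS 1 1) = 0 := by
  decide +kernel

theorem plane_sq : ∀ n : Fin 512, inK n = true → par1 n = false → inP (mulS n n) = true := by decide +kernel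

theorem par_inv : ∀ n : Fin 512, isInv n = true → par1 n = true → centCard n ≤ 32 := by decide +kernel

theorem inP_inV : ∀ n : Fin 512, inP n = true → inV n = true := by decide +kernel

variable {G : Type u} [Group G] [Finite G]

namespace Setting

variable (d : Setting G)

/-- The plane is moved. -/
theorem moves_plane : ∃ n ∈ normalizer (d.subK : Set G), ∃ p q : Fin 512, inP p = true ∧ inP q = false ∧
    n * d.s.φ p * n⁻¹ = d.s.φ q := by
  by_contra hno
  push Not at hno
  obtain ⟨p0, p1, h11, hP40, hP2, hc2, h4⟩ := plane_facts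
  let M : Subgroup G := d.s.sub (fun n => !par1 n) (by simp [p0]) (fun n m a b => by
    rw [Bool.not_eq_true'] at a b ⊢; rw [par_mul, a, b]; rfl) (fun n a => by
    have h := par_mul n (invS n)
    rw [(inv_spec n).1, p0] at h
    rw [Bool.not_eq_true'] at a ⊢
    rw [a, Bool.false_xor] at h
    exact h.symm)
  have hMS : M ≤ (d.S : Subgroup G) := d.s.sub_le
  have hidx : M.relIndex (d.S : Subgroup G) = 2 := by
    refine Subgroup.index_eq_two_iff.2 ⟨⟨d.s.φ 1, d.s.mem 1⟩, fun b => ?_⟩
    obtain ⟨n, hn⟩ := d.s.surj b b.2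
    simp only [mem_subgroupOf, Subgroup.coe_mul, ← hn, d.s.mul]
    rw [show M = d.s.sub _ _ _ _ from rfl, d.s.mem_sub, d.s.mem_sub, Bool.not_eq_true', Bool.not_eq_true',
      par_mul, p1]
    cases par1 n <;> simp
  have hy : d.s.φ 1 ^ 2 = d.s.φ 2 := by rw [pow_two, d.s.mul, h11]
  have hback : ∀ n ∈ normalizer (d.subK : Set G), ∀ q : Fin 512, n * d.s.φ 2 * n⁻¹ = d.s.φ q → inP q = false := by
    intro n hn q hq
    by_contra h
    refine hno n⁻¹ (inv_mem hn) q 2 (by simpa using h) hP2 ?_
    rw [← hq]; group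
  have h1 : ∀ g : G, g * d.s.φ 1 * g⁻¹ ∈ M →
      2 * Nat.card ↥((d.S : Subgroup G) ⊓ centralizer ({g * d.s.φ 1 * g⁻¹} : Set G)) ≤ Nat.card ↥d.subK := by
    rintro g ⟨b, hb, e⟩
    rw [← e, d.card_centS, d.card_subK]
    simp only [Set.mem_ofPred_eq, Bool.not_eq_true'] at hb
    have e2 : g * d.s.φ 2 * g⁻¹ = d.s.φ (mulS b b) := by rw [← d.s.mul, e, ← hy, pow_two]; group
    by_cases hbK : inK b = true
    · exfalso
      obtain ⟨n, hn, hne⟩ := d.control (x := d.s.φ 1) (g := g) (d.s.mem_sub.2 (by decide))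
        (e ▸ d.s.mem_sub.2 hbK)
      have := hback n hn (mulS b b) (by rw [← hy, ← d.s.mul, e, ← hne, pow_two]; group)
      rw [plane_sq b hbK hb] at this
      exact Bool.noConfusion this
    · by_contra hlt
      have hb64 : 64 ≤ (b : ℕ) := not_lt.1 fun h => hbK (by simp [inK, h])
      rcases cent_square b hb64 (by omega) with hz | hz
      · rw [hz, d.s.one] at e2
        exact absurd (d.s.eq_one.1 ((conj_eq_one_iff (a := g)).1 e2)) (by decide)
      · rw [hz] at e2
        obtain ⟨n, hn, hne⟩ := d.control (x := d.s.φ 2) (g := g) (d.s.mem_sub.2 (by decide))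
          (e2 ▸ d.subV_le_subK d.z_mem_V)
        have := hback n hn 40 (hne.trans e2)
        rw [hP40] at this
        exact Bool.noConfusion this
  have h2 : ∀ g : G, g * d.s.φ 1 ^ 2 * g⁻¹ ∈ (d.S : Subgroup G) → g * d.s.φ 1 ^ 2 * g⁻¹ ∉ M →
      4 * Nat.card ↥((d.S : Subgroup G) ⊓ centralizer ({g * d.s.φ 1 ^ 2 * g⁻¹} : Set G)) ≤
        Nat.card ↥((d.S : Subgroup G) ⊓ centralizer ({d.s.φ 2} : Set G)) := by
    intro g hg hgM
    obtain ⟨s, hs⟩ := d.s.surj _ hg
    rw [← hs] at hgM
    rw [← hs, d.card_centS, d.card_centS, hc2]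
    have hsp : par1 s = true := by
      by_contra h
      exact hgM (d.s.mem_sub.2 (by simpa using h))
    have hsi : isInv s = true := d.isInv_of_isConj (n := 2) (by decide +kernel)
      (isConj_iff.2 ⟨g, by rw [hs, hy]⟩)
    have := par_inv s hsi hsp
    omega
  obtain ⟨H, hH, hi⟩ := exists_index_two_of_parity d.S M hMS hidx (y := d.s.φ 1) (d.s.mem 1)
    (fun h => by rw [show M = d.s.sub _ _ _ _ from rfl, d.s.mem_sub, p1] at h; exact Bool.noConfusion h)
    (by rw [show (4 : ℕ) = 2 * 2 from rfl, pow_mul, hy, pow_two, ← h11, d.s.mul, h4, d.s.one])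
    d.subK (d.S.isPGroup'.to_le d.subK_le)
    (fun a ha => mem_centralizer_singleton_iff.2 (d.comm_subK ha (d.s.mem_sub.2 (by decide)))) h1
    _ (d.S.isPGroup'.to_le inf_le_left) (hy.symm ▸ inf_le_right) h2
  exact d.no_index_two H hH hi

end Setting

end Cfsg.Agent.Spor.HSType
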