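import Cfsg.Agent.Lib.Spor.HSType.Code

/-!
# Groups of order 512 with the shape of the Sylow 2-subgroup of the Higman-Sims group
-/

set_option autoImplicit false
set_option linter.unusedSectionVars false
set_option maxRecDepth 100000

namespace Cfsg.Agent.Spor.HSType

open Subgroup Cfsg.Agent.Grp.HSCent

variable {G : Type*} [Group G]

/-- A coordinatisation of a subgroup by the codes. -/
structure Shape (S : Subgroup G) where
  φ : Fin 512 → G
  mem : ∀ n, φ n ∈ S
  inj : Function.Injective φ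
  surj : ∀ g ∈ S, ∃ n, φ n = g
  mul : ∀ n m, φ n * φ m = φ (mulS n m)

namespace Shape

variable {S : Subgroup G} (s : Shape S)

theorem one : s.φ 0 = 1 := by
  have h : s.φ 0 * s.φ 0 = s.φ 0 := by rw [s.mul, (inv_spec 0).2.2.1]
  exact mul_eq_left.1 h

theorem inv (n : Fin 512) : (s.φ n)⁻¹ = s.φ (invS n) :=
  inv_eq_of_mul_eq_one_right (by rw [s.mul, (inv_spec n).1, s.one])

theorem conj (g n : Fin 512) : s.φ g * s.φ n * (s.φ g)⁻¹ = s.φ (conjS g n) := by
  rw [s.inv, s.mul, s.mul]; rfl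

theorem eq_one {n : Fin 512} : s.φ n = 1 ↔ n = 0 := by rw [← s.one, s.inj.eq_iff]

theorem commute {n m : Fin 512} : s.φ n * s.φ m = s.φ m * s.φ n ↔ commS n m = true := by
  rw [s.mul, s.mul, s.inj.eq_iff, commS, beq_iff_eq]

theorem sq {n : Fin 512} : s.φ n * s.φ n = 1 ↔ mulS n n = 0 := by rw [s.mul, s.eq_one]

theorem orderOf_two {n : Fin 512} : orderOf (s.φ n) = 2 ↔ isInv n = true := by
  rw [orderOf_eq_prime_iff, pow_two, s.sq, Ne, s.eq_one, isInv, Bool.and_eq_true, beq_iff_eq, bne_iff_ne, and_comm]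

/-- A set of codes closed under products as a subgroup. -/
def sub (p : Fin 512 → Bool) (h1 : p 0 = true) (hm : ∀ n m, p n = true → p m = true → p (mulS n m) = true)
    (hi : ∀ n, p n = true → p (invS n) = true) : Subgroup G where
  carrier := s.φ '' {n | p n = true}
  one_mem' := ⟨0, h1, s.one⟩
  mul_mem' := by
    rintro _ _ ⟨n, hn, rfl⟩ ⟨m, hm', rfl⟩
    exact ⟨mulS n m, hm n m hn hm', (s.mul n m).symm⟩
  inv_mem' := by
    rintro _ ⟨n, hn, rfl⟩
    exact ⟨invS n, hi n hn, (s.inv n).symm⟩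

theorem mem_sub {p : Fin 512 → Bool} {h1} {hm} {hi} {n : Fin 512} : s.φ n ∈ s.sub p h1 hm hi ↔ p n = true :=
  ⟨fun ⟨_, hm', e⟩ => s.inj e ▸ hm', fun h => ⟨n, h, rfl⟩⟩

theorem sub_le {p : Fin 512 → Bool} {h1} {hm} {hi} : s.sub p h1 hm hi ≤ S := by
  rintro _ ⟨n, -, rfl⟩; exact s.mem n

theorem card_sub {p : Fin 512 → Bool} {h1} {hm} {hi} :
    Nat.card ↥(s.sub p h1 hm hi) = (Finset.univ.filter fun n => p n = true).card := by
  rw [show Nat.card ↥(s.sub p h1 hm hi) = (s.φ '' {n | p n = true}).ncard from Nat.card_coe_set_eq _,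
    Set.ncard_image_of_injective _ s.inj, ← Set.ncard_coe_finset, Finset.coe_filter]
  simp

include s in
theorem card : Nat.card ↥S = 512 := by
  have h := Nat.card_eq_of_bijective (fun n : Fin 512 => (⟨s.φ n, s.mem n⟩ : S))
    ⟨fun _ _ h => s.inj (congrArg Subtype.val h), fun ⟨g, hg⟩ => by
      obtain ⟨n, hn⟩ := s.surj g hg
      exact ⟨n, Subtype.ext hn⟩⟩
  rw [← h, Nat.card_eq_fintype_card, Fintype.card_fin]

/-- Transport along an isomorphism of the subgroups. -/
def ofEquiv {H : Type*} [Group H] {T : Subgroup H} (e : ↥S ≃* ↥T) : Shape T where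
  φ n := e ⟨s.φ n, s.mem n⟩
  mem n := (e _).2
  inj _ _ h := s.inj (congrArg Subtype.val (e.injective (Subtype.ext h)))
  surj g hg := by
    obtain ⟨n, hn⟩ := s.surj _ (e.symm ⟨g, hg⟩).2
    refine ⟨n, ?_⟩
    rw [show (⟨s.φ n, s.mem n⟩ : ↥S) = e.symm ⟨g, hg⟩ from Subtype.ext hn, e.apply_symm_apply]
  mul n m := by
    rw [← Subgroup.coe_mul, ← map_mul]
    exact congrArg (fun x : ↥S => ((e x : ↥T) : H)) (Subtype.ext (s.mul n m))

/-- The image under a homomorphism injective on the subgroup. -/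
def map {H : Type*} [Group H] (f : G →* H) (hf : ∀ x ∈ S, f x = 1 → x = 1) : Shape (S.map f) where
  φ n := f (s.φ n)
  mem n := ⟨_, s.mem n, rfl⟩
  inj n m h := s.inj (mul_inv_eq_one.1 (hf _ (S.mul_mem (s.mem n) (S.inv_mem (s.mem m))) (by
    rw [_root_.map_mul, _root_.map_inv, show f (s.φ n) = f (s.φ m) from h, mul_inv_cancel])))
  surj g hg := by
    obtain ⟨x, hx, rfl⟩ := hg
    obtain ⟨n, rfl⟩ := s.surj x hx
    exact ⟨n, rfl⟩
  mul n m := by rw [← _root_.map_mul, s.mul]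

end Shape

/-- The generators of the homocyclic and of the dihedral part. -/
structure Gens (k0 k1 k2 p q : G) : Prop where
  tri : Tri k0 k1 k2
  p4 : p ^ 4 = 1
  q2 : q * q = 1
  qp : q * p = p⁻¹ * q
  actP : ∀ x, p * kel k0 k1 k2 x = kel k0 k1 k2 (vm x Pm) * p
  actQ : ∀ x, q * kel k0 k1 k2 x = kel k0 k1 k2 (vm x Am) * q

/-- The element of the dihedral part. -/
def dEl (p q : G) (d : Fin 8) : G := p ^ ((d : ℕ) % 4) * q ^ ((d : ℕ) / 4)

/-- The value of a code. -/
def val (k0 k1 k2 p q : G) (n : Fin 512) : G := kel k0 k1 k2 (toZ (vP n)) * dEl p q (dP n)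

namespace Gens

variable {k0 k1 k2 p q : G} (h : Gens k0 k1 k2 p q)

include h

theorem pow_act : ∀ (i : ℕ) (x : Z3), p ^ i * kel k0 k1 k2 x = kel k0 k1 k2 (vm x (pw3 Pm i)) * p ^ i
  | 0, x => by simp [pw3, vm_one]
  | i + 1, x => by
    rw [pow_succ', mul_assoc, pow_act i x, ← mul_assoc, h.actP, vm_assoc, mul_assoc, pw3]

theorem d_act (d : Fin 8) (x : Z3) : dEl p q d * kel k0 k1 k2 x = kel k0 k1 k2 (vm x (matD d)) * dEl p q d := by
  rcases (show (d : ℕ) / 4 = 0 ∨ (d : ℕ) / 4 = 1 by omega) with e | e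
  · simp only [dEl, matD, e, zero_ne_one, if_false, pow_zero, mul_one, h.pow_act]
  · simp only [dEl, matD, e, if_true, pow_one]
    rw [mul_assoc, h.actQ, ← mul_assoc, h.pow_act, vm_assoc, mul_assoc]

theorem d_mul (d e : Fin 8) : dEl p q d * dEl p q e = dEl p q (mulD d e) := by
  have hp : ∀ a b : ℕ, a % 4 = b % 4 → p ^ a = p ^ b := fun a b hab => by
    rw [← Nat.div_add_mod a 4, ← Nat.div_add_mod b 4, pow_add, pow_add, pow_mul, pow_mul, h.p4, one_pow, one_pow, hab]
  have hq : ∀ a : ℕ, q ^ a = q ^ (a % 2) := fun a => by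
    conv_lhs => rw [← Nat.div_add_mod a 2, pow_add, pow_mul, pow_two, h.q2, one_pow, one_mul]
  have hqi : ∀ i : ℕ, q * p ^ i = p⁻¹ ^ i * q := by
    intro i
    induction i with
    | zero => simp
    | succ i ih => rw [pow_succ, ← mul_assoc, ih, mul_assoc, h.qp, ← mul_assoc, pow_succ]
  have hinv : ∀ i : ℕ, i < 4 → p⁻¹ ^ i = p ^ (4 - i) := fun i hi => by
    rw [inv_pow, inv_eq_iff_mul_eq_one, ← pow_add, show i + (4 - i) = 4 by omega, h.p4]
  simp only [dEl, mulD]
  rcases (show (d : ℕ) / 4 = 0 ∨ (d : ℕ) / 4 = 1 by omega) with a | a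
  · simp only [a, zero_ne_one, if_false, pow_zero, mul_one, zero_add, ← mul_assoc, ← pow_add]
    rw [hp ((d : ℕ) % 4 + (e : ℕ) % 4) (((d : ℕ) % 4 + (e : ℕ) % 4) % 4) (by omega), hq ((e : ℕ) / 4)]
    congr 2 <;> omega
  · simp only [a, if_true, pow_one]
    rw [mul_assoc, ← mul_assoc q, hqi, hinv _ (Nat.mod_lt _ (by norm_num)), mul_assoc, ← mul_assoc, ← pow_add,
      ← pow_succ', hq ((e : ℕ) / 4 + 1), hp _ (((d : ℕ) % 4 + (4 - (e : ℕ) % 4)) % 4) (by omega)]
    congr 2 <;> omega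

theorem val_mul (n m : Fin 512) : val k0 k1 k2 p q n * val k0 k1 k2 p q m = val k0 k1 k2 p q (mulS n m) := by
  unfold val mulS
  rw [vP_mkC, dP_mkC, add_table, act_table, kel_add h.tri, ← h.d_mul]
  calc _ = kel k0 k1 k2 (toZ (vP n)) * (dEl p q (dP n) * kel k0 k1 k2 (toZ (vP m))) * dEl p q (dP m) := by
        simp only [mul_assoc]
    _ = _ := by rw [h.d_act]; simp only [mul_assoc]

/-- Building a coordinatisation from generators. -/
theorem exists_shape {S : Subgroup G} (hS : Nat.card ↥S = 512) (h0 : k0 ∈ S) (h1 : k1 ∈ S) (h2 : k2 ∈ S)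
    (hpS : p ∈ S) (hqS : q ∈ S) (hker : ∀ n, val k0 k1 k2 p q n = 1 → n = 0) : Nonempty (Shape S) := by
  have hmem : ∀ n, val k0 k1 k2 p q n ∈ S := fun n => mul_mem
    (mul_mem (mul_mem (pow_mem h0 _) (pow_mem h1 _)) (pow_mem h2 _)) (mul_mem (pow_mem hpS _) (pow_mem hqS _))
  have hz : val k0 k1 k2 p q 0 = 1 := by
    have h' := h.val_mul 0 0
    rw [(inv_spec 0).2.2.1] at h'
    exact mul_eq_left.1 h'
  have hinj : Function.Injective (val k0 k1 k2 p q) := by
    intro n m e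
    have h1 : mulS n (invS m) = 0 := hker _ (by rw [← h.val_mul, e, h.val_mul, (inv_spec m).1, hz])
    have h2 : ∀ n m : Fin 512, mulS n (invS m) = 0 → val k0 k1 k2 p q n = val k0 k1 k2 p q m → n = m := by
      intro n m hnm _
      have hv : ∀ v w : Fin 64, ∀ d e : Fin 8, mulS (mkC v d) (invS (mkC w e)) = 0 → mkC v d = mkC w e := by
        intro v w d e h0
        simp only [mulS, invS, vP_mkC, dP_mkC] at h0
        have hd := congrArg dP h0
        have hw := congrArg vP h0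
        rw [dP_mkC] at hd
        rw [vP_mkC] at hw
        have f1 : ∀ d e : Fin 8, mulD d (invD e) = dP 0 → d = e := by decide +kernel
        obtain rfl := f1 d e hd
        have f2 : ∀ d : Fin 8, ∀ v w : Fin 64, addV v (actC d (actC (invD d) (negV w))) = vP 0 → v = w := by
          decide +kernel
        rw [f2 d v w hw]
      have := hv (vP n) (vP m) (dP n) (dP m) (by rw [mkC_parts, mkC_parts]; exact hnm)
      rwa [mkC_parts, mkC_parts] at this
    exact h2 n m h1 e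
  let f : Fin 512 → ↥S := fun n => ⟨val k0 k1 k2 p q n, hmem n⟩
  have : Finite ↥S := Nat.finite_of_card_ne_zero (by omega)
  have hf : Function.Bijective f := (Nat.bijective_iff_injective_and_card f).2
    ⟨fun n m e => hinj (congrArg Subtype.val e), by rw [hS, Nat.card_eq_fintype_card, Fintype.card_fin]⟩
  exact ⟨{ φ := val k0 k1 k2 p q, mem := hmem, inj := hinj, mul := h.val_mul,
           surj := fun g hg => by obtain ⟨n, hn⟩ := hf.2 ⟨g, hg⟩; exact ⟨n, congrArg Subtype.val hn⟩ }⟩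

end Gens

end Cfsg.Agent.Spor.HSType
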