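import Cfsg.Agent.Lib.Spor.HSType.Classes
import Cfsg.Agent.Lib.Transfer.NoEight.Xfer

/-!
# Exactly two classes of involutions
-/

set_option autoImplicit false
set_option linter.unusedSectionVars false
set_option maxRecDepth 100000
set_option maxHeartbeats 4000000

namespace Cfsg.Agent.Spor.HSType

open Subgroup

universe u

/-- The class fused to the centre beside 3 and 7. -/
def sCls (b : Bool) : Fin 9 := if b then 6 else 5

/-- The other class of the same coset. -/
def uCls (b : Bool) : Fin 9 := if b then 5 else 6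

/-- The members of the class of the centre. -/
def inZ (b : Bool) (n : Fin 512) : Bool :=
  inC 0 n || inC 1 n || inC 2 n || inC 3 n || inC 7 n || inC (sCls b) n

theorem cls_split : ∀ (b : Bool) (k : Fin 9), k ∈ ([0, 1, 2, 3, 7, sCls b] : List (Fin 9)) ∨
    k ∈ ([4, 8, uCls b] : List (Fin 9)) := by decide +kernel

theorem V_point : ∀ k : Fin 9, k ∈ ([0, 1, 2] : List (Fin 9)) → ∃ i : Fin 8, i ≠ 0 ∧ vcode i = rep k := by
  decide +kernel

theorem four_codes : rep 3 = 128 ∧ rep 4 = 133 ∧ rep 7 = 256 ∧ rep 8 = 257 ∧ rep 5 = 320 ∧ rep 6 = 339 ∧ rep 0 = 40 := by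
  decide

variable {G : Type u} [Group G] [Finite G]

namespace Setting

variable (d : Setting G)

/-- The involutions of the elementary subgroup are fused to the centre. -/
theorem z_conj_V {n : Fin 512} (hn : inV n = true) (h0 : n ≠ 0) : IsConj d.z (d.s.φ n) := by
  obtain ⟨i, rfl⟩ := (vcode_inV n).1 hn
  obtain ⟨m, -, e⟩ := d.real_transitive (i := i) (fun h => h0 (by rw [h, point_codes.1]))
  exact isConj_iff.2 ⟨m, e⟩

/-- Some outer involution is fused to the centre. -/
theorem z_outer : ∃ n : Fin 512, isInv n = true ∧ inV n = false ∧ IsConj d.z (d.s.φ n) := by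
  by_contra hno
  push Not at hno
  haveI := d.simple
  have hsc : Cfsg.IsStronglyClosed d.subV (d.S : Subgroup G) := by
    refine ⟨d.s.sub_le, fun x hx g hg => ?_⟩
    obtain ⟨n, hn, rfl⟩ := hx
    obtain ⟨m, hm⟩ := d.s.surj _ hg
    by_cases h0 : n = 0
    · rw [h0, d.s.one, mul_one, mul_inv_cancel]; exact one_mem _
    have hc : IsConj d.z (d.s.φ m) := (d.z_conj_V hn h0).trans (isConj_iff.2 ⟨g, hm.symm⟩)
    rw [← hm]
    refine d.s.mem_sub.2 (by_contra fun h => ?_)
    exact hno m (d.isInv_of_isConj forty_facts.1 hc) (by simpa using h) hc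
  let E : Subgroup G := d.s.sub inE16 E16_closed.1 (fun n m a b => (E16_closed.2.1 n a m b).1)
    fun n a => (E16_closed.2.2.1 n a).2
  have hE : Cfsg.IsElementaryAbelian 2 E := by
    refine ⟨⟨⟨fun a b => Subtype.ext ?_⟩⟩, fun x hx => ?_⟩
    · obtain ⟨n, hn, e1⟩ := a.2
      obtain ⟨m, hm, e2⟩ := b.2
      show (a : G) * b = b * a
      rw [← e1, ← e2]
      exact d.s.commute.2 (E16_closed.2.1 n hn m hm).2
    · obtain ⟨n, hn, rfl⟩ := hx
      rw [pow_two]
      exact d.s.sq.2 (E16_closed.2.2.1 n hn).1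
  have hA : IsMulCommutative ↥d.subV :=
    ⟨⟨fun a b => Subtype.ext (d.comm_subK (d.subV_le_subK a.2) (d.subV_le_subK b.2))⟩⟩
  have h := Transfer.NoEight.card_le_of_stronglyClosed d.nc d.S d.subV hA
    (fun e => by have := d.card_subV; rw [e, Subgroup.card_bot] at this; norm_num at this) hsc hE
  rw [show E = d.s.sub _ _ _ _ from rfl, d.s.card_sub, E16_closed.2.2.2, d.card_subV] at h
  omega

/-- The classes. -/
theorem two_classes : ∃ b : Bool, (∀ k : Fin 9, k ∈ ([0, 1, 2, 3, 7, sCls b] : List (Fin 9)) → IsConj d.z (d.s.φ (rep k))) ∧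
    ∀ k : Fin 9, k ∈ ([4, 8, uCls b] : List (Fin 9)) → IsConj (d.s.φ 133) (d.s.φ (rep k)) := by
  obtain ⟨h37, h48⟩ := d.fuse_A
  obtain ⟨r3, r4, r7, r8, r5, r6, r0⟩ := four_codes
  obtain ⟨b, hb3, hb4⟩ : ∃ b : Bool, IsConj (d.s.φ 128) (d.s.φ (rep (sCls b))) ∧
      IsConj (d.s.φ 133) (d.s.φ (rep (uCls b))) := by
    rcases d.fuse_B with ⟨h, h'⟩ | ⟨h, h'⟩
    · exact ⟨false, by simpa [sCls, r5] using h, by simpa [uCls, r6] using h'⟩
    · exact ⟨true, by simpa [sCls, r6] using h, by simpa [uCls, r5] using h'⟩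
  have hu : ∀ k : Fin 9, k ∈ ([4, 8, uCls b] : List (Fin 9)) → IsConj (d.s.φ 133) (d.s.φ (rep k)) := by
    intro k hk
    simp only [List.mem_cons, List.not_mem_nil, or_false] at hk
    rcases hk with rfl | rfl | rfl
    · rw [r4]
    · rw [r8]; exact h48
    · exact hb4
  have h3 : IsConj d.z (d.s.φ 128) := by
    obtain ⟨n, hn, hnV, hnc⟩ := d.z_outer
    obtain ⟨k, hk⟩ := (inC_inv n).1 hn
    have hz := hnc.trans (d.conj_rep hk).symm
    rcases cls_split b k with h | h
    · simp only [List.mem_cons, List.not_mem_nil, or_false] at h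
      rcases h with rfl | rfl | rfl | rfl | rfl | rfl
      iterate 3
        exfalso
        rw [(inV_classes n).2 (Or.inr (by simp [hk]))] at hnV
        exact Bool.noConfusion hnV
      · rwa [r3] at hz
      · rw [r7] at hz; exact hz.trans h37.symm
      · exact hz.trans hb3.symm
    · exact absurd ((hu k h).trans hz.symm) d.four_not_z
  refine ⟨b, fun k hk => ?_, hu⟩
  simp only [List.mem_cons, List.not_mem_nil, or_false] at hk
  rcases hk with h | h | h | rfl | rfl | rfl
  rotate_left 3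
  · rwa [r3]
  · rw [r7]; exact h3.trans h37
  · exact h3.trans hb3
  all_goals
    obtain ⟨i, hi, e⟩ := V_point k (by simp [h])
    rw [← e]
    refine d.z_conj_V ((vcode_inV _).2 ⟨i, rfl⟩) fun e0 => hi (vcode_inj (e0.trans point_codes.1.symm))

end Setting

end Cfsg.Agent.Spor.HSType
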